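import Cfsg.Agent.PGroups.AutTwoGroup

/-!
Subgroups of dihedral 2-groups: the automorphism group is a 2-group unless the subgroup is a
four-group.
-/

set_option autoImplicit false

namespace Cfsg.Lib.TwoFusion

open Subgroup

theorem isPGroup_mulAut_cyclic {C : Type*} [Group C] [Finite C] [IsCyclic C] (h : IsPGroup 2 C) :
    IsPGroup 2 (MulAut C) := by
  haveI : Fact (Nat.Prime 2) := ⟨Nat.prime_two⟩
  obtain ⟨k, hk⟩ := IsPGroup.iff_card.mp h
  haveI : Finite (MulAut C) := Finite.of_injective (fun f : MulAut C => (f : C → C)) DFunLike.coe_injective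
  refine IsPGroup.of_card (n := k - 1) ?_
  rw [IsCyclic.card_mulAut, hk]
  rcases Nat.eq_zero_or_pos k with rfl | hpos
  · simp
  · rw [Nat.totient_prime_pow Nat.prime_two hpos]; omega

theorem isPGroup_mulAut_or_isKleinFour_dihedral {m : ℕ} [NeZero m] (P : Subgroup (DihedralGroup m))
    (hP : IsPGroup 2 P) : IsPGroup 2 (MulAut P) ∨ IsKleinFour P := by
  classical
  set R : Subgroup (DihedralGroup m) := zpowers (DihedralGroup.r 1) with hR
  have hrot : ∀ i, DihedralGroup.r i ∈ R := fun i => ⟨(i.val : ℤ), by simp [DihedralGroup.r_one_pow]⟩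
  by_cases hPR : P ≤ R
  · haveI : IsCyclic P := isCyclic_of_injective (Subgroup.inclusion hPR) (inclusion_injective hPR)
    exact Or.inl (isPGroup_mulAut_cyclic hP)
  obtain ⟨t, htP, htR⟩ := SetLike.not_le_iff_exists.mp hPR
  set C : Subgroup P := R.subgroupOf P with hC
  have hout : ∀ x : P, x ∉ C → x * x = 1 ∧ ∀ y : P, y ∉ C → x * y ∈ C := by
    rintro ⟨x, hx⟩ hxC
    rcases x with i | i
    · exact absurd (hrot i) hxC
    refine ⟨Subtype.ext (DihedralGroup.sr_mul_self i), ?_⟩
    rintro ⟨y, hy⟩ hyC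
    rcases y with j | j
    · exact absurd (hrot j) hyC
    · rw [hC, mem_subgroupOf, Subgroup.coe_mul, DihedralGroup.sr_mul_sr]
      exact hrot _
  haveI : IsCyclic C := isCyclic_of_injective
    (((P.subtype.comp C.subtype).codRestrict R fun x => x.2) : C →* R) fun a b h => by
      exact Subtype.ext (Subtype.ext (congrArg (fun z : R => (z : DihedralGroup m)) h))
  obtain ⟨⟨c, hc⟩, hgen⟩ := IsCyclic.exists_generator (α := C)
  set tt : P := ⟨t, htP⟩
  have httC : tt ∉ C := htR
  have hCz : C = zpowers c := le_antisymm (fun x hx => by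
    obtain ⟨k, hk⟩ := hgen ⟨x, hx⟩
    exact ⟨k, congrArg Subtype.val hk⟩) (zpowers_le.mpr hc)
  have hdecomp : ∀ x : P, x ∈ C ∨ ∃ y ∈ C, x = y * tt := fun x => by
    by_cases hx : x ∈ C
    · exact Or.inl hx
    · refine Or.inr ⟨x * tt, (hout x hx).2 tt httC, ?_⟩
      rw [mul_assoc, (hout tt httC).1, mul_one]
  have hindex : C.index = 2 := by
    rw [Subgroup.index_eq_two_iff]
    refine ⟨tt, fun x => ?_⟩
    by_cases hx : x ∈ C
    · exact Or.inr ⟨hx, fun h => httC (by simpa using C.mul_mem (C.inv_mem hx) h)⟩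
    · exact Or.inl ⟨(hout x hx).2 tt httC, hx⟩
  have hcard : Nat.card P = 2 * orderOf c := by
    rw [← C.card_mul_index, hindex, hCz, Nat.card_zpowers, mul_comm]
  rcases Nat.lt_or_ge 2 (orderOf c) with hbig | hsmall
  · refine Or.inl ?_
    have hncomm : c * tt ≠ tt * c := by
      intro e
      have h1 := (hout (c * tt) fun h => httC (by simpa using C.mul_mem (C.inv_mem hc) h)).1
      rw [show c * tt * (c * tt) = c * (c * tt) * tt by rw [mul_assoc c tt, ← mul_assoc tt c, ← e]; simp [mul_assoc],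
        show c * (c * tt) * tt = c ^ 2 * (tt * tt) by simp [pow_two, mul_assoc], (hout tt httC).1,
        mul_one] at h1
      exact absurd (Nat.le_of_dvd two_pos (orderOf_dvd_of_pow_eq_one h1)) (by omega)
    refine Cfsg.Lib.MetaTwo.isPGroup_mulAut_of_char hP (fun hcyc => hncomm ?_) c tt ?_ C hindex
      fun a q hq => ?_
    · letI := hcyc.commGroup
      exact mul_comm _ _
    · refine (eq_top_iff' _).mpr fun x => ?_
      have hCle : C ≤ closure ({c, tt} : Set P) := by
        rw [hCz, zpowers_le]; exact subset_closure (Set.mem_insert _ _)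
      rcases hdecomp x with hx | ⟨y, hy, rfl⟩
      · exact hCle hx
      · exact mul_mem (hCle hy) (subset_closure (Set.mem_insert_of_mem _ rfl))
    · rw [hCz] at hq
      obtain ⟨k, rfl⟩ := hq
      rw [map_zpow]
      refine C.zpow_mem ?_ k
      by_contra h
      have h2 := orderOf_dvd_of_pow_eq_one ((pow_two (a c)).trans (hout (a c) h).1)
      rw [MulEquiv.orderOf_eq] at h2
      exact absurd (Nat.le_of_dvd two_pos h2) (by omega)
  have hcpos := orderOf_pos c
  rcases (show orderOf c = 1 ∨ orderOf c = 2 by omega) with h1 | h2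
  · haveI : IsCyclic P := isCyclic_of_prime_card (p := 2) (by rw [hcard, h1])
    exact Or.inl (isPGroup_mulAut_cyclic hP)
  · refine Or.inr ⟨by rw [hcard, h2], ?_⟩
    refine Nat.dvd_antisymm ?_ ?_
    · rw [Monoid.exponent_dvd_iff_forall_pow_eq_one]
      intro x
      by_cases hx : x ∈ C
      · rw [hCz] at hx
        obtain ⟨k, rfl⟩ := hx
        show (c ^ k) ^ 2 = 1
        rw [← zpow_natCast (c ^ k) 2, ← zpow_mul, mul_comm, zpow_mul, zpow_natCast, ← h2,
          pow_orderOf_eq_one, one_zpow]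
      · rw [pow_two]; exact (hout x hx).1
    · rw [← h2]; exact Monoid.order_dvd_exponent c

theorem isPGroup_mulAut_or_isKleinFour {G : Type*} [Group G] {S U : Subgroup G} [Finite S] {m : ℕ}
    (hS : IsPGroup 2 S) (e : S ≃* DihedralGroup m) (hU : U ≤ S) :
    IsPGroup 2 (MulAut U) ∨ IsKleinFour U := by
  haveI : NeZero m := ⟨by
    intro hm
    subst hm
    haveI : Finite (DihedralGroup 0) := Finite.of_equiv _ e.toEquiv
    exact not_finite (DihedralGroup 0)⟩
  let f : U →* DihedralGroup m := e.toMonoidHom.comp (Subgroup.inclusion hU)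
  have hf : Function.Injective f := e.injective.comp (inclusion_injective hU)
  let eU : U ≃* f.range := MonoidHom.ofInjective hf
  rcases isPGroup_mulAut_or_isKleinFour_dihedral f.range
    ((hS.to_le hU).of_equiv eU) with h | h
  · exact Or.inl (Cfsg.Lib.MetaTwo.isPGroup_mulAut_congr eU.symm h)
  · refine Or.inr ⟨?_, ?_⟩
    · rw [Nat.card_congr eU.toEquiv]; exact h.card_four
    · rw [Monoid.exponent_eq_of_mulEquiv eU]; exact h.exponent_two

/-- An odd order element inducing a 2-element automorphism centralizes. -/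
theorem mem_centralizer_of_coprime {G : Type*} [Group G] [Finite G] {U : Subgroup G} {g : G}
    (hg : g ∈ normalizer (U : Set G)) (hcop : (orderOf g).Coprime 2)
    (h : ∃ k : ℕ, (U.normalizerMonoidHom ⟨g, hg⟩) ^ 2 ^ k = 1) : g ∈ centralizer (U : Set G) := by
  obtain ⟨k, hk⟩ := h
  set a := U.normalizerMonoidHom ⟨g, hg⟩
  have h1 : orderOf a ∣ orderOf g := by
    have := orderOf_map_dvd U.normalizerMonoidHom ⟨g, hg⟩
    rwa [Subgroup.orderOf_mk] at this
  have h2 : orderOf a = 1 := Nat.eq_one_of_dvd_coprimes (hcop.pow_right k) h1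
    (orderOf_dvd_of_pow_eq_one hk)
  have h3 : (⟨g, hg⟩ : normalizer (U : Set G)) ∈ U.normalizerMonoidHom.ker :=
    orderOf_eq_one_iff.mp h2
  rw [Subgroup.normalizerMonoidHom_ker] at h3
  exact h3

end Cfsg.Lib.TwoFusion
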