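import Mathlib
import Cfsg.Prelude.Def_CaseTheorems
import Cfsg.Agent.Components.Cores

/-!
Applications of the transfer to subgroups of index prime to `p`.
-/

set_option autoImplicit false

namespace Cfsg.Lib.TwoFusion

open Subgroup MulAction

variable {G : Type*} [Group G] [Finite G] {A : Type*} [CommGroup A]

/-- The transfer at an element all of whose conjugates in `H` have the expected image. -/
theorem transfer_eq_pow_of_image {H : Subgroup G} (ϕ : H →* A) (g : H)
    (key : ∀ (k : ℕ) (a : G) (h : a⁻¹ * (g : G) ^ k * a ∈ H), ϕ ⟨_, h⟩ = ϕ (g ^ k)) :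
    MonoidHom.transfer ϕ (g : G) = ϕ g ^ H.index := by
  classical
  letI := H.fintypeQuotientOfFiniteIndex
  rw [MonoidHom.transfer_eq_prod_quotient_orbitRel_zpowers_quot, index_eq_sum_minimalPeriod H (g : G),
    ← Finset.prod_pow_eq_pow_sum]
  refine Finset.prod_congr rfl fun q _ => ?_
  rw [key _ _ (QuotientGroup.out_conj_pow_minimalPeriod_mem H (g : G) q.out), map_pow]

/-- An element outside `K` with controlled conjugates is outside the derived subgroup. -/
theorem not_mem_commutator {p : ℕ} [Fact p.Prime] (H K : Subgroup G)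
    (hKn : (K.subgroupOf H).Normal) (hab : ∀ x ∈ H, ∀ y ∈ H, x * y * x⁻¹ * y⁻¹ ∈ K)
    (hidx : Nat.Coprime p H.index) (g : G) (hgH : g ∈ H) (hgK : g ∉ K)
    (hgp : ∃ k : ℕ, orderOf g = p ^ k)
    (hctrl : ∀ (m : ℤ) (a : G), a * g ^ m * a⁻¹ ∈ H → (a * g ^ m * a⁻¹) * (g ^ m)⁻¹ ∈ K) :
    g ∉ commutator G := by
  haveI := hKn
  intro hg
  set π := QuotientGroup.mk' (K.subgroupOf H)
  letI : CommGroup (H ⧸ K.subgroupOf H) :=
    { (inferInstance : Group (H ⧸ K.subgroupOf H)) with
      mul_comm := fun a b => by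
        obtain ⟨x, rfl⟩ := QuotientGroup.mk'_surjective _ a
        obtain ⟨y, rfl⟩ := QuotientGroup.mk'_surjective _ b
        have h : x * y * x⁻¹ * y⁻¹ ∈ K.subgroupOf H := hab x x.2 y y.2
        rw [← QuotientGroup.ker_mk' (K.subgroupOf H), MonoidHom.mem_ker, map_mul, map_mul, map_mul,
          map_inv, map_inv, mul_inv_eq_one, mul_inv_eq_iff_eq_mul] at h
        exact h }
  have h0 := transfer_eq_pow_of_image π ⟨g, hgH⟩ fun k a h => by
    rw [← mul_inv_eq_one, ← map_inv, ← map_mul, ← MonoidHom.mem_ker, QuotientGroup.ker_mk']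
    have := hctrl k a⁻¹ (by rw [zpow_natCast, inv_inv]; exact h)
    rw [zpow_natCast, inv_inv] at this
    exact this
  have h1 : MonoidHom.transfer π g = 1 :=
    MonoidHom.mem_ker.mp (Abelianization.commutator_subset_ker _ hg)
  rw [h1] at h0
  have h2 : orderOf (π ⟨g, hgH⟩) ∣ H.index := orderOf_dvd_of_pow_eq_one h0.symm
  obtain ⟨j, hj⟩ := hgp
  have h3 : orderOf (π ⟨g, hgH⟩) ∣ p ^ j := by
    rw [← hj]
    exact (orderOf_map_dvd π _).trans (Subgroup.orderOf_mk g hgH).dvd
  have h4 := Nat.eq_one_of_dvd_coprimes (hidx.pow_left j) h3 h2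
  rw [orderOf_eq_one_iff] at h4
  exact hgK (mem_subgroupOf.mp ((QuotientGroup.eq_one_iff _).mp h4))

/-- Control of fusion of `p`-elements gives control of the transfer. -/
theorem residual_sup_commutator_inf {p : ℕ} [Fact p.Prime] (H : Subgroup G)
    (hidx : Nat.Coprime p H.index)
    (hfus : ∀ g ∈ H, (∃ k : ℕ, orderOf g = p ^ k) → ∀ a : G, a * g * a⁻¹ ∈ H →
      ∃ h ∈ H, h * g * h⁻¹ = a * g * a⁻¹) :
    (Cfsg.pResidual p G ⊔ commutator G) ⊓ H =
      (Cfsg.pResidual p H ⊔ commutator H).map H.subtype := by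
  set M := Cfsg.pResidual p H ⊔ commutator H with hM
  refine le_antisymm (fun x hx => ?_) ?_
  · haveI : M.Normal := by
      refine ⟨fun n hn g => ?_⟩
      rw [show g * n * g⁻¹ = g * n * g⁻¹ * n⁻¹ * n by group]
      exact mul_mem (mem_sup_right (commutator_mem_commutator (mem_top g) (mem_top n))) hn
    set π := QuotientGroup.mk' M
    letI : CommGroup (H ⧸ M) :=
      { (inferInstance : Group (H ⧸ M)) with
        mul_comm := fun a b => by
          obtain ⟨u, rfl⟩ := QuotientGroup.mk'_surjective _ a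
          obtain ⟨v, rfl⟩ := QuotientGroup.mk'_surjective _ b
          have h : u * v * u⁻¹ * v⁻¹ ∈ M :=
            mem_sup_right (commutator_mem_commutator (mem_top u) (mem_top v))
          rw [← QuotientGroup.ker_mk' M, MonoidHom.mem_ker, map_mul, map_mul, map_mul, map_inv,
            map_inv, mul_inv_eq_one, mul_inv_eq_iff_eq_mul] at h
          exact h }
    have hsplit : ∀ y : H, ∃ i j : ℤ, ∃ a b : ℕ, orderOf (y ^ i) ∣ p ^ a ∧
        (orderOf (y ^ j)).Coprime p ∧ y ^ i * y ^ j = y ∧ b = 0 := by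
      intro y
      obtain ⟨a, m, hm, he⟩ :=
        Nat.exists_eq_pow_mul_and_not_dvd (orderOf_pos y).ne' p (Fact.out : p.Prime).ne_one
      have hc : (p ^ a).Coprime m :=
        (((Fact.out : p.Prime).coprime_iff_not_dvd).mpr hm).pow_left a
      obtain ⟨u, v, huv⟩ : ∃ u v : ℤ, u * (p ^ a : ℕ) + v * m = 1 :=
        Int.isCoprime_iff_gcd_eq_one.mpr (by rw [Int.gcd_natCast_natCast]; exact hc.gcd_eq_one)
      refine ⟨v * m, u * (p ^ a : ℕ), a, 0, ?_, ?_, ?_, rfl⟩
      · refine orderOf_dvd_of_pow_eq_one ?_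
        rw [← zpow_natCast, ← zpow_mul, ← orderOf_dvd_iff_zpow_eq_one]
        exact ⟨v, by rw [he]; push_cast; ring⟩
      · refine Nat.Coprime.coprime_dvd_left ?_
          (((Fact.out : p.Prime).coprime_iff_not_dvd).mpr hm).symm
        refine orderOf_dvd_of_pow_eq_one ?_
        rw [← zpow_natCast, ← zpow_mul, ← orderOf_dvd_iff_zpow_eq_one]
        exact ⟨u, by rw [he]; push_cast; ring⟩
      · rw [← zpow_add, show v * m + u * (p ^ a : ℕ) = 1 by linarith, zpow_one]
    have hres : ∀ y : H, (orderOf y).Coprime p → π y = 1 := fun y hy =>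
      (QuotientGroup.eq_one_iff y).mpr (mem_sup_left (Subgroup.subset_closure hy))
    have hA : IsPGroup p (H ⧸ M) := by
      intro q
      obtain ⟨y, rfl⟩ := QuotientGroup.mk'_surjective _ q
      obtain ⟨i, j, a, -, hi, hj, hy, -⟩ := hsplit y
      refine ⟨a, ?_⟩
      rw [← hy, map_mul, hres _ hj, mul_one, ← map_pow, orderOf_dvd_iff_pow_eq_one.mp hi, map_one]
    set τ := MonoidHom.transfer π
    have hker : Cfsg.pResidual p G ⊔ commutator G ≤ τ.ker := by
      refine sup_le ((Subgroup.closure_le _).mpr fun y hy => ?_) (Abelianization.commutator_subset_ker _)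
      obtain ⟨j, hj⟩ := hA (τ y)
      exact orderOf_eq_one_iff.mp (Nat.eq_one_of_dvd_coprimes ((Nat.Coprime.pow_right j hy))
        (orderOf_map_dvd τ y) (orderOf_dvd_of_pow_eq_one hj))
    refine ⟨⟨x, hx.2⟩, ?_, rfl⟩
    obtain ⟨i, j, a, -, hi, hj, hy, -⟩ := hsplit ⟨x, hx.2⟩
    set y : H := ⟨x, hx.2⟩ ^ i
    have hyx : π ⟨x, hx.2⟩ = π y := by
      conv_lhs => rw [← hy]
      rw [map_mul, hres _ hj, mul_one]
    have hxy : τ x = τ (y : G) := by
      have h1 : τ ((⟨x, hx.2⟩ ^ j : H) : G) = 1 := by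
        obtain ⟨t, ht⟩ := hA (τ ((⟨x, hx.2⟩ ^ j : H) : G))
        refine orderOf_eq_one_iff.mp (Nat.eq_one_of_dvd_coprimes (hj.pow_right t)
          ((orderOf_map_dvd τ _).trans (Subgroup.orderOf_coe _).dvd) (orderOf_dvd_of_pow_eq_one ht))
      conv_lhs => rw [show x = ((y * ⟨x, hx.2⟩ ^ j : H) : G) from (congrArg Subtype.val hy).symm]
      rw [Subgroup.coe_mul, map_mul, h1, mul_one]
    have h0 := transfer_eq_pow_of_image π y fun k b h => by
      obtain ⟨n, -, hn⟩ := (Nat.dvd_prime_pow (Fact.out : p.Prime)).mp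
        ((orderOf_pow_dvd (x := (y : G)) k).trans ((Subgroup.orderOf_coe y).dvd.trans hi))
      obtain ⟨c, hc, hce⟩ := hfus _ (pow_mem y.2 k) ⟨n, hn⟩ b⁻¹ (by rw [inv_inv]; exact h)
      have : (⟨_, h⟩ : H) = ⟨c, hc⟩ * y ^ k * ⟨c, hc⟩⁻¹ := Subtype.ext (by
        rw [inv_inv] at hce
        exact hce.symm)
      rw [this, map_mul, map_mul, map_inv, mul_comm (π ⟨c, hc⟩), mul_inv_cancel_right]
    rw [← hxy, MonoidHom.mem_ker.mp (hker hx.1)] at h0
    have h4 := Nat.eq_one_of_dvd_coprimes (hidx.pow_left a)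
      ((orderOf_map_dvd π y).trans hi) (orderOf_dvd_of_pow_eq_one h0.symm)
    rw [orderOf_eq_one_iff, ← hyx] at h4
    exact (QuotientGroup.eq_one_iff _).mp h4
  · rw [Subgroup.map_sup]
    refine sup_le (le_inf ?_ (map_subtype_le _)) (le_inf ?_ (map_subtype_le _))
    · refine le_sup_of_le_left ?_
      unfold Cfsg.pResidual
      rw [MonoidHom.map_closure]
      refine (Subgroup.closure_mono ?_)
      rintro _ ⟨y, hy, rfl⟩
      show (orderOf (y : G)).Coprime p
      rwa [Subgroup.orderOf_coe]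
    · refine le_sup_of_le_right ?_
      rw [_root_.commutator_def, _root_.commutator_def, map_commutator]
      exact commutator_mono le_top le_top

end Cfsg.Lib.TwoFusion
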