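/-
Small tools for 2-fusion arguments.
-/
import Cfsg.Agent.Transfer.Basic
import Cfsg.Agent.Transfer.FittingPower
import Cfsg.Agent.TwoFusion.TransferApps
import Cfsg.Agent.TwoFusion.DihedralSubgroups
import Cfsg.Prelude.Def_Transfer
import Mathlib

set_option autoImplicit false
set_option linter.style.haveILetI false
set_option linter.unusedSectionVars false

namespace Cfsg.Lib.TwoFusion

open Subgroup

universe u

variable {G : Type u} [Group G] [Finite G]

theorem exists_sylow_conj {H : Subgroup G} (S : Sylow 2 G) (hSH : (S : Subgroup G) ≤ H)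
    {X : Subgroup G} (hX : IsPGroup 2 X) (hXH : X ≤ H) :
    ∃ c ∈ H, ∀ x ∈ X, c * x * c⁻¹ ∈ (S : Subgroup G) := by
  haveI : Fact (Nat.Prime 2) := ⟨Nat.prime_two⟩
  obtain ⟨R, hR⟩ := (hX.of_equiv (subgroupOfEquivOfLe hXH).symm).exists_le_sylow
  obtain ⟨c, hc⟩ := MulAction.exists_smul_eq H R (S.subtype hSH)
  refine ⟨c, c.2, fun x hx => ?_⟩
  have h : c * ⟨x, hXH hx⟩ * c⁻¹ ∈ ((S.subtype hSH : Sylow 2 H) : Subgroup H) := by
    rw [← hc, Sylow.coe_subgroup_smul]
    exact ⟨⟨x, hXH hx⟩, hR hx, rfl⟩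
  exact h

/-- Every 2-element is conjugate into a Sylow 2-subgroup. -/
theorem exists_conj_mem_sylow (S : Sylow 2 G) {x : G} {k : ℕ} (hx : orderOf x = 2 ^ k) :
    ∃ g : G, g * x * g⁻¹ ∈ (S : Subgroup G) := by
  haveI : Fact (Nat.Prime 2) := ⟨Nat.prime_two⟩
  obtain ⟨g, -, hg⟩ := exists_sylow_conj (H := ⊤) S le_top
    (IsPGroup.of_card ((Nat.card_zpowers x).trans hx)) le_top
  exact ⟨g, hg x (mem_zpowers x)⟩

theorem normal_of_relIndex_two {H K : Subgroup G} (h : H.relIndex K = 2) : (H.subgroupOf K).Normal :=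
  normal_of_index_eq_two h

/-- The transfer to a section of order two. -/
theorem exists_index_two_of_transfer (S : Sylow 2 G) (K : Subgroup G) (hKS : K ≤ (S : Subgroup G))
    (hK : K.relIndex (S : Subgroup G) = 2) (g : G) (hg : g ∈ (S : Subgroup G)) (hgK : g ∉ K)
    (hctrl : ∀ (k : ℕ) (a : G), a * g ^ k * a⁻¹ ∈ (S : Subgroup G) →
      (a * g ^ k * a⁻¹ ∈ K ↔ g ^ k ∈ K)) :
    ∃ M : Subgroup G, M.Normal ∧ M.index = 2 ∧ g ∉ M ∧
      ∀ a : G, a * g * a⁻¹ ∈ (S : Subgroup G) → a * g * a⁻¹ ∉ M := by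
  classical
  haveI : Fact (Nat.Prime 2) := ⟨Nat.prime_two⟩
  set H : Subgroup G := (S : Subgroup G) with hH
  haveI : (K.subgroupOf H).Normal := normal_of_relIndex_two hK
  have hcard : Nat.card (H ⧸ K.subgroupOf H) = 2 := (index_eq_card _).symm.trans hK
  haveI : IsCyclic (H ⧸ K.subgroupOf H) := isCyclic_of_prime_card hcard
  letI : CommGroup (H ⧸ K.subgroupOf H) := IsCyclic.commGroup
  let π : H →* H ⧸ K.subgroupOf H := QuotientGroup.mk' (K.subgroupOf H)
  obtain ⟨u, v, huv, hall⟩ := Nat.card_eq_two_iff.1 hcard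
  have hone : ∀ x y : H ⧸ K.subgroupOf H, (x = 1 ↔ y = 1) → x = y := by
    have hm : ∀ q, q = u ∨ q = v := fun q => by
      have := Set.mem_univ q
      rw [← hall] at this
      simpa using this
    intro x y hxy
    rcases hm x with hx | hx <;> rcases hm y with hy | hy <;> rcases hm 1 with h1 | h1 <;>
      subst hx hy <;> first | rfl | skip
    all_goals
      rw [h1] at hxy
      first
        | exact (hxy.1 rfl).symm
        | exact hxy.2 rfl
  have hπ : ∀ x : H, π x = 1 ↔ (x : G) ∈ K := fun x => QuotientGroup.eq_one_iff x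
  have hτ := transfer_eq_pow_of_image π ⟨g, hg⟩ fun k a h => by
    refine hone _ _ ?_
    rw [hπ, hπ]
    simpa using hctrl k a⁻¹ (by rw [inv_inv]; exact h)
  have hg1 : π ⟨g, hg⟩ ≠ 1 := fun h => hgK ((hπ _).1 h)
  have hτg : MonoidHom.transfer π g ≠ 1 := by
    intro h
    rw [h] at hτ
    have hd := orderOf_dvd_of_pow_eq_one hτ.symm
    have h2 : orderOf (π ⟨g, hg⟩) = 2 := orderOf_eq_prime (by
      rw [← hcard]; exact pow_card_eq_one') hg1
    rw [h2] at hd
    exact S.not_dvd_index hd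
  refine ⟨(MonoidHom.transfer π).ker, inferInstance, ?_, hτg, ?_⟩
  · rw [Subgroup.index_ker, ← hcard]
    refine Nat.card_congr ((MulEquiv.subgroupCongr ?_).trans Subgroup.topEquiv).toEquiv
    rw [eq_top_iff]
    intro q _
    by_cases hq : q = 1
    · rw [hq]; exact one_mem _
    · exact ⟨g, hone _ _ (iff_of_false hτg hq)⟩
  · intro a _ ha
    exact hτg (by
      have := (MonoidHom.mem_ker).1 ha
      rwa [map_mul, map_mul, map_inv, mul_comm, inv_mul_cancel_left] at this)

/-- An element of odd order outside a subgroup whose index is 6, in a given set. -/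
theorem exists_odd_of_relIndex_six {K N : Subgroup G} (hKN : K ≤ N) [(K.subgroupOf N).Normal]
    (h : K.relIndex N = 6) : ∃ θ ∈ N, Odd (orderOf θ) ∧ θ ∉ K := by
  haveI : Fact (Nat.Prime 2) := ⟨Nat.prime_two⟩
  haveI : Fact (Nat.Prime 3) := ⟨Nat.prime_three⟩
  have h3 : 3 ∣ Nat.card (N ⧸ K.subgroupOf N) := by
    rw [← index_eq_card]
    show 3 ∣ K.relIndex N
    rw [h]; norm_num
  obtain ⟨q, hq⟩ := exists_prime_orderOf_dvd_card' 3 h3
  obtain ⟨n, rfl⟩ := QuotientGroup.mk_surjective q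
  obtain ⟨x, y, hx, hy, hxy, ⟨k, hk⟩, hy'⟩ := Cfsg.Lib.Transfer.exists_pPart 2 (n : G)
  have hxN : x ∈ N := (zpowers_le.2 n.2) hx
  have hyN : y ∈ N := (zpowers_le.2 n.2) hy
  refine ⟨y, hyN, Nat.Coprime.odd_of_right hy', fun hyK => ?_⟩
  have he : (QuotientGroup.mk n : N ⧸ K.subgroupOf N) = QuotientGroup.mk ⟨x, hxN⟩ := by
    rw [QuotientGroup.eq]
    show (n : G)⁻¹ * x ∈ K
    rw [← hxy, show (x * y)⁻¹ * x = y⁻¹ by group]
    exact inv_mem hyK
  rw [he] at hq
  have hd : orderOf (QuotientGroup.mk ⟨x, hxN⟩ : N ⧸ K.subgroupOf N) ∣ orderOf x := by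
    rw [← Subgroup.orderOf_mk x hxN]
    exact orderOf_map_dvd (QuotientGroup.mk' (K.subgroupOf N)) _
  rw [hq, hk] at hd
  exact absurd (Nat.prime_three.dvd_of_dvd_pow hd) (by norm_num)

/-- The intersection of a Sylow subgroup with a normal subgroup is Sylow in it. -/
theorem sylow_inf_normal (S : Sylow 2 G) (K : Subgroup G) [K.Normal] (P : Sylow 2 K) :
    Nonempty ((P : Subgroup K) ≃* ((S : Subgroup G) ⊓ K).subgroupOf (S : Subgroup G)) := by
  haveI : Fact (Nat.Prime 2) := ⟨Nat.prime_two⟩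
  set R := ((S : Subgroup G) ⊓ K).subgroupOf K with hR
  have hidx : R.index ∣ (S : Subgroup G).index := by
    show ((S : Subgroup G) ⊓ K).relIndex K ∣ _
    rw [inf_relIndex_right, Cfsg.Lib.Transfer.relIndex_eq_relIndex_sup_of_normal]
    exact relIndex_dvd_index_of_le le_sup_left
  have hRp : IsPGroup 2 R := by
    refine (S.isPGroup'.of_injective (Subgroup.inclusion (inf_le_left : (S : Subgroup G) ⊓ K ≤ S))
      (Subgroup.inclusion_injective _)).of_equiv (subgroupOfEquivOfLe inf_le_right).symm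
  have hn : ¬ 2 ∣ R.index := fun h => S.not_dvd_index (h.trans hidx)
  let P0 : Sylow 2 K := hRp.toSylow hn
  exact ⟨(P.equiv P0).trans ((subgroupOfEquivOfLe inf_le_right).trans (subgroupOfEquivOfLe inf_le_left).symm)⟩

theorem index_pResidual (S : Sylow 2 G) :
    (Cfsg.pResidual 2 G).index = ((Cfsg.pResidual 2 G).subgroupOf (S : Subgroup G)).index := by
  haveI : Fact (Nat.Prime 2) := ⟨Nat.prime_two⟩
  show _ = (Cfsg.pResidual 2 G).relIndex (S : Subgroup G)
  rw [← relIndex_sup_left (H := (S : Subgroup G)) (K := Cfsg.pResidual 2 G),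
    Cfsg.Lib.Transfer.pResidual_sup_sylow S, relIndex_top_right]

theorem pResidual_le_of_index_two {M : Subgroup G} [M.Normal] (h : M.index = 2) :
    Cfsg.pResidual 2 G ≤ M := by
  haveI : Fact (Nat.Prime 2) := ⟨Nat.prime_two⟩
  exact Cfsg.Lib.Transfer.pResidual_le (IsPGroup.of_card (n := 1) (by rw [← index_eq_card, h, pow_one]))

theorem pResidual_no_index_two (H : Subgroup (Cfsg.pResidual 2 G)) : H.index ≠ 2 := by
  intro h
  haveI : H.Normal := normal_of_index_eq_two h
  have hsub : Cfsg.pResidual 2 G ≤ (Cfsg.pResidual 2 (Cfsg.pResidual 2 G)).map (Cfsg.pResidual 2 G).subtype := by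
    refine (closure_le _).2 fun x hx => ?_
    exact ⟨⟨x, Cfsg.Lib.Transfer.mem_pResidual_of_coprime hx⟩,
      Cfsg.Lib.Transfer.mem_pResidual_of_coprime (by rw [Subgroup.orderOf_mk]; exact hx), rfl⟩
  have htop : (⊤ : Subgroup (Cfsg.pResidual 2 G)) ≤ H := fun x _ => by
    obtain ⟨y, hy, hyx⟩ := hsub x.2
    rw [← show y = x from Subtype.ext hyx]
    exact pResidual_le_of_index_two h hy
  rw [eq_top_iff.2 htop, index_top] at h
  omega

theorem no_index_two_of_sylow_le (S : Sylow 2 G) (hS : (S : Subgroup G) ≤ Cfsg.pResidual 2 G)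
    (H : Subgroup G) : H.index ≠ 2 := by
  intro h
  haveI : Fact (Nat.Prime 2) := ⟨Nat.prime_two⟩
  haveI : H.Normal := normal_of_index_eq_two h
  have h1 : H = ⊤ := eq_top_iff.2 (Cfsg.Lib.Transfer.pResidual_sup_sylow S ▸
    sup_le (pResidual_le_of_index_two h) (hS.trans (pResidual_le_of_index_two h)))
  rw [h1, index_top] at h
  omega

theorem comm_mem_pResidual {θ : G} (hθ : Odd (orderOf θ)) (x : G) :
    θ * x * θ⁻¹ * x⁻¹ ∈ Cfsg.pResidual 2 G := by
  haveI : Fact (Nat.Prime 2) := ⟨Nat.prime_two⟩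
  have h1 : θ ∈ Cfsg.pResidual 2 G := Cfsg.Lib.Transfer.mem_pResidual_of_coprime (Nat.coprime_two_right.2 hθ)
  have hn : (Cfsg.pResidual 2 G).Normal := inferInstance
  have h2 := hn.conj_mem _ (inv_mem h1) x
  rw [show θ * x * θ⁻¹ * x⁻¹ = θ * (x * θ⁻¹ * x⁻¹) by group]
  exact mul_mem h1 h2

/-- A cyclic Sylow 2-subgroup has a normal complement. -/
theorem hasNormalTwoComplement_of_cyclic (P : Sylow 2 G) [IsCyclic (P : Subgroup G)] :
    Cfsg.HasNormalPComplement 2 G := by
  haveI : Fact (Nat.Prime 2) := ⟨Nat.prime_two⟩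
  haveI : IsMulCommutative (P : Subgroup G) := ⟨⟨IsCyclic.commGroup.mul_comm⟩⟩
  have hN : normalizer ((P : Subgroup G) : Set G) ≤ centralizer ((P : Subgroup G) : Set G) := by
    intro g hg
    obtain ⟨a, b, ha, hb, rfl, ⟨k, hk⟩, hb'⟩ := Cfsg.Lib.Transfer.exists_pPart 2 g
    have haN : a ∈ normalizer ((P : Subgroup G) : Set G) := (zpowers_le.2 hg) ha
    have hbN : b ∈ normalizer ((P : Subgroup G) : Set G) := (zpowers_le.2 hg) hb
    refine mul_mem ?_ ?_
    · have h := (IsPGroup.of_card ((Nat.card_zpowers a).trans hk)).inf_normalizer_sylow P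
      have h' : a ∈ zpowers a ⊓ normalizer (P : Set G) := ⟨mem_zpowers a, haN⟩
      rw [h] at h'
      exact (P : Subgroup G).le_centralizer h'.2
    · set φ := normalizerMonoidHom (P : Subgroup G) ⟨b, hbN⟩ with hφ
      obtain ⟨j, hj⟩ := isPGroup_mulAut_cyclic P.isPGroup' φ
      have h1 : orderOf φ ∣ orderOf b := by
        rw [← Subgroup.orderOf_mk b hbN]
        exact orderOf_map_dvd _ _
      have h2 : φ = 1 := orderOf_eq_one_iff.1 (Nat.eq_one_of_dvd_coprimes (hb'.pow_right j) h1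
        (orderOf_dvd_of_pow_eq_one hj))
      have h3 : (⟨b, hbN⟩ : normalizer ((P : Subgroup G) : Set G)) ∈ (normalizerMonoidHom (P : Subgroup G)).ker := h2
      rw [normalizerMonoidHom_ker] at h3
      exact h3
  exact Cfsg.Lib.Transfer.hasNormalPComplement_of_isComplement' (MonoidHom.ker_transferSylow_isComplement' P hN)

theorem hasNormalTwoComplement_of_cyclic_residual (S : Sylow 2 G)
    [IsCyclic ((Cfsg.pResidual 2 G).subgroupOf (S : Subgroup G))] : Cfsg.HasNormalPComplement 2 G := by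
  haveI : Fact (Nat.Prime 2) := ⟨Nat.prime_two⟩
  set K := Cfsg.pResidual 2 G
  obtain ⟨P⟩ : Nonempty (Sylow 2 K) := inferInstance
  obtain ⟨e⟩ := sylow_inf_normal S K P
  have he : ((S : Subgroup G) ⊓ K).subgroupOf (S : Subgroup G) = K.subgroupOf (S : Subgroup G) :=
    inf_subgroupOf_left _ _
  haveI : IsCyclic (P : Subgroup K) := isCyclic_of_surjective (e.trans (MulEquiv.subgroupCongr he)).symm
    (MulEquiv.surjective _)
  have hK := hasNormalTwoComplement_of_cyclic P
  obtain ⟨N, hN, hc, k, hk⟩ := Cfsg.Lib.Transfer.hasNormalPComplement_iff.1 hK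
  rcases k with _ | k
  · rw [pow_zero, index_eq_one] at hk
    rw [hk] at hc
    rw [Cfsg.Lib.Transfer.hasNormalPComplement_iff_pResidual, ← Nat.card_congr Subgroup.topEquiv.toEquiv]
    exact hc
  · exfalso
    haveI := hN
    have hp : IsPGroup 2 (K ⧸ N) := IsPGroup.of_card (by rw [← index_eq_card, hk])
    have htop : (⊤ : Subgroup K) ≤ N := fun x _ => by
      have hmem : ∀ y : G, ∀ hy : y ∈ K, (⟨y, hy⟩ : K) ∈ N := by
        intro y hy
        induction hy using Subgroup.closure_induction with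
        | mem w hw =>
          exact Cfsg.Lib.Transfer.pResidual_le hp
            (Cfsg.Lib.Transfer.mem_pResidual_of_coprime (by rw [← Subgroup.orderOf_coe]; exact hw))
        | one => exact one_mem N
        | mul a b ha hb iha ihb => exact mul_mem iha ihb
        | inv a ha iha => exact inv_mem iha
      exact hmem x x.2
    rw [eq_top_iff.2 htop, index_top] at hk
    have := Nat.one_lt_two_pow (show k + 1 ≠ 0 by omega)
    omega

/-- Counting the classes of elements of a given order. -/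
theorem card_classes {k : ℕ} (x y : G) (hx : orderOf x = k) (hy : orderOf y = k)
    (hall : ∀ t : G, orderOf t = k → IsConj t x ∨ IsConj t y) :
    (IsConj x y → Nat.card {C : ConjClasses G // ∃ t : G, orderOf t = k ∧ ConjClasses.mk t = C} = 1) ∧
    (¬ IsConj x y → Nat.card {C : ConjClasses G // ∃ t : G, orderOf t = k ∧ ConjClasses.mk t = C} = 2) := by
  constructor
  · intro hc
    refine Nat.card_eq_one_iff_unique.2 ⟨⟨?_⟩, ⟨⟨_, x, hx, rfl⟩⟩⟩
    have hm : ∀ C : {C : ConjClasses G // ∃ t : G, orderOf t = k ∧ ConjClasses.mk t = C}, C.1 = ConjClasses.mk x := by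
      rintro ⟨_, t, ht, rfl⟩
      exact ConjClasses.mk_eq_mk_iff_isConj.2 ((hall t ht).elim id fun h => h.trans hc.symm)
    exact fun C D => Subtype.ext ((hm C).trans (hm D).symm)
  · intro hc
    rw [Nat.card_eq_two_iff]
    refine ⟨⟨_, x, hx, rfl⟩, ⟨_, y, hy, rfl⟩,
      fun e => hc (ConjClasses.mk_eq_mk_iff_isConj.1 (congrArg Subtype.val e)), Set.eq_univ_of_forall ?_⟩
    rintro ⟨_, t, ht, rfl⟩
    rcases hall t ht with h | h
    · exact Or.inl (Subtype.ext (ConjClasses.mk_eq_mk_iff_isConj.2 h))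
    · exact Or.inr (Subtype.ext (ConjClasses.mk_eq_mk_iff_isConj.2 h))

/-- If a normal subgroup of index two of `N` contains all but a coset of `t`. -/
theorem mem_or_mul_mem {K N : Subgroup G} (h : K.relIndex N = 2) {t : G} (htN : t ∈ N) (htK : t ∉ K)
    {n : G} (hn : n ∈ N) : n ∈ K ∨ n * t ∈ K := by
  by_cases hnK : n ∈ K
  · exact Or.inl hnK
  · exact Or.inr ((mul_mem_iff_of_index_two (H := K.subgroupOf N) h (a := ⟨n, hn⟩) (b := ⟨t, htN⟩)).2
      (iff_of_false hnK htK))

end Cfsg.Lib.TwoFusion
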