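import Cfsg.Agent.PGroups.AutOrder

/-!
The index of a self-centralising 2-subgroup and its centraliser in its normaliser.
-/

set_option autoImplicit false

namespace Cfsg.Lib.Automizer

open Subgroup

variable {G : Type*} [Group G]

theorem relIndex_centralizer_dvd_mulAut [Finite G] (X : Subgroup G) :
    (centralizer (X : Set G)).relIndex (normalizer (X : Set G)) ∣ Nat.card (MulAut X) := by
  rw [Subgroup.relIndex, ← Subgroup.normalizerMonoidHom_ker, Subgroup.index_ker]
  exact card_subgroup_dvd_card _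

/-- A subgroup of a 2-group with an element of its normaliser outside it: the automiser is even. -/
theorem two_dvd_relIndex [Finite G] (S : Subgroup G) (hS : IsPGroup 2 S) (X : Subgroup G) (hX : X ≤ S)
    (hc : centralizer ((X.subgroupOf S : Subgroup S) : Set S) ≤ X.subgroupOf S)
    (hn : (X.subgroupOf S).relIndex (normalizer ((X.subgroupOf S : Subgroup S) : Set S)) ≠ 1) :
    2 ∣ (X ⊔ centralizer (X : Set G)).relIndex (normalizer (X : Set G)) := by
  haveI : Fact (Nat.Prime 2) := ⟨Nat.prime_two⟩
  obtain ⟨t, htN, htX⟩ : ∃ t : S, t ∈ normalizer ((X.subgroupOf S : Subgroup S) : Set S) ∧ t ∉ X.subgroupOf S := by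
    by_contra h
    push Not at h
    exact hn (relIndex_eq_one.mpr h)
  set N := normalizer (X : Set G)
  set K := X ⊔ centralizer (X : Set G)
  have htN' : (t : G) ∈ N := by
    rw [mem_normalizer_iff] at htN ⊢
    intro x
    constructor
    · intro hx
      exact (htN ⟨x, hX hx⟩).mp hx
    · intro hx
      have hxS : x ∈ S := by
        have h1 := S.mul_mem (S.mul_mem (S.inv_mem t.2) (hX hx)) t.2
        simpa [mul_assoc] using h1
      exact (htN ⟨x, hxS⟩).mpr hx
  have hKN : K ≤ N := sup_le Subgroup.le_normalizer (Subgroup.centralizer_le_normalizer _)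
  have hCn : ((centralizer (X : Set G)).subgroupOf N).Normal := by
    rw [← Subgroup.normalizerMonoidHom_ker]
    infer_instance
  haveI : (K.subgroupOf N).Normal := by
    rw [Subgroup.subgroupOf_sup Subgroup.le_normalizer (Subgroup.centralizer_le_normalizer _)]
    haveI := hCn
    haveI : (X.subgroupOf N).Normal := Subgroup.normal_in_normalizer
    infer_instance
  have htK : (t : G) ∉ K := by
    intro hK
    have hmem : (⟨(t : G), htN'⟩ : N) ∈ X.subgroupOf N ⊔ (centralizer (X : Set G)).subgroupOf N := by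
      rw [← Subgroup.subgroupOf_sup Subgroup.le_normalizer (Subgroup.centralizer_le_normalizer _)]
      exact hK
    haveI := hCn
    obtain ⟨x, hx, c, hc', he⟩ := Subgroup.mem_sup_of_normal_right.mp hmem
    have he' : (x : G) * (c : G) = t := congrArg Subtype.val he
    have hcS : (c : G) ∈ S := by
      rw [show (c : G) = (x : G)⁻¹ * t by rw [← he']; group]
      exact S.mul_mem (S.inv_mem (hX hx)) t.2
    have hcX : (⟨c, hcS⟩ : S) ∈ X.subgroupOf S := hc fun y hy => Subtype.ext (hc' (y : G) hy)
    refine htX ?_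
    show (t : G) ∈ X
    rw [← he']
    exact X.mul_mem hx hcX
  rw [Subgroup.relIndex, Subgroup.index_eq_card]
  obtain ⟨k, hk⟩ := hS t
  set u : N ⧸ K.subgroupOf N := ((⟨(t : G), htN'⟩ : N) : N ⧸ K.subgroupOf N)
  have hu : u ^ 2 ^ k = 1 := by
    rw [← QuotientGroup.mk_pow, QuotientGroup.eq_one_iff]
    show (t : G) ^ 2 ^ k ∈ K
    rw [← SubgroupClass.coe_pow, hk]
    exact one_mem K
  have hu1 : u ≠ 1 := fun h => htK ((QuotientGroup.eq_one_iff (⟨(t : G), htN'⟩ : N)).mp h)
  obtain ⟨j, -, hj⟩ := (Nat.dvd_prime_pow Nat.prime_two).mp (orderOf_dvd_of_pow_eq_one hu)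
  rcases j with _ | j
  · exact absurd (orderOf_eq_one_iff.mp (hj.trans (pow_zero 2))) hu1
  · exact (hj ▸ dvd_pow_self 2 (Nat.succ_ne_zero j)).trans (orderOf_dvd_natCard u)

theorem eq_two_or_six {r : ℕ} (h : r ∣ 6) (h2 : 2 ∣ r) : r = 2 ∨ r = 6 := by
  have := Nat.le_of_dvd (by norm_num) h
  interval_cases r <;> omega

end Cfsg.Lib.Automizer
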