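/-
Fusion in a group with quasi-dihedral Sylow 2-subgroups.
-/
import Cfsg.Agent.TwoFusion.FusionTools
import Cfsg.Agent.PGroups.QuasiDihedral
import Cfsg.Agent.S1190
import Cfsg.Agent.S1191
import Mathlib

set_option autoImplicit false
set_option linter.style.haveILetI false
set_option linter.unusedSectionVars false

namespace Cfsg.Lib.QDFusion

open Subgroup Cfsg.Lib.TwoFusion

universe u

section Struct

variable {P : Type u} [Group P] [Finite P] {a b : P} {m : ℕ} (h : Cfsg.Lib.QD.Gen a b m)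
include h

theorem z_central : a ^ ((2 : ℤ) ^ (m - 1)) ∈ center P := by
  rw [mem_center_iff]
  intro g
  rcases Cfsg.Lib.CyclicMax.cases h.2 g with ⟨i, rfl⟩ | ⟨i, rfl⟩
  · rw [← zpow_add, ← zpow_add, add_comm]
  · rw [mul_assoc, (Cfsg.Lib.QD.zpow_comm_b_iff h _).2 (Or.inr rfl), ← mul_assoc, ← zpow_add, ← mul_assoc,
      ← zpow_add, add_comm]

theorem center_eq {c : P} (hc : c ∈ center P) : c = 1 ∨ c = a ^ ((2 : ℤ) ^ (m - 1)) := by
  rcases Cfsg.Lib.CyclicMax.cases h.2 c with ⟨i, rfl⟩ | ⟨i, rfl⟩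
  · exact (Cfsg.Lib.QD.zpow_comm_b_iff h i).1 (mem_center_iff.1 hc b)
  · exfalso
    have h1 := mem_center_iff.1 hc (a ^ (1 : ℤ))
    rw [← mul_assoc, ← zpow_add, Cfsg.Lib.CyclicMax.mul_b_zpow h.2, Cfsg.Lib.CyclicMax.b_eq_iff h.2] at h1
    obtain ⟨h1', h2, -⟩ := Cfsg.Lib.QD.pows h
    obtain ⟨c, hc⟩ := h1
    rw [h1', h2] at hc
    have hc' : (2 : ℤ) ^ (m - 2) * (2 * c - 1) = -1 := by linarith
    have h4 : (2 : ℤ) ∣ 2 ^ (m - 2) := dvd_pow_self 2 (by have := h.1; omega)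
    have := h4.trans ⟨2 * c - 1, hc'.symm⟩
    omega

theorem conj_zpow_mem {v : P} (hv : v ∈ zpowers a) (g : P) : g * v * g⁻¹ ∈ zpowers v := by
  obtain ⟨i, rfl⟩ := hv
  show g * a ^ i * g⁻¹ ∈ zpowers (a ^ i)
  rcases Cfsg.Lib.CyclicMax.cases h.2 g with ⟨k, rfl⟩ | ⟨k, rfl⟩
  · rw [← zpow_neg, ← zpow_add, ← zpow_add, show k + i + -k = i by ring]
    exact mem_zpowers _
  · rw [show a ^ k * b * a ^ i * (a ^ k * b)⁻¹ = a ^ k * (b * a ^ i) * b⁻¹ * (a ^ k)⁻¹ by group,
      Cfsg.Lib.CyclicMax.conj_b h.2, ← mul_assoc, mul_inv_cancel_right, ← zpow_add, ← zpow_neg, ← zpow_add,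
      show k + (2 ^ (m - 1) - 1) * i + -k = i * (2 ^ (m - 1) - 1) by ring, zpow_mul]
    exact zpow_mem (mem_zpowers _) _

theorem four_cases {g : P} (hg : orderOf g = 4) :
    IsConj g (a ^ ((2 : ℤ) ^ (m - 2))) ∨ ∃ j : ℤ, g = a ^ (2 * j + 1) * b := by
  obtain ⟨h1, h2, h3⟩ := Cfsg.Lib.QD.pows h
  rcases Cfsg.Lib.CyclicMax.cases h.2 g with ⟨i, rfl⟩ | ⟨i, rfl⟩
  · left
    have hmem := Cfsg.Lib.QD.mem_w_of_pow_four h (i := i) (hg ▸ pow_orderOf_eq_one _)
    obtain ⟨c, hc⟩ := mem_zpowers_iff.1 hmem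
    rcases Int.even_or_odd c with ⟨q, rfl⟩ | ⟨q, rfl⟩
    · exfalso
      have : (a ^ i) ^ 2 = 1 := by
        rw [← hc, ← zpow_natCast, ← zpow_mul, ← zpow_mul, Cfsg.Lib.CyclicMax.zpow_eq_one h.2, h1, h2]
        exact ⟨q, by push_cast; ring⟩
      have := Nat.le_of_dvd two_pos (orderOf_dvd_of_pow_eq_one this)
      omega
    · rcases Int.even_or_odd q with ⟨u, rfl⟩ | ⟨u, rfl⟩
      · have : a ^ i = a ^ ((2 : ℤ) ^ (m - 2)) := by
          rw [← hc, ← zpow_mul, Cfsg.Lib.CyclicMax.zpow_eq_iff h.2, h1, h2]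
          exact ⟨-u, by ring⟩
        rw [this]
      · refine isConj_iff.2 ⟨b, ?_⟩
        rw [← hc, ← zpow_mul, Cfsg.Lib.CyclicMax.conj_b h.2, mul_inv_cancel_right,
          Cfsg.Lib.CyclicMax.zpow_eq_iff h.2, h1, h2, h3]
        exact ⟨(1 - 4 * 2 ^ (m - 3)) * u + 1 - (3 * 2 ^ (m - 3)), by ring⟩
  · right
    by_cases hi : (2 : ℤ) ∣ i
    · rw [(Cfsg.Lib.QD.orderOf_b h i).1 hi] at hg
      norm_num at hg
    · exact ⟨(i - 1) / 2, by congr 2; omega⟩

theorem half_index (e : ℤ) : (Cfsg.Lib.QD.half h e).index = 2 := by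
  obtain ⟨x, y, -, -, T⟩ := Cfsg.Lib.QD.half_gen h e
  have h1 := (Cfsg.Lib.QD.half h e).card_mul_index
  have hm := h.1
  rw [T.card, h.2.card, show m - 1 + 1 = m by omega, pow_succ] at h1
  exact Nat.eq_of_mul_eq_mul_left (Nat.two_pow_pos m) h1

theorem half_le (N : Subgroup P) [hN : N.Normal] (e j : ℤ) (hmem : a ^ (2 * j + e) * b ∈ N) :
    Cfsg.Lib.QD.half h e ≤ N := by
  have hcoset : ∀ i : ℤ, a ^ (2 * i + e) * b ∈ N := by
    intro i
    obtain ⟨t, ht⟩ := Cfsg.Lib.QD.conj_parity h (i := 2 * j + e) (j := 2 * i + e) ⟨i - j, by ring⟩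
    rw [← ht]
    exact hN.conj_mem _ hmem _
  rintro g (⟨i, rfl⟩ | ⟨i, rfl⟩)
  · rw [show a ^ (2 * i) = a ^ (2 * i + e) * b * (a ^ (2 * 0 + e) * b)⁻¹ by
      rw [mul_inv_rev, ← mul_assoc, mul_inv_cancel_right, ← zpow_neg, ← zpow_add]; congr 1; ring]
    exact mul_mem (hcoset i) (inv_mem (hcoset 0))
  · exact hcoset i

theorem b_conj (i j : ℤ) : IsConj (a ^ (2 * i) * b) (a ^ (2 * j) * b) := by
  obtain ⟨t, ht⟩ := Cfsg.Lib.QD.conj_parity h (i := 2 * i) (j := 2 * j) ⟨j - i, by ring⟩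
  exact isConj_iff.2 ⟨_, ht⟩

theorem c_conj (i j : ℤ) : IsConj (a ^ (2 * i + 1) * b) (a ^ (2 * j + 1) * b) := by
  obtain ⟨t, ht⟩ := Cfsg.Lib.QD.conj_parity h (i := 2 * i + 1) (j := 2 * j + 1) ⟨j - i, by ring⟩
  exact isConj_iff.2 ⟨_, ht⟩

theorem c_order (i : ℤ) : orderOf (a ^ (2 * i + 1) * b) = 4 :=
  (Cfsg.Lib.QD.orderOf_b h _).2 (by omega)

theorem b_order (i : ℤ) : orderOf (a ^ (2 * i) * b) = 2 := (Cfsg.Lib.QD.orderOf_b h _).1 ⟨i, rfl⟩

theorem c_sq (i : ℤ) : (a ^ (2 * i + 1) * b) * (a ^ (2 * i + 1) * b) = a ^ ((2 : ℤ) ^ (m - 1)) := by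
  rw [Cfsg.Lib.QD.sq_b h, Cfsg.Lib.CyclicMax.zpow_eq_iff h.2, (Cfsg.Lib.QD.pows h).1]
  exact ⟨-i, by ring⟩

theorem z_mem_half (e : ℤ) : a ^ ((2 : ℤ) ^ (m - 1)) ∈ Cfsg.Lib.QD.half h e :=
  Or.inl ⟨(2 : ℤ) ^ (m - 2), by rw [(Cfsg.Lib.QD.pows h).2.1]⟩

theorem b_notMem_half_one (i : ℤ) : a ^ (2 * i) * b ∉ Cfsg.Lib.QD.half h 1 := by
  rintro (⟨j, hj⟩ | ⟨j, hj⟩)
  · exact Cfsg.Lib.CyclicMax.ne_b h.2 _ _ hj.symm
  · rw [Cfsg.Lib.CyclicMax.b_eq_iff h.2] at hj
    have := (dvd_pow_self (2 : ℤ) (show m ≠ 0 by have := h.1; omega)).trans hj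
    omega

theorem c_notMem_half_zero (i : ℤ) : a ^ (2 * i + 1) * b ∉ Cfsg.Lib.QD.half h 0 := by
  rintro (⟨j, hj⟩ | ⟨j, hj⟩)
  · exact Cfsg.Lib.CyclicMax.ne_b h.2 _ _ hj.symm
  · rw [Cfsg.Lib.CyclicMax.b_eq_iff h.2] at hj
    have := (dvd_pow_self (2 : ℤ) (show m ≠ 0 by have := h.1; omega)).trans hj
    omega

end Struct

/-- The data of the fusion analysis. -/
structure Data {G : Type u} [Group G] (S : Sylow 2 G) (T Q : Subgroup G) where
  /-- generator -/
  a : (S : Subgroup G)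
  /-- involution -/
  b : (S : Subgroup G)
  /-- exponent -/
  m : ℕ
  gen : Cfsg.Lib.QD.Gen a b m
  /-- the parameter of a noncentral involution of `T` -/
  i : ℤ
  /-- the parameter of an element of order four of `Q` -/
  j : ℤ
  T_le : T ≤ S
  Q_le : Q ≤ S
  klein : IsKleinFour T
  quat : Nonempty (Q ≃* QuaternionGroup 2)
  t_mem : ((a ^ (2 * i) * b : (S : Subgroup G)) : G) ∈ T
  z_mem : ((a ^ ((2 : ℤ) ^ (m - 1)) : (S : Subgroup G)) : G) ∈ T
  w_mem : ((a ^ ((2 : ℤ) ^ (m - 2)) : (S : Subgroup G)) : G) ∈ Q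
  q_mem : ((a ^ (2 * j + 1) * b : (S : Subgroup G)) : G) ∈ Q

variable {G : Type u} [Group G] [Finite G] {S : Sylow 2 G} {T Q : Subgroup G}

theorem exists_data (hS : Cfsg.IsQuasiDihedral (S : Subgroup G)) (hT : IsKleinFour T) (hTS : T ≤ S)
    (hQS : Q ≤ S) (eQ : Q ≃* QuaternionGroup 2) : Nonempty (Data S T Q) := by
  classical
  obtain ⟨m, a, b, h⟩ := Cfsg.Lib.QD.exists_gen hS
  have hTsub : IsKleinFour (T.subgroupOf S) := by
    have e := subgroupOfEquivOfLe hTS
    exact ⟨(Nat.card_congr e.toEquiv).trans hT.card_four,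
      (Monoid.exponent_eq_of_mulEquiv e).trans hT.exponent_two⟩
  obtain ⟨hTc, -⟩ := (Cfsg.Agent.S1190.result hS).2 _ hTsub
  set T' := T.subgroupOf (S : Subgroup G) with hT'
  have hzT : a ^ ((2 : ℤ) ^ (m - 1)) ∈ T' := by
    rw [← hTc, mem_centralizer_iff]
    exact fun g _ => mem_center_iff.1 (z_central h) g
  obtain ⟨i, hi⟩ : ∃ i : ℤ, a ^ (2 * i) * b ∈ T' := by
    by_contra hno
    push Not at hno
    have hsub : (T' : Set (S : Subgroup G)) ⊆ {1, a ^ ((2 : ℤ) ^ (m - 1))} := by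
      intro x hx
      by_cases hx1 : x = 1
      · simp [hx1]
      have hsq : x ^ 2 = 1 := by
        have := Monoid.pow_exponent_eq_one (⟨x, hx⟩ : T')
        rw [hTsub.exponent_two] at this
        exact congrArg Subtype.val this
      rcases Cfsg.Lib.QD.order_two_cases h (orderOf_eq_prime hsq hx1) with e | ⟨k, e⟩
      · exact Or.inr e
      · exact absurd (e ▸ hx) (hno k)
    have := (Set.ncard_le_ncard hsub).trans (Set.ncard_insert_le _ _)
    rw [Set.ncard_singleton, show (T' : Set (S : Subgroup G)).ncard = 4 from hTsub.card_four] at this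
    omega
  set Q' := Q.subgroupOf (S : Subgroup G) with hQ'
  let e' : Q' ≃* QuaternionGroup 2 := (subgroupOfEquivOfLe hQS).trans eQ
  have hfour : ∀ q : QuaternionGroup 2, q * q ≠ 1 → orderOf q = 4 := by
    intro q hq
    rcases q with k | k
    · have hq' := hq
      refine orderOf_eq_prime_pow (p := 2) (n := 1) ?_ ?_ |>.trans (by norm_num)
      · rw [pow_one, pow_two]; exact hq'
      · revert k; decide
    · refine orderOf_eq_prime_pow (p := 2) (n := 1) ?_ ?_ |>.trans (by norm_num)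
      · rw [pow_one, pow_two]; exact hq
      · revert k; decide
  have hsq : ∀ x y : QuaternionGroup 2, x * y ≠ y * x → x * x ≠ 1 ∧ y * y ≠ 1 ∧ (x * y) * (x * y) ≠ 1 := by decide
  obtain ⟨x, y, hxy⟩ : ∃ x y : Q', x * y ≠ y * x := by
    by_contra hno
    push Not at hno
    have h2 : ¬ ∀ x y : QuaternionGroup 2, x * y = y * x := by decide
    exact h2 fun x y => e'.symm.injective (by rw [map_mul, map_mul, hno])
  obtain ⟨hx2, hy2, hxy2⟩ := hsq (e' x) (e' y) (fun hh => hxy (e'.injective (by rw [map_mul, map_mul, hh])))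
  have hord : ∀ q : Q', e' q * e' q ≠ 1 → orderOf (q : (S : Subgroup G)) = 4 := fun q hq => by
    rw [Subgroup.orderOf_coe, ← MulEquiv.orderOf_eq e']; exact hfour _ hq
  have hwmem : ∀ q : Q', orderOf (q : (S : Subgroup G)) = 4 → (q : (S : Subgroup G)) ∈ zpowers a →
      a ^ ((2 : ℤ) ^ (m - 2)) ∈ Q' := by
    rintro ⟨q, hq⟩ hq4 hqa
    replace hq4 : orderOf q = 4 := hq4
    obtain ⟨k, hk⟩ := mem_zpowers_iff.1 hqa
    replace hk : a ^ k = q := hk
    have hk4 : (a ^ k) ^ 4 = 1 := by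
      rw [hk]
      have := pow_orderOf_eq_one q
      rwa [hq4] at this
    obtain ⟨c, hc⟩ := mem_zpowers_iff.1 (Cfsg.Lib.QD.mem_w_of_pow_four h hk4)
    obtain ⟨h1, h2, h3⟩ := Cfsg.Lib.QD.pows h
    rcases Int.even_or_odd c with ⟨r, rfl⟩ | ⟨r, rfl⟩
    · exfalso
      have : q ^ 2 = 1 := by
        rw [← hk, ← hc, ← zpow_natCast, ← zpow_mul, ← zpow_mul, Cfsg.Lib.CyclicMax.zpow_eq_one h.2, h1, h2]
        exact ⟨r, by push_cast; ring⟩
      have := Nat.le_of_dvd two_pos (orderOf_dvd_of_pow_eq_one this)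
      omega
    · have h5 : a ^ ((2 : ℤ) ^ (m - 2)) = q ^ (2 * r + 1) := by
        rw [← hk, ← hc, ← zpow_mul, ← zpow_mul, Cfsg.Lib.CyclicMax.zpow_eq_iff h.2, h1, h2]
        exact ⟨r * r + r, by ring⟩
      rw [h5]
      exact zpow_mem hq _
  have hw : a ^ ((2 : ℤ) ^ (m - 2)) ∈ Q' := by
    by_contra hno
    have hout : ∀ q : Q', e' q * e' q ≠ 1 → (q : (S : Subgroup G)) ∉ zpowers a := fun q hq hqa =>
      hno (hwmem q (hord q hq) hqa)
    refine hout (x * y) (by rwa [map_mul]) ?_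
    show (x : (S : Subgroup G)) * y ∈ zpowers a
    exact (mul_mem_iff_of_index_two (Cfsg.Lib.CyclicMax.index_zpowers h.2)).2
      (iff_of_false (hout x hx2) (hout y hy2))
  obtain ⟨j, hj⟩ : ∃ j : ℤ, a ^ (2 * j + 1) * b ∈ Q' := by
    by_contra hno
    push Not at hno
    have hin : ∀ q : Q', e' q * e' q ≠ 1 → (q : (S : Subgroup G)) ∈ zpowers a := fun q hq => by
      rcases Cfsg.Lib.CyclicMax.cases h.2 (q : (S : Subgroup G)) with ⟨k, hk⟩ | ⟨k, hk⟩
      · exact hk ▸ zpow_mem (mem_zpowers a) k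
      · exfalso
        rcases Int.even_or_odd k with ⟨r, rfl⟩ | ⟨r, rfl⟩
        · have h4 := hord q hq
          rw [hk, show r + r = 2 * r by ring, b_order h] at h4
          norm_num at h4
        · exact hno r (hk ▸ q.2)
    refine hxy (Subtype.ext ?_)
    obtain ⟨k, hk⟩ := mem_zpowers_iff.1 (hin x hx2)
    obtain ⟨l, hl⟩ := mem_zpowers_iff.1 (hin y hy2)
    show (x : (S : Subgroup G)) * y = y * x
    rw [← hk, ← hl, ← zpow_add, ← zpow_add, add_comm]
  exact ⟨⟨a, b, m, h, i, j, hTS, hQS, hT, ⟨eQ⟩, hi, hzT, hw, hj⟩⟩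

namespace Data

variable (D : Data S T Q)
include D

/-- the central involution -/
def z : G := ((D.a ^ ((2 : ℤ) ^ (D.m - 1)) : (S : Subgroup G)) : G)
/-- the cyclic element of order four -/
def w : G := ((D.a ^ ((2 : ℤ) ^ (D.m - 2)) : (S : Subgroup G)) : G)
/-- a noncentral involution -/
def t : G := ((D.a ^ (2 * D.i) * D.b : (S : Subgroup G)) : G)
/-- a non-cyclic element of order four -/
def q : G := ((D.a ^ (2 * D.j + 1) * D.b : (S : Subgroup G)) : G)

theorem z_ord : orderOf D.z = 2 := (Subgroup.orderOf_coe _).trans (Cfsg.Lib.QD.orderOf_z D.gen)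
theorem t_ord : orderOf D.t = 2 := (Subgroup.orderOf_coe _).trans (b_order D.gen _)
theorem w_ord : orderOf D.w = 4 := (Subgroup.orderOf_coe _).trans (Cfsg.Lib.QD.orderOf_w D.gen)
theorem q_ord : orderOf D.q = 4 := (Subgroup.orderOf_coe _).trans (c_order D.gen _)

theorem t_in : D.t ∈ T := D.t_mem

theorem z_in : D.z ∈ T := D.z_mem

theorem q_notMem_W : D.q ∉ zpowers D.w := by
  intro hm
  obtain ⟨k, hk⟩ := mem_zpowers_iff.1 hm
  refine Cfsg.Lib.CyclicMax.ne_b D.gen.2 ((2 : ℤ) ^ (D.m - 2) * k) (2 * D.j + 1) ?_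
  apply Subtype.ext
  rw [zpow_mul, SubgroupClass.coe_zpow]
  exact hk

theorem z_commute {s : G} (hs : s ∈ (S : Subgroup G)) : s * D.z = D.z * s :=
  congrArg Subtype.val (mem_center_iff.1 (z_central D.gen) ⟨s, hs⟩)

theorem w_normalize {s : G} (hs : s ∈ (S : Subgroup G)) {v : G} (hv : v ∈ zpowers D.w) :
    s * v * s⁻¹ ∈ zpowers D.w := by
  obtain ⟨k, rfl⟩ := hv
  have h := conj_zpow_mem D.gen (zpow_mem (mem_zpowers D.a) ((2 : ℤ) ^ (D.m - 2))) ⟨s, hs⟩
  obtain ⟨l, hl⟩ := mem_zpowers_iff.1 h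
  have hl' : D.w ^ l = s * D.w * s⁻¹ := by
    have := congrArg Subtype.val hl
    rw [SubgroupClass.coe_zpow] at this
    exact this
  show s * D.w ^ k * s⁻¹ ∈ zpowers D.w
  rw [← conj_zpow, ← hl']
  exact zpow_mem (zpow_mem (mem_zpowers _) l) k

theorem S_le_normalizer : (S : Subgroup G) ≤ normalizer ((zpowers D.w : Subgroup G) : Set G) := by
  intro s hs
  refine mem_normalizer_iff.2 fun v => ⟨fun hv => D.w_normalize hs hv, fun hv => ?_⟩
  have := D.w_normalize (inv_mem hs) hv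
  simpa [mul_assoc] using this

theorem inv_class {x : G} (hx : orderOf x = 2) : IsConj x D.z ∨ IsConj x D.t := by
  obtain ⟨g, hg⟩ := exists_conj_mem_sylow S (x := x) (k := 1) (by rw [hx, pow_one])
  have ho : orderOf (⟨g * x * g⁻¹, hg⟩ : (S : Subgroup G)) = 2 := by
    rw [Subgroup.orderOf_mk, show g * x * g⁻¹ = MulAut.conj g x from rfl, MulEquiv.orderOf_eq, hx]
  have hxg : IsConj x (g * x * g⁻¹) := isConj_iff.2 ⟨g, rfl⟩
  rcases Cfsg.Lib.QD.order_two_cases D.gen ho with e | ⟨k, e⟩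
  · exact Or.inl (hxg.trans (by rw [show g * x * g⁻¹ = D.z from congrArg Subtype.val e]))
  · refine Or.inr (hxg.trans ?_)
    have := MonoidHom.map_isConj (S : Subgroup G).subtype (b_conj D.gen k D.i)
    rw [← e] at this
    exact this

theorem four_class {x : G} (hx : orderOf x = 4) : IsConj x D.w ∨ IsConj x D.q := by
  obtain ⟨g, hg⟩ := exists_conj_mem_sylow S (x := x) (k := 2) (by rw [hx]; norm_num)
  have ho : orderOf (⟨g * x * g⁻¹, hg⟩ : (S : Subgroup G)) = 4 := by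
    rw [Subgroup.orderOf_mk, show g * x * g⁻¹ = MulAut.conj g x from rfl, MulEquiv.orderOf_eq, hx]
  have hxg : IsConj x (g * x * g⁻¹) := isConj_iff.2 ⟨g, rfl⟩
  rcases four_cases D.gen ho with e | ⟨k, e⟩
  · exact Or.inl (hxg.trans (MonoidHom.map_isConj (S : Subgroup G).subtype e))
  · refine Or.inr (hxg.trans ?_)
    have := MonoidHom.map_isConj (S : Subgroup G).subtype (c_conj D.gen k D.j)
    rw [← e] at this
    exact this

theorem T_cases {x : G} (hx : x ∈ T) : x = 1 ∨ x = D.z ∨ x = D.t ∨ x = D.z * D.t := by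
  classical
  have hsub : ({1, D.z, D.t, D.z * D.t} : Set G) ⊆ T := by
    rintro x (rfl | rfl | rfl | rfl)
    exacts [one_mem T, D.z_mem, D.t_mem, mul_mem D.z_mem D.t_mem]
  have hz1 : D.z ≠ 1 := fun e => by have := D.z_ord; rw [e, orderOf_one] at this; omega
  have ht1 : D.t ≠ 1 := fun e => by have := D.t_ord; rw [e, orderOf_one] at this; omega
  have htz : D.t ≠ D.z := fun e => Cfsg.Lib.CyclicMax.ne_b D.gen.2 _ _ (Subtype.ext e).symm
  have hne : D.z * D.t ≠ 1 := fun e => htz (by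
    rw [← inv_eq_of_mul_eq_one_right e, inv_eq_of_mul_eq_one_right]
    rw [← pow_two, ← D.z_ord, pow_orderOf_eq_one])
  have heq := Set.eq_of_subset_of_ncard_le hsub (by
    rw [show (T : Set G).ncard = 4 from D.klein.card_four]
    rw [Set.ncard_insert_of_notMem, Set.ncard_insert_of_notMem, Set.ncard_pair]
    · exact fun e => hz1 (mul_right_cancel (e.symm.trans (one_mul _).symm))
    · simp only [Set.mem_insert_iff, Set.mem_singleton_iff, not_or]
      exact ⟨htz.symm, fun e => ht1 (mul_left_cancel (e.symm.trans (mul_one D.z).symm))⟩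
    · simp only [Set.mem_insert_iff, Set.mem_singleton_iff, not_or]
      exact ⟨hz1.symm, ht1.symm, hne.symm⟩)
  have : x ∈ ({1, D.z, D.t, D.z * D.t} : Set G) := heq.symm ▸ hx
  simpa using this

theorem zt_conj : IsConj (D.z * D.t) D.t := by
  have h := MonoidHom.map_isConj (S : Subgroup G).subtype (b_conj D.gen ((2 : ℤ) ^ (D.m - 2) + D.i) D.i)
  have e : D.z * D.t = ((D.a ^ (2 * ((2 : ℤ) ^ (D.m - 2) + D.i)) * D.b : (S : Subgroup G)) : G) := by
    rw [z, t, ← Subgroup.coe_mul, ← mul_assoc, ← zpow_add]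
    congr 3
    rw [(Cfsg.Lib.QD.pows D.gen).2.1]; ring
  rw [e]
  exact h

theorem commute_T {x y : G} (hx : x ∈ T) (hy : y ∈ T) : x * y = y * x :=
  congrArg Subtype.val (mul_comm_of_exponent_two D.klein.exponent_two (⟨x, hx⟩ : T) ⟨y, hy⟩)

theorem T_le_centralizer : T ≤ centralizer (T : Set G) := fun _ hx =>
  mem_centralizer_iff.2 fun _ hy => D.commute_T hy hx

theorem mem_centralizer_T {n : G} (hz : n * D.z * n⁻¹ = D.z) (ht : n * D.t * n⁻¹ = D.t) :
    n ∈ centralizer (T : Set G) := by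
  rw [mem_centralizer_iff]
  intro x hx
  have hz' := mul_inv_eq_iff_eq_mul.1 hz
  have ht' := mul_inv_eq_iff_eq_mul.1 ht
  rcases D.T_cases hx with rfl | rfl | rfl | rfl
  · simp
  · exact hz'.symm
  · exact ht'.symm
  · exact ((show Commute n D.z from hz').mul_right ht').symm.eq

theorem stab_T_relIndex_le {N' : Subgroup G} (hN' : N' ≤ normalizer (T : Set G))
    (hz : ∀ n ∈ N', n * D.z * n⁻¹ = D.z) : (centralizer (T : Set G)).relIndex N' ≤ 2 := by
  classical
  rw [relIndex, index_eq_card]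
  haveI : Fintype (N' ⧸ (centralizer (T : Set G)).subgroupOf N') := Fintype.ofFinite _
  have key : ∀ n : N', (n : G) * D.t * (n : G)⁻¹ = D.t ∨ (n : G) * D.t * (n : G)⁻¹ = D.z * D.t := by
    intro n
    have hmem := (mem_normalizer_iff.1 (hN' n.2) D.t).1 D.t_mem
    rcases D.T_cases hmem with e | e | e | e
    · exfalso; have := D.t_ord; rw [conj_eq_one_iff.1 e, orderOf_one] at this; omega
    · exfalso
      refine Cfsg.Lib.CyclicMax.ne_b D.gen.2 _ _ (Subtype.ext (show D.t = D.z from ?_)).symm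
      exact mul_left_cancel (mul_right_cancel (e.trans (hz n n.2).symm))
    · exact Or.inl e
    · exact Or.inr e
  let f : N' ⧸ (centralizer (T : Set G)).subgroupOf N' → Bool := fun c =>
    decide ((c.out : G) * D.t * (c.out : G)⁻¹ = D.t)
  have hf : Function.Injective f := by
    intro c d hcd
    rw [← c.out_eq, ← d.out_eq]
    apply QuotientGroup.eq.2
    show ((c.out : G))⁻¹ * (d.out : G) ∈ centralizer (T : Set G)
    have hzz : ∀ e : N', (e : G)⁻¹ * D.z * (e : G) = D.z := fun e => by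
      have := hz _ (inv_mem e.2)
      rwa [inv_inv] at this
    refine D.mem_centralizer_T ?_ ?_
    · calc (c.out : G)⁻¹ * (d.out : G) * D.z * ((c.out : G)⁻¹ * (d.out : G))⁻¹
          = (c.out : G)⁻¹ * ((d.out : G) * D.z * (d.out : G)⁻¹) * (c.out : G) := by group
        _ = D.z := by rw [hz _ d.out.2, hzz]
    · have hcd' : (d.out : G) * D.t * (d.out : G)⁻¹ = (c.out : G) * D.t * (c.out : G)⁻¹ := by
        simp only [f, decide_eq_decide] at hcd
        rcases key c.out with hc | hc <;> rcases key d.out with hd | hd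
        · exact hd.trans hc.symm
        · exact (hcd.1 hc).trans hc.symm
        · exact hd.trans (hcd.2 hd).symm
        · exact hd.trans hc.symm
      calc (c.out : G)⁻¹ * (d.out : G) * D.t * ((c.out : G)⁻¹ * (d.out : G))⁻¹
          = (c.out : G)⁻¹ * ((d.out : G) * D.t * (d.out : G)⁻¹) * (c.out : G) := by group
        _ = D.t := by rw [hcd']; group
  have := Nat.card_le_card_of_injective f hf
  rw [Nat.card_eq_fintype_card (α := Bool), Fintype.card_bool] at this
  exact this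

theorem isConj_t_z (h₁ : (centralizer (T : Set G)).relIndex (normalizer (T : Set G)) = 6) :
    IsConj D.t D.z := by
  by_contra hnc
  have := D.stab_T_relIndex_le le_rfl fun n hn => by
    have hmem := (mem_normalizer_iff.1 hn D.z).1 D.z_mem
    rcases D.T_cases hmem with e | e | e | e
    · exfalso; have := D.z_ord; rw [conj_eq_one_iff.1 e, orderOf_one] at this; omega
    · exact e
    · exact absurd (isConj_iff.2 ⟨n, e⟩ : IsConj D.z D.t).symm hnc
    · exact absurd ((isConj_iff.2 ⟨n, e⟩ : IsConj D.z (D.z * D.t)).trans D.zt_conj).symm hnc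
  omega

theorem fix_z_of_two (hS : Cfsg.IsQuasiDihedral (S : Subgroup G))
    (h₁ : (centralizer (T : Set G)).relIndex (normalizer (T : Set G)) = 2) {n : G}
    (hn : n ∈ normalizer (T : Set G)) : n * D.z * n⁻¹ = D.z := by
  have hTsub : IsKleinFour (T.subgroupOf S) := by
    have e := subgroupOfEquivOfLe D.T_le
    exact ⟨(Nat.card_congr e.toEquiv).trans D.klein.card_four,
      (Monoid.exponent_eq_of_mulEquiv e).trans D.klein.exponent_two⟩
  obtain ⟨hTc, hTi⟩ := (Cfsg.Agent.S1190.result hS).2 _ hTsub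
  obtain ⟨s, hsN, hsT⟩ : ∃ s ∈ normalizer ((T.subgroupOf (S : Subgroup G) : Subgroup (S : Subgroup G)) : Set (S : Subgroup G)),
      s ∉ T.subgroupOf (S : Subgroup G) := by
    by_contra hno
    push Not at hno
    rw [relIndex_eq_one.2 hno] at hTi
    omega
  have hsN' : (s : G) ∈ normalizer (T : Set G) := by
    rw [mem_normalizer_iff] at hsN ⊢
    intro x
    constructor
    · intro hx; exact (hsN ⟨x, D.T_le hx⟩).1 hx
    · intro hx
      have hxS : x ∈ (S : Subgroup G) := by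
        have h1 := mul_mem (mul_mem (inv_mem s.2) (D.T_le hx)) s.2
        simpa [mul_assoc] using h1
      exact (hsN ⟨x, hxS⟩).2 hx
  have hsC : (s : G) ∉ centralizer (T : Set G) := fun hc => hsT (by
    rw [← hTc, mem_centralizer_iff]
    exact fun x hx => Subtype.ext (mem_centralizer_iff.1 hc (x : G) hx))
  have hsz : (s : G) * D.z * (s : G)⁻¹ = D.z := by rw [D.z_commute s.2, mul_inv_cancel_right]
  have hC : ∀ c ∈ centralizer (T : Set G), c * D.z * c⁻¹ = D.z := fun c hc => by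
    rw [← mem_centralizer_iff.1 hc D.z D.z_mem, mul_inv_cancel_right]
  rcases mem_or_mul_mem h₁ hsN' hsC hn with hk | hk
  · exact hC n hk
  · have := hC _ hk
    rwa [show n * (s : G) * D.z * (n * (s : G))⁻¹ = n * ((s : G) * D.z * (s : G)⁻¹) * n⁻¹ by group, hsz] at this

theorem not_isConj_t_z (hS : Cfsg.IsQuasiDihedral (S : Subgroup G))
    (h₁ : (centralizer (T : Set G)).relIndex (normalizer (T : Set G)) = 2) : ¬ IsConj D.t D.z := by
  intro hc
  obtain ⟨g, hg⟩ := isConj_iff.1 hc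
  set X := T.map (MulAut.conj g).toMonoidHom with hX
  have hXC : X ≤ centralizer ({D.z} : Set G) := by
    rintro _ ⟨x, hx, rfl⟩
    rw [mem_centralizer_singleton_iff, ← hg]
    show g * x * g⁻¹ * (g * D.t * g⁻¹) = g * D.t * g⁻¹ * (g * x * g⁻¹)
    rw [show g * x * g⁻¹ * (g * D.t * g⁻¹) = g * (x * D.t) * g⁻¹ by group, D.commute_T hx D.t_in]
    group
  have hXp : IsPGroup 2 X := (IsPGroup.of_card (n := 2) (by rw [D.klein.card_four]; norm_num)).map _
  obtain ⟨c, hcC, hcX⟩ := exists_sylow_conj S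
    (fun s hs => mem_centralizer_singleton_iff.2 (D.z_commute hs)) hXp hXC
  have hcz : c * D.z * c⁻¹ = D.z := by
    rw [mem_centralizer_singleton_iff.1 hcC, mul_inv_cancel_right]
  set Y := T.map (MulAut.conj (c * g)).toMonoidHom with hY
  have hYS : Y ≤ S := by
    rintro _ ⟨x, hx, rfl⟩
    have := hcX _ ⟨x, hx, rfl⟩
    show c * g * x * (c * g)⁻¹ ∈ (S : Subgroup G)
    rwa [show c * g * x * (c * g)⁻¹ = c * (g * x * g⁻¹) * c⁻¹ by group]
  have hYk : IsKleinFour (Y.subgroupOf S) := by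
    have e := (subgroupOfEquivOfLe hYS).trans (T.equivMapOfInjective _ (MulAut.conj (c * g)).injective).symm
    exact ⟨(Nat.card_congr e.toEquiv).trans D.klein.card_four,
      (Monoid.exponent_eq_of_mulEquiv e).trans D.klein.exponent_two⟩
  have hTsub : IsKleinFour (T.subgroupOf S) := by
    have e := subgroupOfEquivOfLe D.T_le
    exact ⟨(Nat.card_congr e.toEquiv).trans D.klein.card_four,
      (Monoid.exponent_eq_of_mulEquiv e).trans D.klein.exponent_two⟩
  obtain ⟨s, hs⟩ := (Cfsg.Agent.S1190.result hS).1 _ _ hYk hTsub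
  have hmap : ∀ x ∈ T, (s : G) * c * g * x * ((s : G) * c * g)⁻¹ ∈ T := by
    intro x hx
    have h1 : (⟨_, hYS ⟨x, hx, rfl⟩⟩ : (S : Subgroup G)) ∈ Y.subgroupOf S := ⟨x, hx, rfl⟩
    have h2 : s * ⟨_, hYS ⟨x, hx, rfl⟩⟩ * s⁻¹ ∈ T.subgroupOf S := by rw [← hs]; exact ⟨_, h1, rfl⟩
    have h3 : (s : G) * (c * g * x * (c * g)⁻¹) * (s : G)⁻¹ ∈ T := h2
    rwa [show (s : G) * c * g * x * ((s : G) * c * g)⁻¹ = (s : G) * (c * g * x * (c * g)⁻¹) * (s : G)⁻¹ by group]
  have hn : (s : G) * c * g ∈ normalizer (T : Set G) := by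
    refine mem_normalizer_iff_map_conj_eq.2 (eq_of_le_of_card_ge ?_
      (card_map_of_injective (MulEquiv.injective _)).ge)
    rintro _ ⟨x, hx, rfl⟩
    exact hmap x hx
  have h1 := D.fix_z_of_two hS h₁ hn
  have h2 : (s : G) * c * g * D.t * ((s : G) * c * g)⁻¹ = D.z := by
    calc (s : G) * c * g * D.t * ((s : G) * c * g)⁻¹ = (s : G) * (c * (g * D.t * g⁻¹) * c⁻¹) * (s : G)⁻¹ := by group
      _ = D.z := by rw [hg, hcz, D.z_commute s.2, mul_inv_cancel_right]
  have h3 := mul_left_cancel (mul_right_cancel (h2.trans h1.symm))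
  exact Cfsg.Lib.CyclicMax.ne_b D.gen.2 _ _ (Subtype.ext h3).symm

theorem wqw : D.w * D.q * D.w⁻¹ = D.z * D.q ∧ D.q * D.w * D.q⁻¹ = D.w⁻¹ ∧ D.q * D.q = D.z ∧ D.w * D.w = D.z := by
  obtain ⟨h1, h2, h3⟩ := Cfsg.Lib.QD.pows D.gen
  refine ⟨?_, ?_, ?_, ?_⟩
  · have : (D.a ^ ((2 : ℤ) ^ (D.m - 2))) * (D.a ^ (2 * D.j + 1) * D.b) * (D.a ^ ((2 : ℤ) ^ (D.m - 2)))⁻¹ =
        D.a ^ ((2 : ℤ) ^ (D.m - 1)) * (D.a ^ (2 * D.j + 1) * D.b) := by
      rw [Cfsg.Lib.CyclicMax.conj_a D.gen.2, ← mul_assoc, ← zpow_add, Cfsg.Lib.CyclicMax.b_eq_iff D.gen.2]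
      exact ⟨2 ^ (D.m - 3), by rw [h1, h2, h3]; ring⟩
    exact congrArg Subtype.val this
  · have : (D.a ^ (2 * D.j + 1) * D.b) * (D.a ^ ((2 : ℤ) ^ (D.m - 2))) * (D.a ^ (2 * D.j + 1) * D.b)⁻¹ =
        (D.a ^ ((2 : ℤ) ^ (D.m - 2)))⁻¹ := by
      rw [show D.a ^ (2 * D.j + 1) * D.b * D.a ^ ((2 : ℤ) ^ (D.m - 2)) * (D.a ^ (2 * D.j + 1) * D.b)⁻¹ =
        D.a ^ (2 * D.j + 1) * (D.b * D.a ^ ((2 : ℤ) ^ (D.m - 2))) * D.b⁻¹ * (D.a ^ (2 * D.j + 1))⁻¹ by group,
        Cfsg.Lib.CyclicMax.conj_b D.gen.2, ← mul_assoc, mul_inv_cancel_right, ← zpow_add, ← zpow_neg,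
        ← zpow_add, ← zpow_neg, Cfsg.Lib.CyclicMax.zpow_eq_iff D.gen.2]
      exact ⟨-(2 ^ (D.m - 3)), by rw [h1, h2, h3]; ring⟩
    exact congrArg Subtype.val this
  · exact congrArg Subtype.val (c_sq D.gen D.j)
  · have : D.a ^ ((2 : ℤ) ^ (D.m - 2)) * D.a ^ ((2 : ℤ) ^ (D.m - 2)) = D.a ^ ((2 : ℤ) ^ (D.m - 1)) := by
      rw [← zpow_add, h2, two_mul]
    exact congrArg Subtype.val this

theorem Q_four {x : G} (hx : x ∈ Q) (hxW : x ∉ zpowers D.w) :
    ∃ k : ℤ, x = ((D.a ^ (2 * k + 1) * D.b : (S : Subgroup G)) : G) := by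
  obtain ⟨e⟩ := D.quat
  have hxS := D.Q_le hx
  rcases Cfsg.Lib.CyclicMax.cases D.gen.2 ⟨x, hxS⟩ with ⟨k, hk⟩ | ⟨k, hk⟩
  · exfalso
    have h4 : (D.a ^ k) ^ 4 = 1 := by
      rw [← hk]
      apply Subtype.ext
      show x ^ 4 = 1
      have hall : ∀ q : QuaternionGroup 2, q ^ 4 = 1 := by decide
      have := congrArg e.symm (hall (e ⟨x, hx⟩))
      rw [map_pow, MulEquiv.symm_apply_apply, map_one] at this
      simpa using congrArg Subtype.val this
    obtain ⟨c, hc⟩ := mem_zpowers_iff.1 (Cfsg.Lib.QD.mem_w_of_pow_four D.gen h4)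
    refine hxW ⟨c, ?_⟩
    have := congrArg Subtype.val (hc.trans hk.symm)
    rw [SubgroupClass.coe_zpow] at this
    exact this
  · rcases Int.even_or_odd k with ⟨r, rfl⟩ | ⟨r, rfl⟩
    · exfalso
      have ho : orderOf x = 2 := by
        rw [← Subgroup.orderOf_mk x hxS, hk, show r + r = 2 * r by ring, b_order D.gen]
      have huniq : ∀ q : QuaternionGroup 2, q * q = 1 → q = 1 ∨ q = QuaternionGroup.a 2 := by decide
      have hz : D.z ∈ Q := by rw [← D.wqw.2.2.2]; exact mul_mem D.w_mem D.w_mem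
      have h2 : ∀ y, ∀ hy : y ∈ Q, orderOf y = 2 → e ⟨y, hy⟩ = QuaternionGroup.a 2 := by
        intro y hy hyo
        refine (huniq _ ?_).resolve_left fun h1 => ?_
        · rw [← map_mul, ← map_one e]
          congr 1
          apply Subtype.ext
          show y * y = 1
          rw [← pow_two, ← hyo, pow_orderOf_eq_one]
        · have : y = 1 := congrArg Subtype.val (e.map_eq_one_iff.1 h1)
          rw [this, orderOf_one] at hyo
          omega
      have hxz : x = D.z := congrArg Subtype.val (e.injective ((h2 x hx ho).trans (h2 D.z hz D.z_ord).symm))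
      refine Cfsg.Lib.CyclicMax.ne_b D.gen.2 ((2 : ℤ) ^ (D.m - 1)) (r + r) ?_
      rw [← hk]
      exact Subtype.ext hxz.symm
    · exact ⟨r, congrArg Subtype.val hk⟩

theorem Q_eq : Q = closure ({D.w, D.q} : Set G) := by
  obtain ⟨e⟩ := D.quat
  refine le_antisymm ?_ ((closure_le _).2 ?_)
  · intro x hx
    have hgen : ∀ u v y : QuaternionGroup 2, u * v ≠ v * u →
        y ∈ ({1, u, v, u * v, u * u, u * u * u, v * v * v, v * u} : Finset (QuaternionGroup 2)) := by decide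
    have hwq : e ⟨D.w, D.w_mem⟩ * e ⟨D.q, D.q_mem⟩ ≠ e ⟨D.q, D.q_mem⟩ * e ⟨D.w, D.w_mem⟩ := by
      rw [← map_mul, ← map_mul]
      intro h
      have h' : D.w * D.q = D.q * D.w := congrArg Subtype.val (e.injective h)
      have h5 := D.wqw.2.1
      rw [← h', mul_inv_cancel_right] at h5
      have h6 := D.w_ord
      have : D.w ^ 2 = 1 := by rw [pow_two]; nth_rw 1 [h5]; rw [inv_mul_cancel]
      have := Nat.le_of_dvd two_pos (orderOf_dvd_of_pow_eq_one this)
      omega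
    have hw : D.w ∈ closure ({D.w, D.q} : Set G) := subset_closure (Set.mem_insert _ _)
    have hq : D.q ∈ closure ({D.w, D.q} : Set G) := subset_closure (Set.mem_insert_of_mem _ rfl)
    have hx' : ∀ y : Q, e y = e ⟨x, hx⟩ → (y : G) = x := fun y hy => congrArg Subtype.val (e.injective hy)
    have hmem := hgen _ _ (e ⟨x, hx⟩) hwq
    simp only [Finset.mem_insert, Finset.mem_singleton] at hmem
    rcases hmem with h | h | h | h | h | h | h | h
    · rw [← hx' 1 (by rw [map_one, h])]; exact one_mem _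
    · rw [← hx' ⟨D.w, D.w_mem⟩ h.symm]; exact hw
    · rw [← hx' ⟨D.q, D.q_mem⟩ h.symm]; exact hq
    · rw [← map_mul] at h; rw [← hx' _ h.symm]; exact mul_mem hw hq
    · rw [← map_mul] at h; rw [← hx' _ h.symm]; exact mul_mem hw hw
    · rw [← map_mul, ← map_mul] at h; rw [← hx' _ h.symm]; exact mul_mem (mul_mem hw hw) hw
    · rw [← map_mul, ← map_mul] at h; rw [← hx' _ h.symm]; exact mul_mem (mul_mem hq hq) hq
    · rw [← map_mul] at h; rw [← hx' _ h.symm]; exact mul_mem hq hw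
  · rintro x (rfl | rfl)
    exacts [D.w_mem, D.q_mem]

theorem stab_Q_relIndex_le {N' : Subgroup G} (hN' : N' ≤ normalizer (Q : Set G))
    (hW : ∀ n ∈ N', n * D.w * n⁻¹ ∈ zpowers D.w) :
    (Q ⊔ centralizer (Q : Set G)).relIndex N' ≤ 2 := by
  classical
  obtain ⟨hwq, hqw, hqq, hww⟩ := D.wqw
  have hW4 : ∀ v ∈ zpowers D.w, v = 1 ∨ v = D.w ∨ v = D.z ∨ v = D.w⁻¹ := by
    rintro _ ⟨k, rfl⟩
    show D.w ^ k = 1 ∨ D.w ^ k = D.w ∨ D.w ^ k = D.z ∨ D.w ^ k = D.w⁻¹
    rw [← zpow_mod_orderOf, D.w_ord]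
    rcases (show k % ((4 : ℕ) : ℤ) = 0 ∨ k % ((4 : ℕ) : ℤ) = 1 ∨ k % ((4 : ℕ) : ℤ) = 2 ∨
      k % ((4 : ℕ) : ℤ) = 3 by omega) with h | h | h | h <;> rw [h]
    · exact Or.inl (zpow_zero _)
    · exact Or.inr (Or.inl (zpow_one _))
    · exact Or.inr (Or.inr (Or.inl (by rw [zpow_two, hww])))
    · refine Or.inr (Or.inr (Or.inr (eq_inv_of_mul_eq_one_left ?_)))
      rw [← zpow_add_one, show (3 : ℤ) + 1 = ((4 : ℕ) : ℤ) by norm_num, ← D.w_ord, zpow_natCast,
        pow_orderOf_eq_one]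
  -- normalising both cyclic subgroups means inducing an inner automorphism
  have hin : ∀ n ∈ N', n * D.q * n⁻¹ ∈ zpowers D.q → n ∈ Q ⊔ centralizer (Q : Set G) := by
    intro n hn hnq
    obtain ⟨n₁, ⟨y, hy, rfl⟩, hn₁w, hn₁q⟩ : ∃ n₁, (∃ y ∈ Q, n₁ = y * n) ∧ n₁ * D.w * n₁⁻¹ = D.w ∧
        (n₁ * D.q * n₁⁻¹ = D.q ∨ n₁ * D.q * n₁⁻¹ = D.z * D.q) := by
      have hq4 : ∀ v ∈ zpowers D.q, orderOf v = 4 → v = D.q ∨ v = D.z * D.q := by
        rintro _ ⟨k, rfl⟩ hv
        show D.q ^ k = D.q ∨ D.q ^ k = D.z * D.q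
        replace hv : orderOf (D.q ^ k) = 4 := hv
        rw [← zpow_mod_orderOf, D.q_ord] at hv ⊢
        rcases (show k % ((4 : ℕ) : ℤ) = 0 ∨ k % ((4 : ℕ) : ℤ) = 1 ∨ k % ((4 : ℕ) : ℤ) = 2 ∨
          k % ((4 : ℕ) : ℤ) = 3 by omega) with h | h | h | h <;> rw [h] at hv ⊢
        · rw [zpow_zero, orderOf_one] at hv; omega
        · exact Or.inl (zpow_one _)
        · rw [zpow_two, hqq, D.z_ord] at hv; omega
        · refine Or.inr ?_
          rw [show (3 : ℤ) = 2 + 1 by norm_num, zpow_add_one, zpow_two, hqq]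
      have hcq : ∀ g : G, orderOf (g * D.q * g⁻¹) = 4 := fun g => by
        rw [show g * D.q * g⁻¹ = MulAut.conj g D.q from rfl, MulEquiv.orderOf_eq, D.q_ord]
      have hcw : orderOf (n * D.w * n⁻¹) = 4 := by
        rw [show n * D.w * n⁻¹ = MulAut.conj n D.w from rfl, MulEquiv.orderOf_eq, D.w_ord]
      rcases hW4 _ (hW n hn) with h | h | h | h
      · rw [h, orderOf_one] at hcw; omega
      · exact ⟨n, ⟨1, one_mem Q, (one_mul n).symm⟩, h, hq4 _ hnq (hcq n)⟩
      · rw [h, D.z_ord] at hcw; omega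
      · refine ⟨D.q * n, ⟨D.q, D.q_mem, rfl⟩, ?_, ?_⟩
        · rw [show D.q * n * D.w * (D.q * n)⁻¹ = D.q * (n * D.w * n⁻¹) * D.q⁻¹ by group, h,
            ← conj_inv, hqw, inv_inv]
        · refine hq4 _ ?_ (hcq _)
          rw [show D.q * n * D.q * (D.q * n)⁻¹ = D.q * (n * D.q * n⁻¹) * D.q⁻¹ by group]
          exact mul_mem (mul_mem (mem_zpowers _) hnq) (inv_mem (mem_zpowers _))
    have hcent : ∀ c : G, c * D.w * c⁻¹ = D.w → c * D.q * c⁻¹ = D.q → c ∈ centralizer (Q : Set G) := by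
      intro c hcw hcq
      have hle : closure ({D.w, D.q} : Set G) ≤ centralizer ({c} : Set G) := by
        rw [closure_le]
        rintro x (rfl | rfl)
        · exact mem_centralizer_singleton_iff.2 (mul_inv_eq_iff_eq_mul.1 hcw).symm
        · exact mem_centralizer_singleton_iff.2 (mul_inv_eq_iff_eq_mul.1 hcq).symm
      rw [← D.Q_eq] at hle
      exact mem_centralizer_iff.2 fun x hx => mem_centralizer_singleton_iff.1 (hle hx)
    have hmem : y * n ∈ Q ⊔ centralizer (Q : Set G) := by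
      rcases hn₁q with h | h
      · exact mem_sup_right (hcent _ hn₁w h)
      · have hww' : D.w⁻¹ * D.z = D.w := by rw [← hww, inv_mul_cancel_left]
        have h2 : D.w⁻¹ * (y * n) ∈ centralizer (Q : Set G) := by
          refine hcent _ ?_ ?_
          · rw [show D.w⁻¹ * (y * n) * D.w * (D.w⁻¹ * (y * n))⁻¹ = D.w⁻¹ * (y * n * D.w * (y * n)⁻¹) * D.w by group,
              hn₁w]
            group
          · rw [show D.w⁻¹ * (y * n) * D.q * (D.w⁻¹ * (y * n))⁻¹ = D.w⁻¹ * (y * n * D.q * (y * n)⁻¹) * D.w by group,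
              h, ← hwq]
            group
        have h3 := mul_mem (mem_sup_left D.w_mem : D.w ∈ Q ⊔ centralizer (Q : Set G)) (mem_sup_right h2)
        rwa [mul_inv_cancel_left] at h3
    exact (mul_mem_cancel_left (mem_sup_left hy : y ∈ Q ⊔ centralizer (Q : Set G))).1 hmem
  rw [relIndex, index_eq_card]
  let f : N' ⧸ (Q ⊔ centralizer (Q : Set G)).subgroupOf N' → Bool := fun c =>
    decide ((c.out : G) * D.q * (c.out : G)⁻¹ ∈ zpowers D.q)
  have hf : Function.Injective f := by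
    intro c d hcd
    rw [← c.out_eq, ← d.out_eq]
    apply QuotientGroup.eq.2
    show ((c.out : G))⁻¹ * (d.out : G) ∈ Q ⊔ centralizer (Q : Set G)
    simp only [f, decide_eq_decide] at hcd
    by_cases hc : (c.out : G) * D.q * (c.out : G)⁻¹ ∈ zpowers D.q
    · exact mul_mem (inv_mem (hin _ c.out.2 hc)) (hin _ d.out.2 (hcd.1 hc))
    · refine hin _ (mul_mem (inv_mem c.out.2) d.out.2) ?_
      have hd : ¬ (d.out : G) * D.q * (d.out : G)⁻¹ ∈ zpowers D.q := fun hd => hc (hcd.2 hd)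
      -- both map `⟨q⟩` to the remaining cyclic subgroup of order four
      have key : ∀ n : N', ¬ (n : G) * D.q * (n : G)⁻¹ ∈ zpowers D.q →
          (n : G) * D.q * (n : G)⁻¹ = D.w * D.q ∨ (n : G) * D.q * (n : G)⁻¹ = D.q * D.w := by
        intro n hn
        set v := (n : G) * D.q * (n : G)⁻¹ with hv
        have hvQ : v ∈ Q := (mem_normalizer_iff.1 (hN' n.2) D.q).1 D.q_mem
        obtain ⟨e⟩ := D.quat
        have hall : ∀ u w' y : QuaternionGroup 2, u * w' ≠ w' * u → (∀ k : Fin 4, y ≠ u ^ (k : ℕ)) →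
            (∀ k : Fin 4, y ≠ w' ^ (k : ℕ)) → y = w' * u ∨ y = u * w' := by decide
        have hvW : v ∉ zpowers D.w := by
          intro h
          apply D.q_notMem_W
          obtain ⟨k, hk⟩ := mem_zpowers_iff.1 (hW _ (inv_mem n.2))
          obtain ⟨l, hl⟩ := mem_zpowers_iff.1 h
          have h1 : D.q = (n : G)⁻¹ * D.w ^ l * ((n : G)⁻¹)⁻¹ := by rw [hl, hv]; group
          rw [h1, ← conj_zpow, ← hk]
          exact zpow_mem (zpow_mem (mem_zpowers _) k) l
        have hwq' : e ⟨D.q, D.q_mem⟩ * e ⟨D.w, D.w_mem⟩ ≠ e ⟨D.w, D.w_mem⟩ * e ⟨D.q, D.q_mem⟩ := by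
          rw [← map_mul, ← map_mul]
          intro h
          have h' : D.q * D.w = D.w * D.q := congrArg Subtype.val (e.injective h)
          have h5 := hqw
          rw [h', mul_inv_cancel_right] at h5
          have : D.w ^ 2 = 1 := by rw [pow_two]; nth_rw 1 [h5]; rw [inv_mul_cancel]
          have h6 := Nat.le_of_dvd two_pos (orderOf_dvd_of_pow_eq_one this)
          rw [D.w_ord] at h6
          omega
        rcases hall _ _ (e ⟨v, hvQ⟩) hwq' (fun k hk => hn (by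
            rw [← map_pow] at hk
            rw [show v = D.q ^ (k : ℕ) from congrArg Subtype.val (e.injective hk)]
            exact pow_mem (mem_zpowers _) _)) (fun k hk => hvW (by
            rw [← map_pow] at hk
            rw [show v = D.w ^ (k : ℕ) from congrArg Subtype.val (e.injective hk)]
            exact pow_mem (mem_zpowers _) _)) with h | h
        · rw [← map_mul] at h
          exact Or.inl (congrArg Subtype.val (e.injective h))
        · rw [← map_mul] at h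
          exact Or.inr (congrArg Subtype.val (e.injective h))
      have hmem : ∀ x y : G, (x = D.w * D.q ∨ x = D.q * D.w) → (y = D.w * D.q ∨ y = D.q * D.w) →
          ∃ k : ℤ, y = x ^ k := by
        have hinv : (D.w * D.q)⁻¹ = D.q * D.w := by
          rw [inv_eq_iff_mul_eq_one]
          calc D.w * D.q * (D.q * D.w) = D.w * (D.q * D.q) * D.w := by group
            _ = D.z * (D.w * D.w) := by
              have hzw : D.w * D.z = D.z * D.w := D.z_commute (D.Q_le D.w_mem)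
              rw [hqq, hzw, mul_assoc]
            _ = 1 := by rw [hww, ← pow_two, ← D.z_ord, pow_orderOf_eq_one]
        rintro x y (rfl | rfl) (rfl | rfl)
        · exact ⟨1, (zpow_one _).symm⟩
        · exact ⟨-1, by rw [zpow_neg_one, hinv]⟩
        · exact ⟨-1, by rw [zpow_neg_one, ← hinv, inv_inv]⟩
        · exact ⟨1, (zpow_one _).symm⟩
      obtain ⟨k, hk⟩ := hmem _ _ (key c.out hc) (key d.out hd)
      refine ⟨k, ?_⟩
      show D.q ^ k = _
      calc D.q ^ k = (c.out : G)⁻¹ * (((c.out : G) * D.q * (c.out : G)⁻¹) ^ k) * (c.out : G) := by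
            rw [conj_zpow]; group
        _ = (c.out : G)⁻¹ * (d.out : G) * D.q * ((c.out : G)⁻¹ * (d.out : G))⁻¹ := by rw [← hk]; group
  have := Nat.card_le_card_of_injective f hf
  rw [Nat.card_eq_fintype_card (α := Bool), Fintype.card_bool] at this
  exact this

theorem conj_w_class {n : G} (hn : n ∈ normalizer (Q : Set G)) (h : n * D.w * n⁻¹ ∉ zpowers D.w) :
    IsConj D.w D.q := by
  obtain ⟨k, hk⟩ := D.Q_four ((mem_normalizer_iff.1 hn D.w).1 D.w_mem) h
  exact (isConj_iff.2 ⟨n, hk⟩ : IsConj D.w _).trans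
    (MonoidHom.map_isConj (S : Subgroup G).subtype (c_conj D.gen k D.j))

theorem isConj_w_q (h₂ : (Q ⊔ centralizer (Q : Set G)).relIndex (normalizer (Q : Set G)) = 6) :
    IsConj D.w D.q := by
  by_contra hnc
  have := D.stab_Q_relIndex_le le_rfl fun n hn => by
    by_contra h
    exact hnc (D.conj_w_class hn h)
  omega

theorem fix_W_of_two (hS : Cfsg.IsQuasiDihedral (S : Subgroup G))
    (h₂ : (Q ⊔ centralizer (Q : Set G)).relIndex (normalizer (Q : Set G)) = 2) {n : G}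
    (hn : n ∈ normalizer (Q : Set G)) : n ∈ normalizer ((zpowers D.w : Subgroup G) : Set G) := by
  obtain ⟨e⟩ := D.quat
  obtain ⟨hQc, hQi⟩ := (Cfsg.Agent.S1191.result hS).2 (Q.subgroupOf S)
    ⟨(subgroupOfEquivOfLe D.Q_le).trans e⟩
  obtain ⟨s, hsN, hsQ⟩ : ∃ s ∈ normalizer ((Q.subgroupOf (S : Subgroup G) : Subgroup (S : Subgroup G)) : Set (S : Subgroup G)),
      s ∉ Q.subgroupOf (S : Subgroup G) := by
    by_contra hno
    push Not at hno
    rw [relIndex_eq_one.2 hno] at hQi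
    omega
  have hsN' : (s : G) ∈ normalizer (Q : Set G) := by
    rw [mem_normalizer_iff] at hsN ⊢
    intro x
    constructor
    · intro hx; exact (hsN ⟨x, D.Q_le hx⟩).1 hx
    · intro hx
      have hxS : x ∈ (S : Subgroup G) := by
        have h1 := mul_mem (mul_mem (inv_mem s.2) (D.Q_le hx)) s.2
        simpa [mul_assoc] using h1
      exact (hsN ⟨x, hxS⟩).2 hx
  have hKle : Q ⊔ centralizer (Q : Set G) ≤ normalizer ((zpowers D.w : Subgroup G) : Set G) := by
    refine sup_le (D.Q_le.trans D.S_le_normalizer) fun c hc => ?_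
    refine centralizer_le_normalizer _ (mem_centralizer_iff.2 ?_)
    rintro _ ⟨k, rfl⟩
    exact mem_centralizer_iff.1 hc _ (zpow_mem D.w_mem k)
  have hsC : (s : G) ∉ Q ⊔ centralizer (Q : Set G) := by
    intro hc
    have hsup : (s : G) ∈ ((Q ⊔ centralizer (Q : Set G) : Subgroup G) : Set G) := hc
    rw [coe_mul_of_right_le_normalizer_left Q (centralizer (Q : Set G)) (centralizer_le_normalizer _)] at hsup
    obtain ⟨x, hx, c, hc', he⟩ := hsup
    have hcS : c ∈ (S : Subgroup G) := by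
      rw [show c = x⁻¹ * (s : G) by rw [← he]; group]
      exact mul_mem (inv_mem (D.Q_le hx)) s.2
    have hc'' : (⟨c, hcS⟩ : (S : Subgroup G)) ∈ centralizer ((Q.subgroupOf S : Subgroup (S : Subgroup G)) : Set (S : Subgroup G)) :=
      mem_centralizer_iff.2 fun y hy => Subtype.ext (mem_centralizer_iff.1 hc' (y : G) hy)
    rw [hQc] at hc''
    have hcQ : (⟨c, hcS⟩ : (S : Subgroup G)) ∈ Q.subgroupOf S := map_subtype_le _ hc''
    exact hsQ (show (s : G) ∈ Q from he ▸ mul_mem hx hcQ)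
  rcases mem_or_mul_mem h₂ hsN' hsC hn with hk | hk
  · exact hKle hk
  · have := mul_mem (hKle hk) (inv_mem (D.S_le_normalizer s.2))
    rwa [mul_inv_cancel_right] at this

theorem not_isConj_w_q (hS : Cfsg.IsQuasiDihedral (S : Subgroup G))
    (h₂ : (Q ⊔ centralizer (Q : Set G)).relIndex (normalizer (Q : Set G)) = 2) : ¬ IsConj D.w D.q := by
  intro hc
  obtain ⟨g, hg⟩ := isConj_iff.1 hc.symm
  obtain ⟨e⟩ := D.quat
  set X := Q.map (MulAut.conj g).toMonoidHom with hX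
  have hqn : Q ≤ normalizer ((zpowers D.q : Subgroup G) : Set G) := by
    refine D.Q_eq.le.trans ((closure_le _).2 ?_)
    obtain ⟨hwq, -, hqq, -⟩ := D.wqw
    have hw : D.w * D.q * D.w⁻¹ = D.q ^ (-1 : ℤ) := by
      rw [hwq, zpow_neg_one, eq_inv_iff_mul_eq_one, mul_assoc, hqq, ← pow_two, ← D.z_ord, pow_orderOf_eq_one]
    rintro x (rfl | rfl)
    · refine mem_normalizer_iff_map_conj_eq.2 ?_
      rw [MonoidHom.map_zpowers]
      show zpowers (D.w * D.q * D.w⁻¹) = _
      rw [hw,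
        zpow_neg_one, zpowers_inv]
    · exact le_normalizer (mem_zpowers _)
  have hXN : X ≤ normalizer ((zpowers D.w : Subgroup G) : Set G) := by
    rintro _ ⟨x, hx, rfl⟩
    refine mem_normalizer_iff_map_conj_eq.2 ?_
    rw [← hg, MonoidHom.map_zpowers]
    show zpowers (g * x * g⁻¹ * (g * D.q * g⁻¹) * (g * x * g⁻¹)⁻¹) = zpowers (g * D.q * g⁻¹)
    have h1 : zpowers (x * D.q * x⁻¹) = zpowers D.q := by
      have := mem_normalizer_iff_map_conj_eq.1 (hqn hx)
      rwa [MonoidHom.map_zpowers] at this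
    have h2 := congrArg (Subgroup.map (MulAut.conj g).toMonoidHom) h1
    rw [MonoidHom.map_zpowers, MonoidHom.map_zpowers] at h2
    rw [show g * x * g⁻¹ * (g * D.q * g⁻¹) * (g * x * g⁻¹)⁻¹ = g * (x * D.q * x⁻¹) * g⁻¹ by group]
    exact h2
  have hQp : IsPGroup 2 Q := IsPGroup.of_card (n := 3)
    (by rw [Nat.card_congr e.toEquiv, Nat.card_eq_fintype_card, QuaternionGroup.card]; norm_num)
  obtain ⟨c, hcC, hcX⟩ := exists_sylow_conj S D.S_le_normalizer (hQp.map _) hXN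
  set Y := Q.map (MulAut.conj (c * g)).toMonoidHom with hY
  have hYS : Y ≤ S := by
    rintro _ ⟨x, hx, rfl⟩
    have := hcX _ ⟨x, hx, rfl⟩
    show c * g * x * (c * g)⁻¹ ∈ (S : Subgroup G)
    rwa [show c * g * x * (c * g)⁻¹ = c * (g * x * g⁻¹) * c⁻¹ by group]
  obtain ⟨s, hs⟩ := (Cfsg.Agent.S1191.result hS).1 _ _
    ⟨((subgroupOfEquivOfLe hYS).trans (Q.equivMapOfInjective _ (MulAut.conj (c * g)).injective).symm).trans e⟩
    ⟨(subgroupOfEquivOfLe D.Q_le).trans e⟩
  have hn : (s : G) * c * g ∈ normalizer (Q : Set G) := by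
    refine mem_normalizer_iff_map_conj_eq.2 (eq_of_le_of_card_ge ?_
      (card_map_of_injective (MulEquiv.injective _)).ge)
    rintro _ ⟨x, hx, rfl⟩
    have h1 : (⟨_, hYS ⟨x, hx, rfl⟩⟩ : (S : Subgroup G)) ∈ Y.subgroupOf S := ⟨x, hx, rfl⟩
    have h2 : s * ⟨_, hYS ⟨x, hx, rfl⟩⟩ * s⁻¹ ∈ Q.subgroupOf S := by rw [← hs]; exact ⟨_, h1, rfl⟩
    have h3 : (s : G) * (c * g * x * (c * g)⁻¹) * (s : G)⁻¹ ∈ Q := h2
    show (s : G) * c * g * x * ((s : G) * c * g)⁻¹ ∈ Q
    rwa [show (s : G) * c * g * x * ((s : G) * c * g)⁻¹ = (s : G) * (c * g * x * (c * g)⁻¹) * (s : G)⁻¹ by group]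
  have h1 := mul_mem (mul_mem (inv_mem hcC) (inv_mem (D.S_le_normalizer s.2))) (D.fix_W_of_two hS h₂ hn)
  rw [show c⁻¹ * (s : G)⁻¹ * ((s : G) * c * g) = g by group] at h1
  have h2 := (mem_normalizer_iff.1 h1 D.q).2 (by rw [hg]; exact mem_zpowers _)
  exact D.q_notMem_W h2

theorem exists_index_two_t (hS : Cfsg.IsQuasiDihedral (S : Subgroup G))
    (h₁ : (centralizer (T : Set G)).relIndex (normalizer (T : Set G)) = 2) :
    ∃ M : Subgroup G, M.Normal ∧ M.index = 2 ∧ D.t ∉ M := by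
  have hK : ((Cfsg.Lib.QD.half D.gen 1).map (S : Subgroup G).subtype).relIndex (S : Subgroup G) = 2 := by
    rw [relIndex, subgroupOf, comap_map_eq_self_of_injective (S : Subgroup G).subtype_injective, half_index]
  obtain ⟨M, h1, h2, h3, -⟩ := exists_index_two_of_transfer S _ (map_subtype_le _) hK D.t
    (D.T_le D.t_mem) (by rintro ⟨x, hx, e⟩; exact b_notMem_half_one D.gen D.i (Subtype.ext e ▸ hx))
    (fun k a ha => by
      rcases Nat.even_or_odd k with ⟨r, rfl⟩ | ⟨r, rfl⟩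
      · rw [← two_mul, pow_mul, show D.t ^ 2 = 1 by rw [← D.t_ord, pow_orderOf_eq_one], one_pow, mul_one,
          mul_inv_cancel]
      · rw [pow_succ, pow_mul, show D.t ^ 2 = 1 by rw [← D.t_ord, pow_orderOf_eq_one], one_pow, one_mul] at ha ⊢
        refine iff_of_false ?_ ?_
        · rintro ⟨x, hx, e⟩
          have ho : orderOf x = 2 := by
            rw [← Subgroup.orderOf_coe, show (x : G) = a * D.t * a⁻¹ from e,
              show a * D.t * a⁻¹ = MulAut.conj a D.t from rfl, MulEquiv.orderOf_eq, D.t_ord]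
          rcases Cfsg.Lib.QD.order_two_cases D.gen ho with rfl | ⟨r, rfl⟩
          · exact D.not_isConj_t_z hS h₁ (isConj_iff.2 ⟨a, e.symm⟩)
          · exact b_notMem_half_one D.gen r hx
        · rintro ⟨x, hx, e⟩
          exact b_notMem_half_one D.gen D.i (Subtype.ext e ▸ hx))
  exact ⟨M, h1, h2, h3⟩

theorem exists_index_two_q (hS : Cfsg.IsQuasiDihedral (S : Subgroup G))
    (h₂ : (Q ⊔ centralizer (Q : Set G)).relIndex (normalizer (Q : Set G)) = 2) :
    ∃ M : Subgroup G, M.Normal ∧ M.index = 2 ∧ D.q ∉ M := by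
  have hK : ((Cfsg.Lib.QD.half D.gen 0).map (S : Subgroup G).subtype).relIndex (S : Subgroup G) = 2 := by
    rw [relIndex, subgroupOf, comap_map_eq_self_of_injective (S : Subgroup G).subtype_injective, half_index]
  have hout : ∀ r : ℤ, ((D.a ^ (2 * r + 1) * D.b : (S : Subgroup G)) : G) ∉
      (Cfsg.Lib.QD.half D.gen 0).map (S : Subgroup G).subtype := by
    rintro r ⟨x, hx, e⟩
    exact c_notMem_half_zero D.gen r (Subtype.ext e ▸ hx)
  obtain ⟨M, h1, h2, h3, -⟩ := exists_index_two_of_transfer S _ (map_subtype_le _) hK D.q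
    (D.Q_le D.q_mem) (hout D.j)
    (fun k a ha => by
      have hk4 : D.q ^ k = D.q ^ (k % 4) := by rw [← D.q_ord, pow_mod_orderOf]
      rw [hk4] at ha ⊢
      have hodd : ∀ v : G, (v = D.q ∨ v = D.z * D.q) → a * v * a⁻¹ ∈ (S : Subgroup G) →
          (a * v * a⁻¹ ∈ (Cfsg.Lib.QD.half D.gen 0).map (S : Subgroup G).subtype ↔
            v ∈ (Cfsg.Lib.QD.half D.gen 0).map (S : Subgroup G).subtype) := by
        intro v hv hvS
        have hvq : IsConj v D.q := by
          rcases hv with rfl | rfl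
          · exact IsConj.refl _
          · rw [← D.wqw.1]
            exact (isConj_iff.2 ⟨D.w, rfl⟩ : IsConj D.q _).symm
        have hvK : v ∉ (Cfsg.Lib.QD.half D.gen 0).map (S : Subgroup G).subtype := by
          rcases hv with rfl | rfl
          · exact hout _
          · intro hm
            refine hout D.j ?_
            have hzK : D.z ∈ (Cfsg.Lib.QD.half D.gen 0).map (S : Subgroup G).subtype :=
              mem_map_of_mem _ (z_mem_half D.gen 0)
            exact (mul_mem_cancel_left hzK).1 hm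
        refine iff_of_false ?_ hvK
        rintro ⟨x, hx, e⟩
        have hc : IsConj (x : G) D.q := by
          rw [show (x : G) = a * v * a⁻¹ from e]
          exact ((isConj_iff.2 ⟨a, rfl⟩ : IsConj v (a * v * a⁻¹)).symm).trans hvq
        have ho : orderOf x = 4 := by
          obtain ⟨g, hg⟩ := isConj_iff.1 hc
          rw [← Subgroup.orderOf_coe, ← D.q_ord, ← hg, show g * (x : G) * g⁻¹ = MulAut.conj g (x : G) from rfl,
            MulEquiv.orderOf_eq]
        rcases four_cases D.gen ho with h | ⟨r, rfl⟩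
        · exact D.not_isConj_w_q hS h₂ ((MonoidHom.map_isConj (S : Subgroup G).subtype h).symm.trans hc)
        · exact c_notMem_half_zero D.gen r hx
      rcases (show k % 4 = 0 ∨ k % 4 = 1 ∨ k % 4 = 2 ∨ k % 4 = 3 by omega) with hk | hk | hk | hk <;>
        rw [hk] at ha ⊢
      · rw [pow_zero, mul_one, mul_inv_cancel]
      · rw [pow_one] at ha ⊢
        exact hodd _ (Or.inl rfl) ha
      · rw [pow_two, D.wqw.2.2.1] at ha ⊢
        refine iff_of_true ?_ (mem_map_of_mem _ (z_mem_half D.gen 0))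
        have ho : orderOf (⟨_, ha⟩ : (S : Subgroup G)) = 2 := by
          rw [Subgroup.orderOf_mk, show a * D.z * a⁻¹ = MulAut.conj a D.z from rfl, MulEquiv.orderOf_eq, D.z_ord]
        rcases Cfsg.Lib.QD.order_two_cases D.gen ho with e | ⟨r, e⟩
        · exact ⟨⟨_, ha⟩, e ▸ z_mem_half D.gen 0, rfl⟩
        · exact ⟨⟨_, ha⟩, Or.inr ⟨r, by rw [add_zero]; exact e⟩, rfl⟩
      · rw [pow_succ, pow_two, D.wqw.2.2.1] at ha ⊢
        exact hodd _ (Or.inr rfl) ha)
  exact ⟨M, h1, h2, h3⟩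

/-- The intersection of the residual with `S`, as a subgroup of `S`. -/
abbrev R (S : Sylow 2 G) : Subgroup (S : Subgroup G) := (Cfsg.pResidual 2 G).subgroupOf (S : Subgroup G)

theorem half_zero_le (h₁ : (centralizer (T : Set G)).relIndex (normalizer (T : Set G)) = 6) :
    Cfsg.Lib.QD.half D.gen 0 ≤ R S := by
  haveI : ((centralizer (T : Set G)).subgroupOf (normalizer (T : Set G))).Normal := by
    rw [← normalizerMonoidHom_ker]; infer_instance
  obtain ⟨θ, hθN, hθodd, hθC⟩ := exists_odd_of_relIndex_six (centralizer_le_normalizer _) h₁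
  have hzz : D.z * D.z = 1 := by rw [← pow_two, ← D.z_ord, pow_orderOf_eq_one]
  have hθz : θ * D.z * θ⁻¹ ≠ D.z := by
    intro hfix
    set N' := normalizer (T : Set G) ⊓ centralizer ({D.z} : Set G) with hN'
    have hle := D.stab_T_relIndex_le (N' := N') inf_le_left fun n hn => by
      rw [mem_centralizer_singleton_iff.1 hn.2, mul_inv_cancel_right]
    have hθ' : θ ∈ N' := ⟨hθN, mem_centralizer_singleton_iff.2 (mul_inv_eq_iff_eq_mul.1 hfix)⟩
    have h2 : θ * θ ∈ centralizer (T : Set G) := by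
      rcases Nat.lt_or_eq_of_le hle with h | h
      · have h1 : (centralizer (T : Set G)).relIndex N' = 1 := by
          have : (centralizer (T : Set G)).relIndex N' ≠ 0 := Subgroup.index_ne_zero_of_finite
          omega
        exact absurd (relIndex_eq_one.1 h1 hθ') hθC
      · exact (mul_mem_iff_of_index_two (H := (centralizer (T : Set G)).subgroupOf N') h
          (a := ⟨θ, hθ'⟩) (b := ⟨θ, hθ'⟩)).2 Iff.rfl
    obtain ⟨r, hr⟩ := hθodd
    apply hθC
    have h3 : θ = (θ * θ) ^ (r + 1) := by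
      rw [← pow_two, ← pow_mul, show 2 * (r + 1) = orderOf θ + 1 by omega, pow_succ, pow_orderOf_eq_one,
        one_mul]
    rw [h3]
    exact pow_mem h2 _
  have hmem := comm_mem_pResidual hθodd D.z
  rw [inv_eq_of_mul_eq_one_right hzz] at hmem
  have hin : θ * D.z * θ⁻¹ ∈ T := (mem_normalizer_iff.1 hθN D.z).1 D.z_mem
  have hcases : θ * D.z * θ⁻¹ * D.z = D.t ∨ θ * D.z * θ⁻¹ * D.z = D.z * D.t := by
    rcases D.T_cases hin with e | e | e | e
    · exfalso; have := D.z_ord; rw [conj_eq_one_iff.1 e, orderOf_one] at this; omega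
    · exact absurd e hθz
    · exact Or.inr (by rw [e, D.commute_T D.t_in D.z_in])
    · refine Or.inl ?_
      rw [e, mul_assoc, D.commute_T D.t_in D.z_in, ← mul_assoc, hzz, one_mul]
  rcases hcases with e | e <;> rw [e] at hmem
  · exact half_le D.gen (R S) 0 D.i (by rw [add_zero]; exact hmem)
  · refine half_le D.gen (R S) 0 ((2 : ℤ) ^ (D.m - 2) + D.i) ?_
    show ((D.a ^ (2 * ((2 : ℤ) ^ (D.m - 2) + D.i) + 0) * D.b : (S : Subgroup G)) : G) ∈ Cfsg.pResidual 2 G
    have e' : D.z * D.t = ((D.a ^ (2 * ((2 : ℤ) ^ (D.m - 2) + D.i) + 0) * D.b : (S : Subgroup G)) : G) := by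
      rw [z, t, ← Subgroup.coe_mul, ← mul_assoc, ← zpow_add]
      congr 3
      rw [(Cfsg.Lib.QD.pows D.gen).2.1]; ring
    rw [← e']
    exact hmem

theorem half_one_le (h₂ : (Q ⊔ centralizer (Q : Set G)).relIndex (normalizer (Q : Set G)) = 6) :
    Cfsg.Lib.QD.half D.gen 1 ≤ R S := by
  have hKN : Q ⊔ centralizer (Q : Set G) ≤ normalizer (Q : Set G) :=
    sup_le le_normalizer (centralizer_le_normalizer _)
  haveI : ((Q ⊔ centralizer (Q : Set G)).subgroupOf (normalizer (Q : Set G))).Normal := by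
    rw [subgroupOf_sup le_normalizer (centralizer_le_normalizer _)]
    haveI : (Q.subgroupOf (normalizer (Q : Set G))).Normal := normal_in_normalizer
    haveI : ((centralizer (Q : Set G)).subgroupOf (normalizer (Q : Set G))).Normal := by
      rw [← normalizerMonoidHom_ker]; infer_instance
    infer_instance
  obtain ⟨θ, hθN, hθodd, hθK⟩ := exists_odd_of_relIndex_six hKN h₂
  have hθw : θ * D.w * θ⁻¹ ∉ zpowers D.w := by
    intro hfix
    set N' := normalizer (Q : Set G) ⊓ normalizer ((zpowers D.w : Subgroup G) : Set G) with hN'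
    have hle := D.stab_Q_relIndex_le (N' := N') inf_le_left fun n hn =>
      (mem_normalizer_iff.1 hn.2 D.w).1 (mem_zpowers _)
    have hθW : θ ∈ normalizer ((zpowers D.w : Subgroup G) : Set G) := by
      refine mem_normalizer_iff_map_conj_eq.2 (eq_of_le_of_card_ge ?_
        (card_map_of_injective (MulEquiv.injective _)).ge)
      rw [MonoidHom.map_zpowers, zpowers_le]
      exact hfix
    have hθ' : θ ∈ N' := ⟨hθN, hθW⟩
    have h2 : θ * θ ∈ Q ⊔ centralizer (Q : Set G) := by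
      rcases Nat.lt_or_eq_of_le hle with h | h
      · have h1 : (Q ⊔ centralizer (Q : Set G)).relIndex N' = 1 := by
          have : (Q ⊔ centralizer (Q : Set G)).relIndex N' ≠ 0 := Subgroup.index_ne_zero_of_finite
          omega
        exact absurd (relIndex_eq_one.1 h1 hθ') hθK
      · exact (mul_mem_iff_of_index_two (H := (Q ⊔ centralizer (Q : Set G)).subgroupOf N') h
          (a := ⟨θ, hθ'⟩) (b := ⟨θ, hθ'⟩)).2 Iff.rfl
    obtain ⟨r, hr⟩ := hθodd
    apply hθK
    have h3 : θ = (θ * θ) ^ (r + 1) := by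
      rw [← pow_two, ← pow_mul, show 2 * (r + 1) = orderOf θ + 1 by omega, pow_succ, pow_orderOf_eq_one,
        one_mul]
    rw [h3]
    exact pow_mem h2 _
  have hmem := comm_mem_pResidual hθodd D.w
  have hvQ : θ * D.w * θ⁻¹ * D.w⁻¹ ∈ Q :=
    mul_mem ((mem_normalizer_iff.1 hθN D.w).1 D.w_mem) (inv_mem D.w_mem)
  obtain ⟨k, hk⟩ := D.Q_four hvQ fun h => hθw ((mul_mem_cancel_right (inv_mem (mem_zpowers D.w))).1 h)
  refine half_le D.gen (R S) 1 k ?_
  show ((D.a ^ (2 * k + 1) * D.b : (S : Subgroup G)) : G) ∈ Cfsg.pResidual 2 G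
  rw [← hk]
  exact hmem

theorem eq_half {N : Subgroup (S : Subgroup G)} {e : ℤ} (hle : Cfsg.Lib.QD.half D.gen e ≤ N)
    {v : (S : Subgroup G)} (hv : v ∉ N) : N = Cfsg.Lib.QD.half D.gen e := by
  have h1 := relIndex_mul_index hle
  rw [half_index D.gen e] at h1
  have h2 : N.index ≠ 1 := fun h => hv (by rw [index_eq_one.1 h]; exact mem_top v)
  have h3 : N.index = 2 := ((Nat.dvd_prime Nat.prime_two).1 ⟨_, ((mul_comm _ _).trans h1).symm⟩).resolve_left h2
  rw [h3] at h1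
  refine le_antisymm (relIndex_eq_one.1 ?_) hle
  omega

theorem weaklyClosed (hS : Cfsg.IsQuasiDihedral (S : Subgroup G))
    (h₁ : (centralizer (T : Set G)).relIndex (normalizer (T : Set G)) = 2) :
    Cfsg.IsWeaklyClosed ((center (S : Subgroup G)).map (S : Subgroup G).subtype) (S : Subgroup G) := by
  refine ⟨map_subtype_le _, fun g hg => ?_⟩
  have hgz : g * D.z * g⁻¹ ∈ (S : Subgroup G) := hg ⟨D.z, ⟨_, z_central D.gen, rfl⟩, rfl⟩
  have ho : orderOf (⟨_, hgz⟩ : (S : Subgroup G)) = 2 := by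
    rw [Subgroup.orderOf_mk, show g * D.z * g⁻¹ = MulAut.conj g D.z from rfl, MulEquiv.orderOf_eq, D.z_ord]
  have hfix : g * D.z * g⁻¹ = D.z := by
    rcases Cfsg.Lib.QD.order_two_cases D.gen ho with e | ⟨r, e⟩
    · exact congrArg Subtype.val e
    · exfalso
      refine D.not_isConj_t_z hS h₁ ?_
      have h := MonoidHom.map_isConj (S : Subgroup G).subtype (b_conj D.gen D.i r)
      rw [← e] at h
      exact h.trans (isConj_iff.2 ⟨g⁻¹, by
        show g⁻¹ * (g * D.z * g⁻¹) * g⁻¹⁻¹ = D.z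
        group⟩)
  ext x
  constructor
  · rintro ⟨_, ⟨c, hc, rfl⟩, rfl⟩
    show g * (c : G) * g⁻¹ ∈ _
    rcases center_eq D.gen hc with rfl | rfl
    · rw [Subgroup.coe_one, mul_one, mul_inv_cancel]; exact one_mem _
    · exact ⟨_, z_central D.gen, hfix.symm⟩
  · rintro ⟨c, hc, rfl⟩
    rcases center_eq D.gen hc with rfl | rfl
    · exact one_mem _
    · exact ⟨D.z, ⟨_, z_central D.gen, rfl⟩, hfix⟩

end Data

end Cfsg.Lib.QDFusion
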