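import Cfsg.Agent.TwoFusion.AutomizerIndex
import Cfsg.Agent.TwoFusion.DihedralSubgroups
import Cfsg.Agent.PGroups.HomocyclicRankTwo
import Cfsg.Agent.SolvStruct.PGroupBasics
import Cfsg.Agent.Wreathed.Facts

/-!
The automisers of the abelian subgroup of index two and of `Q Z(S)` in a wreathed Sylow 2-subgroup.
-/

set_option autoImplicit false

namespace Cfsg.Lib.WreathedAut

open Subgroup Cfsg.Lib.Wreathed

theorem centralizer_le_center_wr {n : ℕ} (hn : 2 ≤ n) (Q : Subgroup (Wr n))
    (hQ : ¬ ∀ a ∈ Q, ∀ b ∈ Q, a * b = b * a) :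
    centralizer (Q : Set (Wr n)) ≤ center (Wr n) := by
  intro c hc
  have hc' : ∀ q ∈ Q, Commute q c := fun q hq => mem_centralizer_iff.1 hc q hq
  obtain ⟨q, hq, hqe⟩ : ∃ q ∈ Q, q.e = true := by
    by_contra h
    push Not at h
    refine hQ fun a ha b hb => ?_
    have ha' : a ∈ base n := by simpa [base] using h a ha
    have hb' : b ∈ base n := by simpa [base] using h b hb
    exact congrArg Subtype.val (base_comm ⟨a, ha'⟩ ⟨b, hb'⟩)
  obtain ⟨w, hw, hwe, hwc⟩ : ∃ w ∈ Q, w.e = false ∧ w ∉ center (Wr n) := by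
    by_contra h
    push Not at h
    have hrep : ∀ a ∈ Q, ∃ z ∈ center (Wr n), a = z ∨ a = q * z := fun a ha => by
      rcases hae : a.e with _ | _
      · exact ⟨a, h a ha hae, Or.inl rfl⟩
      · exact ⟨q⁻¹ * a, h _ (Q.mul_mem (Q.inv_mem hq) ha) (by simp [hqe, hae]),
          Or.inr (mul_inv_cancel_left q a).symm⟩
    refine hQ fun a ha b hb => ?_
    obtain ⟨z, hz, ha'⟩ := hrep a ha
    obtain ⟨z', hz', hb'⟩ := hrep b hb
    have hzc : ∀ x, Commute z x := fun x => (mem_center_iff.1 hz x).symm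
    have hzc' : ∀ x, Commute z' x := fun x => (mem_center_iff.1 hz' x).symm
    have : Commute a b := by
      rcases ha' with ha' | ha' <;> rcases hb' with hb' | hb' <;> rw [ha', hb']
      · exact hzc _
      · exact hzc _
      · exact (hzc' _).symm
      · exact (Commute.mul_left ((Commute.refl q).mul_right (hzc' q).symm) (hzc _))
    exact this.eq
  rcases hce : c.e with _ | _
  · exact center_of_commute_outer hn hce hqe (hc' q hq).symm
  · exact absurd (center_of_commute_outer hn hwe hce (hc' w hw)) hwc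

theorem centralizer_le_center {S : Type*} [Group S] [Finite S] (hS : Cfsg.IsWreathed S)
    (Q : Subgroup S) (hQ : ¬ ∀ a ∈ Q, ∀ b ∈ Q, a * b = b * a) :
    centralizer (Q : Set S) ≤ center S := by
  obtain ⟨n, hn, -, ⟨e⟩⟩ := Cfsg.Lib.Wreathed.exists_equiv hS
  intro c hc
  have h := centralizer_le_center_wr hn (Q.comap e.toMonoidHom) (fun h => hQ fun a ha b hb => by
    obtain ⟨a', rfl⟩ := e.surjective a
    obtain ⟨b', rfl⟩ := e.surjective b
    rw [← map_mul, h a' ha b' hb, map_mul])
  obtain ⟨c', rfl⟩ := e.surjective c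
  have hc' : c' ∈ center (Wr n) := h (mem_centralizer_iff.2 fun q hq => e.injective (by
    rw [map_mul, map_mul]; exact mem_centralizer_iff.1 hc (e q) hq))
  rw [mem_center_iff]
  intro g
  obtain ⟨g', rfl⟩ := e.surjective g
  rw [← map_mul, ← map_mul, mem_center_iff.1 hc' g']

/-- A subgroup with an abelian normal structure of index two in a Sylow 2-subgroup. -/
theorem relIndex_base {G : Type*} [Group G] [Finite G] (S : Sylow 2 G) (n : ℕ)
    (U : Subgroup G) (hUS : U ≤ (S : Subgroup G)) (hrel : U.relIndex (S : Subgroup G) = 2)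
    (hC : (S : Subgroup G) ⊓ centralizer (U : Set G) ≤ U) (hUc : U ≤ centralizer (U : Set G))
    (e : U ≃* Multiplicative (ZMod (2 ^ n) × ZMod (2 ^ n))) (hn : 1 ≤ n) :
    (centralizer (U : Set G)).relIndex (normalizer (U : Set G)) = 2 ∨
      (centralizer (U : Set G)).relIndex (normalizer (U : Set G)) = 6 := by
  haveI : Fact (Nat.Prime 2) := ⟨Nat.prime_two⟩
  set C := centralizer (U : Set G)
  set N := normalizer (U : Set G)
  have hCN : C ≤ N := centralizer_le_normalizer _
  have hSN : (S : Subgroup G) ≤ N := by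
    intro s hs
    haveI : (U.subgroupOf (S : Subgroup G)).Normal := normal_of_index_eq_two hrel
    rw [mem_normalizer_iff]
    intro u
    constructor
    · intro hu
      exact (inferInstance : (U.subgroupOf (S : Subgroup G)).Normal).conj_mem ⟨u, hUS hu⟩ hu ⟨s, hs⟩
    · intro hu
      have := (inferInstance : (U.subgroupOf (S : Subgroup G)).Normal).conj_mem ⟨_, hUS hu⟩ hu
        ⟨s⁻¹, inv_mem hs⟩
      simpa [mem_subgroupOf, mul_assoc] using this
  set r := C.relIndex N
  have hodd : ¬ 2 ∣ (S : Subgroup G).relIndex N := fun h =>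
    S.not_dvd_index (h.trans (relIndex_dvd_index_of_le hSN))
  have hUN : U.relIndex N = 2 * (S : Subgroup G).relIndex N := by
    rw [← relIndex_mul_relIndex U _ N hUS hSN, hrel]
  have hfac : U.relIndex C * r = 2 * (S : Subgroup G).relIndex N := by
    rw [relIndex_mul_relIndex U C N hUc hCN, hUN]
  have h4 : ¬ 4 ∣ r := by
    intro h
    obtain ⟨t, ht⟩ : 4 ∣ 2 * (S : Subgroup G).relIndex N := hfac ▸ h.mul_left _
    exact hodd ⟨t, by omega⟩
  have h2 : 2 ∣ r := by
    obtain ⟨s, hs, hsU⟩ : ∃ s ∈ (S : Subgroup G), s ∉ U := by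
      by_contra h
      push Not at h
      rw [relIndex_eq_one.2 h] at hrel
      omega
    have hsC : s ∉ C := fun h => hsU (hC ⟨hs, h⟩)
    haveI : (C.subgroupOf N).Normal := by rw [← normalizerMonoidHom_ker]; infer_instance
    set u : N ⧸ C.subgroupOf N := ((⟨s, hSN hs⟩ : N) : N ⧸ C.subgroupOf N)
    obtain ⟨k, hk⟩ := S.2 ⟨s, hs⟩
    have hu : u ^ 2 ^ k = 1 := by
      rw [← QuotientGroup.mk_pow, QuotientGroup.eq_one_iff]
      show s ^ 2 ^ k ∈ C
      rw [show s ^ 2 ^ k = 1 from congrArg Subtype.val hk]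
      exact one_mem C
    have hu1 : u ≠ 1 := fun h => hsC ((QuotientGroup.eq_one_iff (⟨s, hSN hs⟩ : N)).mp h)
    obtain ⟨j, -, hj⟩ := (Nat.dvd_prime_pow Nat.prime_two).mp (orderOf_dvd_of_pow_eq_one hu)
    rcases j with _ | j
    · exact absurd (orderOf_eq_one_iff.mp (hj.trans (pow_zero 2))) hu1
    · have := (hj ▸ dvd_pow_self 2 (Nat.succ_ne_zero j)).trans (orderOf_dvd_natCard u)
      rwa [← index_eq_card] at this
  -- the automorphism group has order `2^k * 3^l`
  have hp : IsPGroup 2 U := S.2.to_le hUS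
  obtain ⟨c, hc⟩ := IsPGroup.iff_card.1 hp
  obtain ⟨j, -, hj⟩ := (Nat.dvd_prime_pow Nat.prime_two).mp (hc ▸ (frattini U).index_dvd_card)
  have hj2 : j ≤ 2 := by
    letI : CommGroup U := { (inferInstance : Group U) with
      mul_comm := fun a b => Subtype.ext (mem_centralizer_iff.1 (hUc b.2) a a.2) }
    have h1 := Cfsg.Lib.PGroups.card_torsion (p := 2) hp
    rw [hj] at h1
    have h2 : Nat.card (powMonoidHom 2 : U →* U).ker ≤ 2 * 2 := by
      classical
      let sol := {a : ZMod (2 ^ n) // a + a = 0}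
      have hsol : Nat.card sol ≤ 2 := by
        refine (Nat.card_le_card_of_surjective
          (fun b : Bool => if b then (⟨half n, half_add_half hn⟩ : sol) else ⟨0, add_zero 0⟩)
          fun a => ?_).trans_eq (by simp)
        rcases eq_zero_or_half hn a.2 with h | h
        · exact ⟨false, Subtype.ext h.symm⟩
        · exact ⟨true, Subtype.ext h.symm⟩
      refine (Nat.card_le_card_of_injective (β := sol × sol) (fun w =>
        (⟨(Multiplicative.toAdd (e w.1)).1, ?_⟩, ⟨(Multiplicative.toAdd (e w.1)).2, ?_⟩)) ?_).trans ?_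
      · have := congrArg (fun z => (Multiplicative.toAdd (e z)).1) (show w.1 ^ 2 = 1 from w.2)
        simpa [pow_two] using this
      · have := congrArg (fun z => (Multiplicative.toAdd (e z)).2) (show w.1 ^ 2 = 1 from w.2)
        simpa [pow_two] using this
      · intro w w' h
        refine Subtype.ext (e.injective (Multiplicative.toAdd.injective (Prod.ext ?_ ?_)))
        · exact congrArg (fun z => z.1.1) h
        · exact congrArg (fun z => z.2.1) h
      · rw [Nat.card_prod]; exact Nat.mul_le_mul hsol hsol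
    rw [h1] at h2
    exact (Nat.pow_le_pow_iff_right one_lt_two).1 (h2.trans_eq (by norm_num))
  have hdvd := (Cfsg.Lib.Automizer.relIndex_centralizer_dvd_mulAut U).trans
    (Cfsg.Lib.PGroups.card_aut_dvd hc hj)
  obtain ⟨m, hm⟩ := h2
  have hm2 : Nat.Coprime m 2 := Nat.coprime_two_right.2 (Nat.odd_iff.2 (by omega))
  have hm3 : m ∣ 3 := by
    have h6 : m ∣ 2 ^ (j * (c - j)) * (2 * 3) := by
      refine ((show m ∣ r from ⟨2, by rw [hm, mul_comm]⟩).trans hdvd).trans (mul_dvd_mul_left _ ?_)
      interval_cases j <;> norm_num [Finset.prod_range_succ]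
    rw [← mul_assoc, ← pow_succ] at h6
    exact (hm2.pow_right _).dvd_of_dvd_mul_left h6
  rcases (Nat.dvd_prime Nat.prime_three).1 hm3 with h | h <;> rw [h] at hm <;> omega

/-- The automiser of `V = Q Z(S)`, given in terms of a pair of generators modulo the centre. -/
theorem relIndex_dvd_six {G : Type*} [Group G] [Finite G] (V Z : Subgroup G) (x y : G)
    (hx : x ∈ V) (hy : y ∈ V) (hZV : Z ≤ V) (hZ : V ⊓ centralizer (V : Set G) = Z)
    (hcyc : IsCyclic Z) (hgen : closure ({x, y} : Set G) ⊔ Z = V)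
    (hsq : ∀ v ∈ V, v * v ∈ Z) (hcard : Nat.card V = 4 * Nat.card Z)
    (hxy : x * y ≠ y * x)
    (hfix : ∀ g ∈ normalizer (V : Set G), ∀ z ∈ Z, g * z = z * g) :
    (V ⊔ centralizer (V : Set G)).relIndex (normalizer (V : Set G)) ∣ 6 := by
  classical
  haveI : Fact (Nat.Prime 2) := ⟨Nat.prime_two⟩
  set N := normalizer (V : Set G)
  set Z' := Z.subgroupOf V
  have hcen : ∀ z ∈ Z, ∀ v ∈ V, v * z = z * v := fun z hz v hv => by
    rw [← hZ] at hz
    exact mem_centralizer_iff.1 hz.2 v hv
  haveI hn : Z'.Normal := ⟨fun z hz v => by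
    rw [mem_subgroupOf] at hz ⊢
    have := hcen _ hz v v.2
    simp only [Subgroup.coe_mul, Subgroup.coe_inv]
    rwa [this, mul_inv_cancel_right]⟩
  have hinv : ∀ g : N, ∀ v : V, v ∈ Z' → V.normalizerMonoidHom g v ∈ Z' := fun g v hv => by
    show (g : G) * v * (g : G)⁻¹ ∈ Z
    rw [hfix g g.2 v hv, mul_inv_cancel_right]
    exact hv
  have hmap : ∀ g : N, Z'.map ((V.normalizerMonoidHom g : V ≃* V) : V →* V) = Z' := fun g => by
    refine Subgroup.eq_of_le_of_card_ge ?_ (le_of_eq
      (Nat.card_congr (Z'.equivMapOfInjective _ (V.normalizerMonoidHom g).injective).toEquiv))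
    rintro _ ⟨q, hq, rfl⟩
    exact hinv g q hq
  let ψ : N →* MulAut (V ⧸ Z') := MonoidHom.mk'
    (fun g => QuotientGroup.congr _ _ (V.normalizerMonoidHom g) (hmap g)) fun g h => by
      refine MulEquiv.ext fun v => ?_
      obtain ⟨v, rfl⟩ := QuotientGroup.mk_surjective v
      show ((V.normalizerMonoidHom (g * h) v : V) : V ⧸ Z') = _
      rw [map_mul]
      rfl
  have hW : Nat.card (V ⧸ Z') = 2 ^ 2 := by
    have h1 := Z'.card_mul_index
    rw [Nat.card_congr (subgroupOfEquivOfLe hZV).toEquiv, hcard, Subgroup.index_eq_card, mul_comm 4] at h1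
    rw [Nat.eq_of_mul_eq_mul_left Nat.card_pos h1]
    norm_num
  have hWsq : ∀ w : V ⧸ Z', w ^ 2 = 1 := fun w => by
    obtain ⟨v, rfl⟩ := QuotientGroup.mk_surjective w
    rw [← QuotientGroup.mk_pow, QuotientGroup.eq_one_iff, pow_two]
    exact hsq v v.2
  have hWc : ∀ a b : V ⧸ Z', a * b = b * a := fun a b =>
    by
      have hi : ∀ w : V ⧸ Z', w⁻¹ = w := fun w =>
        inv_eq_of_mul_eq_one_right (by rw [← pow_two, hWsq])
      rw [← hi (a * b), mul_inv_rev, hi, hi]
  have hf : (frattini (V ⧸ Z')).index = 2 ^ 2 := by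
    rw [Cfsg.Lib.SolvStruct.frattini_eq_bot_of_elementary (p := 2) hWsq hWc, index_bot, hW]
  have haut : Nat.card (MulAut (V ⧸ Z')) ∣ 6 := by
    simpa [Finset.prod_range_succ] using Cfsg.Lib.PGroups.card_aut_dvd (p := 2) hW hf
  haveI : Finite (MulAut (V ⧸ Z')) :=
    Finite.of_injective (fun f : MulAut (V ⧸ Z') => (f : V ⧸ Z' → V ⧸ Z')) DFunLike.coe_injective
  have hker : ψ.ker ≤ (V ⊔ centralizer (V : Set G)).subgroupOf N := by
    intro g hg
    have hc : ∀ v : G, v ∈ V → (g : G) * v * (g : G)⁻¹ * v⁻¹ ∈ Z := by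
      intro v hv
      have h := DFunLike.congr_fun (show ψ g = 1 from hg) ((⟨v, hv⟩ : V) : V ⧸ Z')
      have h' : ((V.normalizerMonoidHom g ⟨v, hv⟩ : V) : V ⧸ Z') = ((⟨v, hv⟩ : V) : V ⧸ Z') := h
      rw [← mul_inv_eq_one, ← QuotientGroup.mk_inv, ← QuotientGroup.mk_mul,
        QuotientGroup.eq_one_iff] at h'
      exact h'
    -- the deviations are involutions of the centre
    have hc2 : ∀ v : G, v ∈ V → ((g : G) * v * (g : G)⁻¹ * v⁻¹) ^ 2 = 1 := by
      intro v hv
      set c := (g : G) * v * (g : G)⁻¹ * v⁻¹ with hcdef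
      have hvc : v * c = c * v := hcen c (hc v hv) v hv
      have h1 : (c * v) * (c * v) = v * v := by
        rw [show c * v = (g : G) * v * (g : G)⁻¹ by rw [hcdef]; group,
          show (g : G) * v * (g : G)⁻¹ * ((g : G) * v * (g : G)⁻¹) = (g : G) * (v * v) * (g : G)⁻¹ by group,
          hfix g g.2 _ (hsq v hv), mul_inv_cancel_right]
      rw [show c * v * (c * v) = (c * c) * (v * v) by
        rw [mul_assoc c v, ← mul_assoc v c, hvc]; group] at h1
      rw [pow_two]
      exact mul_eq_right.1 h1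
    have hxy' : ∀ v : G, v ∈ V → ∀ w : G, w ∈ V → v * w * v⁻¹ * w⁻¹ ∈ Z := fun v hv w hw => by
      set v' : V := ⟨v, hv⟩
      set w' : V := ⟨w, hw⟩
      have h : ((v' * w' * v'⁻¹ * w'⁻¹ : V) : V ⧸ Z') = 1 := by
        simp only [QuotientGroup.mk_mul, QuotientGroup.mk_inv]
        rw [hWc (v' : V ⧸ Z') (w' : V ⧸ Z'), mul_inv_cancel_right, mul_inv_cancel]
      exact (QuotientGroup.eq_one_iff (v' * w' * v'⁻¹ * w'⁻¹)).1 h
    set t := x * y * x⁻¹ * y⁻¹ with htdef
    have htZ : t ∈ Z := hxy' x hx y hy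
    have ht1 : t ≠ 1 := fun h => hxy (by
      rw [htdef, mul_inv_eq_one, mul_inv_eq_iff_eq_mul] at h; exact h)
    have ht2 : t ^ 2 = 1 := by
      have hyt : y * t = t * y := hcen t htZ y hy
      have h1 : (t * y) * (t * y) = y * y := by
        rw [show t * y = x * y * x⁻¹ by rw [htdef]; group,
          show x * y * x⁻¹ * (x * y * x⁻¹) = x * (y * y) * x⁻¹ by group,
          hcen _ (hsq y hy) x hx, mul_inv_cancel_right]
      rw [show t * y * (t * y) = (t * t) * (y * y) by
        rw [mul_assoc t y, ← mul_assoc y t, hyt]; group] at h1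
      rw [pow_two]
      exact mul_eq_right.1 h1
    have htwo : ∀ c ∈ Z, c ^ 2 = 1 → c = 1 ∨ c = t := by
      intro c hcZ hc
      by_contra hno
      push Not at hno
      haveI := hcyc
      haveI := Fintype.ofFinite Z
      have hle := IsCyclic.card_pow_eq_one_le (α := Z) (n := 2) two_pos
      have hsub : ({1, ⟨t, htZ⟩, ⟨c, hcZ⟩} : Finset Z) ⊆
          Finset.univ.filter (fun a : Z => a ^ 2 = 1) := by
        intro a ha
        simp only [Finset.mem_insert, Finset.mem_singleton] at ha
        simp only [Finset.mem_filter, Finset.mem_univ, true_and]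
        rcases ha with rfl | rfl | rfl
        · exact one_pow 2
        · exact Subtype.ext ht2
        · exact Subtype.ext hc
      have h3 : ({1, ⟨t, htZ⟩, ⟨c, hcZ⟩} : Finset Z).card = 3 := by
        rw [Finset.card_insert_of_notMem, Finset.card_pair]
        · exact fun h => hno.2 (congrArg Subtype.val h).symm
        · simp only [Finset.mem_insert, Finset.mem_singleton, not_or]
          exact ⟨fun h => ht1 (congrArg Subtype.val h).symm, fun h => hno.1 (congrArg Subtype.val h).symm⟩
      have := (Finset.card_le_card hsub).trans hle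
      omega
    obtain ⟨v0, hv0, hv0x, hv0y⟩ : ∃ v0 ∈ V, v0 * x * v0⁻¹ = (g : G) * x * (g : G)⁻¹ ∧
        v0 * y * v0⁻¹ = (g : G) * y * (g : G)⁻¹ := by
      have hgx : (g : G) * x * (g : G)⁻¹ = ((g : G) * x * (g : G)⁻¹ * x⁻¹) * x := by group
      have hgy : (g : G) * y * (g : G)⁻¹ = ((g : G) * y * (g : G)⁻¹ * y⁻¹) * y := by group
      have hyx : y * x * y⁻¹ * x⁻¹ = t := by
        have h := mul_eq_one_iff_eq_inv.1 ((pow_two t).symm.trans ht2)
        calc y * x * y⁻¹ * x⁻¹ = t⁻¹ := by rw [htdef]; group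
          _ = t := h.symm
      have htx : y * x * y⁻¹ = t * x := by rw [← hyx]; group
      have hty : x * y * x⁻¹ = t * y := by rw [htdef]; group
      rcases htwo _ (hc x hx) (hc2 x hx) with h1 | h1 <;>
        rcases htwo _ (hc y hy) (hc2 y hy) with h2 | h2 <;>
        rw [hgx, hgy, h1, h2]
      · exact ⟨1, V.one_mem, by simp, by simp⟩
      · exact ⟨x, hx, by simp, hty⟩
      · exact ⟨y, hy, htx, by simp⟩
      · refine ⟨x * y, V.mul_mem hx hy, ?_, ?_⟩
        · calc x * y * x * (x * y)⁻¹ = x * (y * x * y⁻¹) * x⁻¹ := by group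
            _ = x * t * x * x⁻¹ := by rw [htx]; group
            _ = t * x := by rw [hcen t htZ x hx, mul_inv_cancel_right]
        · calc x * y * y * (x * y)⁻¹ = x * y * x⁻¹ := by group
            _ = _ := hty
    have hcV : v0⁻¹ * (g : G) ∈ centralizer (V : Set G) := by
      rw [mem_centralizer_iff]
      have hle : closure ({x, y} : Set G) ⊔ Z ≤ centralizer ({v0⁻¹ * (g : G)} : Set G) := by
        refine sup_le ((closure_le _).2 ?_) fun z hz => ?_
        · intro w hw
          rw [SetLike.mem_coe, mem_centralizer_singleton_iff]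
          have hw' : v0 * w * v0⁻¹ = (g : G) * w * (g : G)⁻¹ := by
            rcases hw with rfl | rfl
            · exact hv0x
            · exact hv0y
          calc w * (v0⁻¹ * (g : G)) = v0⁻¹ * (v0 * w * v0⁻¹) * (g : G) := by group
            _ = v0⁻¹ * ((g : G) * w * (g : G)⁻¹) * (g : G) := by rw [hw']
            _ = v0⁻¹ * (g : G) * w := by group
        · rw [mem_centralizer_singleton_iff, ← mul_assoc, ← hcen z hz v0⁻¹ (V.inv_mem hv0),
            mul_assoc, ← hfix g g.2 z hz, mul_assoc]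
      intro v hv
      exact mem_centralizer_singleton_iff.1 (hle (hgen.ge hv))
    have := Subgroup.mul_mem_sup hv0 hcV
    rwa [mul_inv_cancel_left] at this
  have h1 : ψ.ker.index ∣ 6 := by
    rw [Subgroup.index_ker]
    exact (card_subgroup_dvd_card _).trans haut
  exact (Subgroup.index_dvd_of_le hker).trans h1

end Cfsg.Lib.WreathedAut
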