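/-
The subgroup `V` and a few actions on the model of the wreathed group.
-/
import Cfsg.Agent.Wreathed.IsolatedCenter
import Cfsg.Agent.TwoFusion.WreathedAutomizer

set_option autoImplicit false
set_option linter.unusedSectionVars false

namespace Cfsg.Lib.WreathedFusion

open Subgroup Cfsg.Lib.Wreathed

variable {n : ℕ}

/-- a noncentral involution of the base -/
def u0 (n : ℕ) : Wr n := ⟨half n, 0, false⟩

/-- an involution outside the base -/
def t0 (n : ℕ) : Wr n := ⟨0, 0, true⟩

/-- its conjugate -/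
def u1 (n : ℕ) : Wr n := ⟨0, half n, false⟩

/-- the elements with `2 (a - b) = 0` -/
def quadV (n : ℕ) : Subgroup (Wr n) where
  carrier := {p | (p.a - p.b) + (p.a - p.b) = 0}
  one_mem' := by simp
  mul_mem' := fun {p q} hp hq => by
    simp only [Set.mem_ofPred_eq] at hp hq ⊢
    rcases p with ⟨a, b, _ | _⟩ <;> simp at hp ⊢
    · linear_combination hp + hq
    · linear_combination hp - hq
  inv_mem' := fun {p} hp => by
    simp only [Set.mem_ofPred_eq] at hp ⊢
    rcases p with ⟨a, b, _ | _⟩ <;> simp at hp ⊢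
    · linear_combination -hp
    · linear_combination hp

theorem mem_quadV {p : Wr n} : p ∈ quadV n ↔ (p.a - p.b) + (p.a - p.b) = 0 := Iff.rfl

/-- `quadV ⊓ base` -/
def quadW (n : ℕ) : Subgroup (Wr n) := quadV n ⊓ base n

theorem mem_base {p : Wr n} : p ∈ base n ↔ p.e = false := Iff.rfl

theorem base_commute {p q : Wr n} (hp : p.e = false) (hq : q.e = false) : Commute p q :=
  congrArg (fun w : base n => (w : Wr n)) (base_comm ⟨p, hp⟩ ⟨q, hq⟩)

theorem center_commute {c : Wr n} (hc : c ∈ center (Wr n)) (p : Wr n) : Commute c p :=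
  (mem_center_iff.1 hc p).symm

theorem t0_conj (p : Wr n) : t0 n * p * (t0 n)⁻¹ = ⟨p.b, p.a, p.e⟩ := by
  rw [conj_formula]; cases hp : p.e <;> simp [t0]

theorem center_le_quadV (hn : 2 ≤ n) : center (Wr n) ≤ quadV n := by
  intro p hp
  rw [mem_quadV, ((mem_center_iff' hn p).1 hp).2]; simp

theorem center_le_base (hn : 2 ≤ n) : center (Wr n) ≤ base n := fun p hp => ((mem_center_iff' hn p).1 hp).1

theorem center_le_quadW (hn : 2 ≤ n) : center (Wr n) ≤ quadW n :=
  le_inf (center_le_quadV hn) (center_le_base hn)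

theorem u0_mem_quadW (hn : 2 ≤ n) : u0 n ∈ quadW n :=
  ⟨by simp [mem_quadV, u0, half_add_half (show 1 ≤ n by omega)], rfl⟩

theorem t0_mem_quadV : t0 n ∈ quadV n := by simp [mem_quadV, t0]

theorem zed_mem_center (hn : 2 ≤ n) : zed n ∈ center (Wr n) := (mem_center_iff' hn _).2 ⟨rfl, rfl⟩

theorem u0_notMem_center (hn : 2 ≤ n) : u0 n ∉ center (Wr n) := fun h =>
  half_ne_zero (show 1 ≤ n by omega) ((mem_center_iff' hn _).1 h).2

theorem u1_eq : u1 n = t0 n * u0 n * (t0 n)⁻¹ := by rw [t0_conj]; rfl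

theorem u1_eq_mul (hn : 2 ≤ n) : u1 n = u0 n * zed n := by
  ext <;> simp [u0, u1, zed, half_add_half (show 1 ≤ n by omega)]

theorem u0_ne_zed (hn : 2 ≤ n) : u0 n ≠ zed n := fun h => u0_notMem_center hn (h ▸ zed_mem_center hn)

theorem u1_ne_zed (hn : 2 ≤ n) : u1 n ≠ zed n := fun h =>
  half_ne_zero (show 1 ≤ n by omega) (congrArg Wr.a h).symm

theorem orderOf_zed (hn : 2 ≤ n) : orderOf (zed n) = 2 := by
  have h1 : 1 ≤ n := by omega
  rw [order_two_iff, mul_self_iff]
  exact ⟨Or.inl ⟨rfl, half_add_half h1, half_add_half h1⟩, fun h => half_ne_zero h1 (congrArg Wr.a h)⟩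

theorem orderOf_u0 (hn : 2 ≤ n) : orderOf (u0 n) = 2 := by
  have h1 : 1 ≤ n := by omega
  rw [order_two_iff, mul_self_iff]
  exact ⟨Or.inl ⟨rfl, half_add_half h1, add_zero 0⟩, fun h => half_ne_zero h1 (congrArg Wr.a h)⟩

theorem orderOf_t0 : orderOf (t0 n) = 2 := by
  rw [order_two_iff, mul_self_iff]
  exact ⟨Or.inr ⟨rfl, add_zero 0⟩, fun h => Bool.noConfusion (congrArg Wr.e h)⟩

theorem base_involutions (hn : 2 ≤ n) {p : Wr n} (hp : p.e = false) (h : p * p = 1) :
    p = 1 ∨ p = zed n ∨ p = u0 n ∨ p = u1 n := by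
  rcases (mul_self_iff p).1 h with ⟨-, ha, hb⟩ | ⟨he, -⟩
  · rcases eq_zero_or_half (by omega) ha with ha | ha <;> rcases eq_zero_or_half (by omega) hb with hb | hb
    · exact Or.inl (Wr.ext ha hb hp)
    · exact Or.inr (Or.inr (Or.inr (Wr.ext ha hb hp)))
    · exact Or.inr (Or.inr (Or.inl (Wr.ext ha hb hp)))
    · exact Or.inr (Or.inl (Wr.ext ha hb hp))
  · rw [hp] at he; exact absurd he (by decide)

theorem involution_cases (hn : 2 ≤ n) {p : Wr n} (h : orderOf p = 2) :
    p = zed n ∨ IsConj p (u0 n) ∨ IsConj p (t0 n) := by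
  obtain ⟨hsq, hne⟩ := (order_two_iff p).1 h
  cases hpe : p.e
  · rcases base_involutions hn hpe hsq with h1 | h1 | h1 | h1
    · exact absurd h1 hne
    · exact Or.inl h1
    · subst h1; exact Or.inr (Or.inl (IsConj.refl _))
    · subst h1; exact Or.inr (Or.inl (isConj_iff.2 ⟨t0 n, u1_eq.symm⟩).symm)
  · exact Or.inr (Or.inr (isConj_iff.2 (conj_outer_involution hpe hsq)).symm)

theorem center_split (hn : 2 ≤ n) {p : Wr n} (hp : p ∈ quadV n) :
    ∃ c ∈ center (Wr n), p = c ∨ p = c * u0 n ∨ p = c * t0 n ∨ p = c * u0 n * t0 n := by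
  refine ⟨⟨p.b, p.b, false⟩, (mem_center_iff' hn _).2 ⟨rfl, rfl⟩, ?_⟩
  rcases p with ⟨a, b, e⟩
  rcases eq_zero_or_half (show 1 ≤ n by omega) (mem_quadV.1 hp) with h | h <;>
    simp only at h <;> cases e
  · left; ext <;> simp [sub_eq_zero.1 h]
  · right; right; left; ext <;> simp [t0, sub_eq_zero.1 h]
  · right; left; ext <;> simp [u0, eq_add_of_sub_eq h, add_comm]
  · right; right; right; ext <;> simp [u0, t0, eq_add_of_sub_eq h, add_comm]

theorem quadV_le {H : Subgroup (Wr n)} (hn : 2 ≤ n) (hc : center (Wr n) ≤ H) (hu : u0 n ∈ H)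
    (ht : t0 n ∈ H) : quadV n ≤ H := by
  intro p hp
  obtain ⟨c, hc', rfl | rfl | rfl | rfl⟩ := center_split hn hp
  · exact hc hc'
  · exact mul_mem (hc hc') hu
  · exact mul_mem (hc hc') ht
  · exact mul_mem (mul_mem (hc hc') hu) ht

theorem card_quadV (hn : 2 ≤ n) : Nat.card (quadV n) = 4 * 2 ^ n := by
  have h1 : 1 ≤ n := by omega
  have e : quadV n ≃ ZMod (2 ^ n) × Bool × Bool :=
    { toFun := fun p => ((p : Wr n).b, decide ((p : Wr n).a - (p : Wr n).b = half n), (p : Wr n).e)
      invFun := fun t => ⟨⟨(if t.2.1 then half n else 0) + t.1, t.1, t.2.2⟩, by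
        rw [mem_quadV, add_sub_cancel_right]
        cases t.2.1 <;> simp [half_add_half h1]⟩
      left_inv := fun ⟨⟨a, b, e⟩, hp⟩ => Subtype.ext (by
        rcases eq_zero_or_half h1 (mem_quadV.1 hp) with h | h
        · have : a = b := sub_eq_zero.1 h
          subst this
          simp [(half_ne_zero h1).symm]
        · simp only at h
          simp [h, ← eq_add_of_sub_eq h])
      right_inv := fun ⟨a, s, t⟩ => by cases s <;> simp [(half_ne_zero h1).symm] }
  rw [Nat.card_congr e, Nat.card_prod, Nat.card_prod, Nat.card_zmod, Nat.card_eq_fintype_card,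
    Fintype.card_bool]
  ring

theorem centralizer_quadV (hn : 2 ≤ n) : centralizer (quadV n : Set (Wr n)) ≤ center (Wr n) :=
  Cfsg.Lib.WreathedAut.centralizer_le_center_wr hn _ fun h => by
    have h1 := congrArg Wr.a (h _ (u0_mem_quadW hn).1 _ t0_mem_quadV)
    simp [u0, t0] at h1
    exact half_ne_zero (show 1 ≤ n by omega) h1

/-- the conjugate of a nonabelian quaternion subgroup times the centre -/
theorem exists_conj_quadV (hn : 2 ≤ n) (Q : Subgroup (Wr n)) (eQ : Q ≃* QuaternionGroup 2) :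
    ∃ g : Wr n, (Q ⊔ center (Wr n)).map (MulAut.conj g).toMonoidHom = quadV n := by
  have h1 : 1 ≤ n := by omega
  have hQ : ¬ ∀ a ∈ Q, ∀ b ∈ Q, a * b = b * a := fun h => by
    have h2 : ¬ ∀ a b : QuaternionGroup 2, a * b = b * a := by decide
    refine h2 fun a b => eQ.symm.injective ?_
    rw [map_mul, map_mul]
    exact Subtype.ext (h _ (eQ.symm a).2 _ (eQ.symm b).2)
  have hCQ := Cfsg.Lib.WreathedAut.centralizer_le_center_wr hn Q hQ
  -- no subgroup of the base is nonabelian
  obtain ⟨q, hq, hqe⟩ : ∃ q ∈ Q, q.e = true := by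
    by_contra h
    push Not at h
    exact hQ fun a ha b hb => base_commute (by simpa using h a ha) (by simpa using h b hb)
  have h4 : ∀ p ∈ Q, p * p * (p * p) = 1 := fun p hp => by
    have h : ∀ a : QuaternionGroup 2, a * a * (a * a) = 1 := by decide
    have := congrArg eQ.symm (h (eQ ⟨p, hp⟩))
    simp only [map_mul, MulEquiv.symm_apply_apply, map_one] at this
    exact congrArg Subtype.val this
  have hout : ∀ p ∈ Q, p.e = true → p.a + p.b = half n := by
    intro p hp hpe
    have hpp : p * p = ⟨p.a + p.b, p.a + p.b, false⟩ := by ext <;> simp [hpe, add_comm p.b p.a]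
    have h := congrArg Wr.a (h4 p hp)
    rw [hpp] at h
    simp at h
    refine (eq_zero_or_half h1 h).resolve_left fun h0 => ?_
    -- an involution of `Q` is central in it
    have h2 : ∀ a : QuaternionGroup 2, a * a = 1 → ∀ b, a * b = b * a := by decide
    have hsq : eQ ⟨p, hp⟩ * eQ ⟨p, hp⟩ = 1 := by
      rw [← map_mul, MulEquiv.map_eq_one_iff]
      exact Subtype.ext (by rw [Subgroup.coe_mul, hpp, h0]; rfl)
    have hc : p ∈ center (Wr n) := hCQ <| mem_centralizer_iff.2 fun b hb => by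
      have := congrArg eQ.symm (h2 _ hsq (eQ ⟨b, hb⟩))
      simp only [map_mul, MulEquiv.symm_apply_apply] at this
      exact (congrArg Subtype.val this).symm
    rw [((mem_center_iff' hn p).1 hc).1] at hpe
    exact absurd hpe (by decide)
  have hin : ∀ p ∈ Q, p.e = false → p.a + p.b = 0 ∧ (p.a + p.a) + (p.a + p.a) = 0 := by
    intro p hp hpe
    refine ⟨?_, ?_⟩
    · have h := hout _ (mul_mem hp hq) (by simp [hpe, hqe])
      simp [hpe] at h
      linear_combination h - hout q hq hqe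
    · have h := congrArg Wr.a (h4 p hp)
      simpa [hpe] using h
  obtain ⟨x, hx, hxe, hxc⟩ : ∃ x ∈ Q, x.e = false ∧ x ∉ center (Wr n) := by
    by_contra h
    push Not at h
    have hc : q ∈ center (Wr n) := hCQ <| mem_centralizer_iff.2 fun b hb => by
      cases hbe : b.e
      · exact mem_center_iff.1 (h b hb hbe) q |>.symm
      · have hm := h _ (mul_mem (inv_mem hq) hb) (by simp [hqe, hbe])
        have := mem_center_iff.1 hm q
        rw [mul_inv_cancel_left] at this
        calc b * q = q * (q⁻¹ * b * q) := by group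
          _ = q * b := by rw [← this]
    rw [((mem_center_iff' hn q).1 hc).1] at hqe
    exact absurd hqe (by decide)
  obtain ⟨hxab, hx4⟩ := hin x hx hxe
  have hxh : x.a + x.a = half n := (eq_zero_or_half h1 hx4).resolve_left fun h0 =>
    hxc ((mem_center_iff' hn x).2 ⟨hxe, by linear_combination h0 - hxab⟩)
  -- move `q` to `c * t0`
  set c := x.a with hc
  set g : Wr n := ⟨0, q.a - c, false⟩ with hg
  have hgq : g * q * g⁻¹ = ⟨c, c, false⟩ * t0 n := by
    rw [conj_formula]
    have hb : q.b = half n - q.a := eq_sub_of_add_eq' (hout q hq hqe)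
    ext
    · simp [hg, hqe, t0]
    · simp [hg, hqe, hb, t0]; linear_combination -hxh
    · simp [hqe, t0]
  have hcc : (⟨c, c, false⟩ : Wr n) ∈ center (Wr n) := (mem_center_iff' hn _).2 ⟨rfl, rfl⟩
  have hgx : ∀ p ∈ Q, p.e = false → g * p * g⁻¹ = p := fun p _ hpe => by
    rw [(base_commute (p := g) rfl hpe).eq, mul_inv_cancel_right]
  refine ⟨g, le_antisymm ?_ ?_⟩
  · rw [map_le_iff_le_comap, sup_le_iff]
    constructor
    · intro p hp
      show g * p * g⁻¹ ∈ quadV n
      cases hpe : p.e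
      · rw [hgx p hp hpe, mem_quadV]
        obtain ⟨hab, ha⟩ := hin p hp hpe
        linear_combination ha - 2 * hab
      · have hm : (q⁻¹ * p).e = false := by simp [hqe, hpe]
        have h' := hin _ (mul_mem (inv_mem hq) hp) hm
        have hqm : g * (q⁻¹ * p) * g⁻¹ ∈ quadV n := by
          rw [hgx _ (mul_mem (inv_mem hq) hp) hm, mem_quadV]
          linear_combination h'.2 - 2 * h'.1
        rw [show g * p * g⁻¹ = (g * q * g⁻¹) * (g * (q⁻¹ * p) * g⁻¹) by group, hgq]
        exact mul_mem (mul_mem (center_le_quadV hn hcc) t0_mem_quadV) hqm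
    · intro p hp
      show g * p * g⁻¹ ∈ quadV n
      rw [← (center_commute hp g).eq, mul_inv_cancel_right]
      exact center_le_quadV hn hp
  · refine quadV_le hn ?_ ?_ ?_
    · exact fun p hp => ⟨p, mem_sup_right hp, by
        show g * p * g⁻¹ = p
        rw [← (center_commute hp g).eq, mul_inv_cancel_right]⟩
    · refine ⟨x * ⟨c, c, false⟩, mul_mem_sup hx hcc, ?_⟩
      show g * (x * ⟨c, c, false⟩) * g⁻¹ = u0 n
      rw [(base_commute (p := g) rfl (show (x * (⟨c, c, false⟩ : Wr n)).e = false by simp [hxe])).eq,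
        mul_inv_cancel_right]
      ext
      · simpa [u0, hxe, hc] using hxh
      · simp [u0, hxe, hc]; linear_combination hxab
      · simp [u0, hxe]
    · refine ⟨q * ⟨c, c, false⟩⁻¹, mul_mem_sup hq (inv_mem hcc), ?_⟩
      show g * (q * ⟨c, c, false⟩⁻¹) * g⁻¹ = t0 n
      rw [← mul_assoc, mul_assoc (g * q), (center_commute (inv_mem hcc) g⁻¹).eq, ← mul_assoc, hgq,
        (center_commute hcc (t0 n)).eq, mul_inv_cancel_right]

theorem quadV_nonabelian (hn : 2 ≤ n) : u0 n * t0 n ≠ t0 n * u0 n := fun h =>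
  half_ne_zero (show 1 ≤ n by omega) (by simpa [u0, t0] using congrArg Wr.a h)

section Odd

variable {G : Type*} [Group G]

/-- An element of odd order moving `x` by a fixed 2-element fixes `x`. -/
theorem odd_shift {θ x c : G} (hθ : Odd (orderOf θ)) (hx : θ * x * θ⁻¹ = x * c) (hc : θ * c * θ⁻¹ = c)
    {k : ℕ} (hck : c ^ 2 ^ k = 1) : c = 1 := by
  have h : ∀ i : ℕ, θ ^ i * x * (θ ^ i)⁻¹ = x * c ^ i := by
    intro i
    induction i with
    | zero => simp
    | succ i ih =>
      calc θ ^ (i + 1) * x * (θ ^ (i + 1))⁻¹ = θ * (θ ^ i * x * (θ ^ i)⁻¹) * θ⁻¹ := by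
            rw [pow_succ']; group
        _ = (θ * x * θ⁻¹) * (θ * c * θ⁻¹) ^ i := by rw [ih, conj_pow]; group
        _ = x * c ^ (i + 1) := by rw [hx, hc, pow_succ', mul_assoc]
  have h1 := h (orderOf θ)
  rw [pow_orderOf_eq_one, one_mul, inv_one, mul_one, left_eq_mul] at h1
  exact orderOf_eq_one_iff.1 (Nat.eq_one_of_dvd_coprimes ((Nat.coprime_two_left.2 hθ).pow_left k)
    (orderOf_dvd_of_pow_eq_one hck) (orderOf_dvd_of_pow_eq_one h1))

/-- An element of odd order whose square fixes `x` fixes `x`. -/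
theorem odd_square {θ x : G} (hθ : Odd (orderOf θ)) (hx : θ * (θ * x * θ⁻¹) * θ⁻¹ = x) :
    θ * x * θ⁻¹ = x := by
  obtain ⟨j, hj⟩ := hθ
  have h : ∀ i : ℕ, θ ^ (2 * i) * x * (θ ^ (2 * i))⁻¹ = x := by
    intro i
    induction i with
    | zero => simp
    | succ i ih =>
      calc θ ^ (2 * (i + 1)) * x * (θ ^ (2 * (i + 1)))⁻¹
          = θ * (θ * (θ ^ (2 * i) * x * (θ ^ (2 * i))⁻¹) * θ⁻¹) * θ⁻¹ := by
            rw [show 2 * (i + 1) = 2 * i + 1 + 1 by ring, pow_succ', pow_succ']; group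
        _ = x := by rw [ih, hx]
  have h1 := h (j + 1)
  rwa [show 2 * (j + 1) = 2 * j + 1 + 1 by ring, ← hj, pow_succ, pow_orderOf_eq_one, one_mul] at h1

/-- An element of odd order fixing the involutions of an invariant abelian 2-subgroup centralises it. -/
theorem odd_fix_all {θ : G} (hθ : Odd (orderOf θ)) (U : Subgroup G)
    (hab : ∀ a ∈ U, ∀ b ∈ U, a * b = b * a) (h2 : IsPGroup 2 U) (hinv : ∀ a ∈ U, θ * a * θ⁻¹ ∈ U)
    (hfix : ∀ a ∈ U, a * a = 1 → θ * a * θ⁻¹ = a) : ∀ a ∈ U, θ * a * θ⁻¹ = a := by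
  have hrec : ∀ j : ℕ, ∀ a ∈ U, a ^ 2 ^ j = 1 → θ * a * θ⁻¹ = a := by
    intro j
    induction j with
    | zero => intro a _ h; rw [pow_zero, pow_one] at h; rw [h]; group
    | succ j ih =>
      intro a ha h
      have hsq := ih (a * a) (mul_mem ha ha) (by rw [← pow_two, ← pow_mul, ← pow_succ']; exact h)
      set c := a⁻¹ * (θ * a * θ⁻¹) with hc
      have hcU : c ∈ U := mul_mem (inv_mem ha) (hinv a ha)
      have hac : θ * a * θ⁻¹ = a * c := by rw [hc, mul_inv_cancel_left]
      have hcc : c * c = 1 := by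
        have h1 : (a * c) * (a * c) = a * a := by rw [← hac, ← hsq]; group
        rw [mul_assoc a c, ← mul_assoc c a, hab c hcU a ha, mul_assoc a c c, ← mul_assoc, mul_eq_left] at h1
        exact h1
      have h1 : c = 1 := odd_shift hθ hac (hfix c hcU hcc) (k := 1) (by rw [pow_one, pow_two, hcc])
      rw [hac, h1, mul_one]
  intro a ha
  obtain ⟨j, hj⟩ := h2 ⟨a, ha⟩
  exact hrec j a ha (congrArg Subtype.val hj)

end Odd

end Cfsg.Lib.WreathedFusion
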