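/-
Fusion in a group with wreathed Sylow 2-subgroups.
-/
import Cfsg.Agent.TwoFusion.WreathedModel
import Cfsg.Agent.TwoFusion.FusionTools
import Cfsg.Agent.InvolCalc.Classes
import Cfsg.Agent.TwoFusion.AutomizerIndex

set_option autoImplicit false
set_option linter.unusedSectionVars false
set_option linter.style.haveILetI false

namespace Cfsg.Lib.WreathedFusion

open Subgroup Cfsg.Lib.Wreathed Cfsg.Lib.TwoFusion

universe u

variable {n : ℕ} {G : Type u} [Group G] [Finite G]

/-- Two 2-subgroups of `H` are simultaneously conjugate into a Sylow subgroup, moving only one of them inside `H`. -/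
theorem exists_two_conj (S : Sylow 2 G) {H A B : Subgroup G} (hA : IsPGroup 2 A) (hAH : A ≤ H)
    (hB : IsPGroup 2 B) (hBH : B ≤ H) : ∃ a : G, ∃ d ∈ H,
      (∀ x ∈ A, a * x * a⁻¹ ∈ (S : Subgroup G)) ∧ ∀ x ∈ B, (a * d) * x * (a * d)⁻¹ ∈ (S : Subgroup G) := by
  haveI : Fact (Nat.Prime 2) := ⟨Nat.prime_two⟩
  obtain ⟨D, hD⟩ := (hA.of_equiv (subgroupOfEquivOfLe hAH).symm).exists_le_sylow
  obtain ⟨E, hE⟩ := (hB.of_equiv (subgroupOfEquivOfLe hBH).symm).exists_le_sylow
  obtain ⟨d, hd⟩ := MulAction.exists_smul_eq H E D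
  obtain ⟨a, -, ha⟩ := exists_sylow_conj (H := ⊤) S le_top (D.2.map H.subtype) le_top
  refine ⟨a, d, d.2, fun x hx => ha x ⟨⟨x, hAH hx⟩, hD hx, rfl⟩, fun x hx => ?_⟩
  have h : d * ⟨x, hBH hx⟩ * d⁻¹ ∈ (D : Subgroup H) := by
    rw [← hd, Sylow.coe_subgroup_smul]
    exact ⟨⟨x, hBH hx⟩, hE hx, rfl⟩
  have h2 := ha _ ⟨_, h, rfl⟩
  rw [show a * (d : G) * x * (a * (d : G))⁻¹ = a * ((d : G) * x * (d : G)⁻¹) * a⁻¹ by group]
  exact h2

theorem centralizer_normal (A : Subgroup G) :
    ((centralizer (A : Set G)).subgroupOf (normalizer (A : Set G))).Normal := by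
  rw [← normalizerMonoidHom_ker]; infer_instance

theorem sup_centralizer_normal (A : Subgroup G) :
    ((A ⊔ centralizer (A : Set G)).subgroupOf (normalizer (A : Set G))).Normal := by
  rw [subgroupOf_sup le_normalizer (centralizer_le_normalizer _)]
  haveI := centralizer_normal A
  haveI : (A.subgroupOf (normalizer (A : Set G))).Normal := normal_in_normalizer
  infer_instance

section Ambient

variable (S : Sylow 2 G) (e : Wr n ≃* (S : Subgroup G))

/-- the abelian maximal subgroup -/
abbrev U : Subgroup G := (base n).map (emb S e)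

/-- the nonabelian subgroup `Q Z(S)` -/
abbrev V : Subgroup G := (quadV n).map (emb S e)

/-- `U ⊓ V` -/
abbrev W : Subgroup G := (quadW n).map (emb S e)

/-- the centre -/
abbrev Z : Subgroup G := (center (Wr n)).map (emb S e)

/-- the trace of the 2-residual on the model -/
def R : Subgroup (Wr n) := ((Cfsg.pResidual 2 G).subgroupOf (S : Subgroup G)).comap e.toMonoidHom

theorem mem_R {p : Wr n} : p ∈ R S e ↔ emb S e p ∈ Cfsg.pResidual 2 G := Iff.rfl

instance R_normal : (R S e).Normal := by unfold R; infer_instance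

theorem emb_map_le (K : Subgroup (Wr n)) : K.map (emb S e) ≤ (S : Subgroup G) := by
  rintro _ ⟨p, -, rfl⟩; exact emb_mem S e p

theorem isPGroup_map (K : Subgroup (Wr n)) : IsPGroup 2 (K.map (emb S e)) := S.2.to_le (emb_map_le S e K)

theorem mem_map_emb {K : Subgroup (Wr n)} {p : Wr n} : emb S e p ∈ K.map (emb S e) ↔ p ∈ K :=
  mem_map_iff_mem (emb_injective S e)

theorem emb_conj (q p : Wr n) : emb S e (q * p * q⁻¹) = emb S e q * emb S e p * (emb S e q)⁻¹ := by
  rw [map_mul, map_mul, map_inv]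

theorem orderOf_emb (p : Wr n) : orderOf (emb S e p) = orderOf p := orderOf_injective _ (emb_injective S e) p

theorem le_normalizer_of_normal (K : Subgroup (Wr n)) [hK : K.Normal] :
    (S : Subgroup G) ≤ normalizer ((K.map (emb S e) : Subgroup G) : Set G) := fun s hs => by
  obtain ⟨q, rfl⟩ := exists_emb S e hs
  refine Cfsg.Lib.ZStarApps.mem_normalizer_of_maps ?_
  rintro _ ⟨r, hr, rfl⟩
  exact ⟨q * r * q⁻¹, hK.conj_mem r hr q, emb_conj S e q r⟩

theorem base_normal : (base n).Normal :=
  ⟨fun p hp q => by show (q * p * q⁻¹).e = false; rw [conj_formula]; exact hp⟩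

theorem quadW_normal : (quadW n).Normal := ⟨fun p hp q => by
  have hpe : p.e = false := hp.2
  have hp' := mem_quadV.1 hp.1
  refine ⟨?_, base_normal.conj_mem p hp.2 q⟩
  show q * p * q⁻¹ ∈ quadV n
  rw [mem_quadV, conj_formula]
  cases hq : q.e <;> simp [hpe] <;> [linear_combination hp'; linear_combination -hp']⟩

theorem S_le_centralizer_Z {s : G} (hs : s ∈ (S : Subgroup G)) : s ∈ centralizer ((Z S e : Subgroup G) : Set G) := by
  obtain ⟨q, rfl⟩ := exists_emb S e hs
  rw [mem_centralizer_iff]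
  rintro _ ⟨c, hc, rfl⟩
  exact ((center_commute hc q).map (emb S e)).eq

theorem U_le_centralizer : U S e ≤ centralizer ((U S e : Subgroup G) : Set G) := by
  rintro _ ⟨p, hp, rfl⟩
  rw [mem_centralizer_iff]
  rintro _ ⟨q, hq, rfl⟩
  exact ((base_commute hq hp).map (emb S e)).eq

variable (hn : 2 ≤ n)
include hn

theorem emb_U_centralizer {p : Wr n} (h : emb S e p ∈ centralizer ((U S e : Subgroup G) : Set G)) :
    p.e = false := by
  by_contra hp
  exact u0_notMem_center hn (center_of_commute_outer hn (p := u0 n) rfl (by simpa using hp)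
    ((commute_emb S e).1 (mem_centralizer_iff.1 h _ ⟨u0 n, rfl, rfl⟩)))

/-- `U` is weakly closed. -/
theorem U_weak {g : G} (hg : ∀ x ∈ U S e, g * x * g⁻¹ ∈ (S : Subgroup G)) :
    g ∈ normalizer ((U S e : Subgroup G) : Set G) := by
  set A := (U S e).map (MulAut.conj g).toMonoidHom with hA
  have hAS : A ≤ (emb S e).range := by
    rintro _ ⟨x, hx, rfl⟩
    obtain ⟨p, hp⟩ := exists_emb S e (hg x hx)
    exact ⟨p, hp⟩
  have hB : A.comap (emb S e) = base n := by
    refine existsUnique_abelian hn _ ⟨⟨fun a b => Subtype.ext (emb_injective S e ?_)⟩⟩ ?_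
    · rw [Subgroup.coe_mul, Subgroup.coe_mul, map_mul, map_mul]
      obtain ⟨x, hx, hxe⟩ := a.2
      obtain ⟨y, hy, hye⟩ := b.2
      rw [← hxe, ← hye, ← map_mul, ← map_mul, mem_centralizer_iff.1 (U_le_centralizer S e hy) x hx]
    · rw [← card_map_of_injective (emb_injective S e), map_comap_eq_self hAS, hA,
        card_map_of_injective (f := (MulAut.conj g).toMonoidHom) (MulAut.conj g).injective,
        card_map_of_injective (emb_injective S e), base_card]
  have hAU : A = U S e := by rw [U, ← hB, map_comap_eq_self hAS]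
  exact Cfsg.Lib.ZStarApps.mem_normalizer_of_maps fun x hx => hAU.le ⟨x, hx, rfl⟩

theorem weaklyClosed_U : Cfsg.IsWeaklyClosed (U S e) (S : Subgroup G) := by
  refine ⟨emb_map_le S e _, fun g hg => ?_⟩
  have hN := U_weak S e hn (g := g) fun x hx => hg ⟨x, hx, rfl⟩
  exact Cfsg.Lib.Transfer.map_conj_eq_self_iff.2 hN

theorem conj_control {g : G} {p r : Wr n} (hp : p.e = false) (hr : r.e = false)
    (hg : g * emb S e p * g⁻¹ = emb S e r) :
    ∃ k ∈ normalizer ((U S e : Subgroup G) : Set G), k * emb S e p * k⁻¹ = emb S e r := by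
  haveI : Fact (Nat.Prime 2) := ⟨Nat.prime_two⟩
  obtain ⟨k, hk, hke⟩ := Cfsg.Lib.InvolCalc.weaklyClosed_control S (weaklyClosed_U S e hn)
    (U_le_centralizer S e ⟨p, hp, rfl⟩) (g := g) (by rw [hg]; exact U_le_centralizer S e ⟨r, hr, rfl⟩)
  exact ⟨k, hk, hke.trans hg⟩

theorem dichU : (centralizer ((U S e : Subgroup G) : Set G)).relIndex (normalizer (U S e : Set G)) = 2 ∨
    (centralizer ((U S e : Subgroup G) : Set G)).relIndex (normalizer (U S e : Set G)) = 6 := by
  refine Cfsg.Lib.WreathedAut.relIndex_base S n _ (emb_map_le S e _) ?_ ?_ (U_le_centralizer S e)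
    (((base n).equivMapOfInjective _ (emb_injective S e)).symm.trans (baseEquiv n)) (by omega)
  · have h := ((U S e).subgroupOf (S : Subgroup G)).card_mul_index
    rw [Nat.card_congr (subgroupOfEquivOfLe (emb_map_le S e _)).toEquiv,
      card_map_of_injective (emb_injective S e), base_card, ← Nat.card_congr e.toEquiv, Wr.card_eq,
      pow_succ] at h
    exact Nat.eq_of_mul_eq_mul_left (Nat.two_pow_pos (2 * n)) h
  · rintro s ⟨hs, hsC⟩
    obtain ⟨p, rfl⟩ := exists_emb S e hs
    exact ⟨p, emb_U_centralizer S e hn hsC, rfl⟩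

theorem six_U (h₁ : (centralizer ((U S e : Subgroup G) : Set G)).relIndex (normalizer (U S e : Set G)) = 6) :
    IsConj (emb S e (zed n)) (emb S e (u0 n)) ∧ base n ≤ R S e := by
  haveI := centralizer_normal (U S e)
  obtain ⟨θ, hθ, hodd, hθC⟩ := exists_odd_of_relIndex_six (centralizer_le_normalizer _) h₁
  have hmap : ∀ p : Wr n, p.e = false → ∃ r : Wr n, r.e = false ∧ θ * emb S e p * θ⁻¹ = emb S e r := by
    intro p hp
    obtain ⟨r, hr, he⟩ := (mem_normalizer_iff.1 hθ _).1 ⟨p, hp, rfl⟩
    exact ⟨r, hr, he.symm⟩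
  have hinv : ∀ p : Wr n, p.e = false → p * p = 1 → p ≠ 1 → θ * emb S e p * θ⁻¹ = emb S e (zed n) ∨
      θ * emb S e p * θ⁻¹ = emb S e (u0 n) ∨ θ * emb S e p * θ⁻¹ = emb S e (u1 n) := by
    intro p hp hpp hp1
    obtain ⟨r, hr, he⟩ := hmap p hp
    have hrr : r * r = 1 := emb_injective S e (by
      rw [map_mul, ← he, map_one,
        show θ * emb S e p * θ⁻¹ * (θ * emb S e p * θ⁻¹) = θ * (emb S e p * emb S e p) * θ⁻¹ by group,
        ← map_mul, hpp, map_one]
      group)
    rcases base_involutions hn hr hrr with h | h | h | h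
    · exfalso; exact hp1 (emb_injective S e (by rw [h, map_one, conj_eq_one_iff] at he; rw [he, map_one]))
    · exact Or.inl (h ▸ he)
    · exact Or.inr (Or.inl (h ▸ he))
    · exact Or.inr (Or.inr (h ▸ he))
  have hne : ∀ {p q : Wr n}, θ * emb S e p * θ⁻¹ = θ * emb S e q * θ⁻¹ → p = q := fun {p q} h =>
    emb_injective S e (mul_left_cancel (mul_right_cancel h))
  have hz := hinv (zed n) rfl ((order_two_iff _).1 (orderOf_zed hn)).1 ((order_two_iff _).1 (orderOf_zed hn)).2
  have hu := hinv (u0 n) rfl ((order_two_iff _).1 (orderOf_u0 hn)).1 ((order_two_iff _).1 (orderOf_u0 hn)).2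
  -- `θ` moves the central involution
  have hmove : θ * emb S e (zed n) * θ⁻¹ ≠ emb S e (zed n) := by
    intro hfz
    have hfu : θ * emb S e (u0 n) * θ⁻¹ = emb S e (u0 n) := by
      rcases hu with h | h | h
      · exact absurd (hne (h.trans hfz.symm)) (u0_ne_zed hn)
      · exact h
      · exfalso
        rw [u1_eq_mul hn, map_mul] at h
        have h1 := odd_shift hodd h hfz (k := 1)
          (by rw [pow_one, ← orderOf_zed hn, ← orderOf_emb S e, pow_orderOf_eq_one])
        exact ((order_two_iff _).1 (orderOf_zed hn)).2 (emb_injective S e (h1.trans (map_one _).symm))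
    refine hθC (mem_centralizer_iff.2 fun x hx => ?_)
    have := odd_fix_all hodd (U S e) (fun a ha b hb => mem_centralizer_iff.1 (U_le_centralizer S e hb) a ha)
      (isPGroup_map S e _) (fun a ha => (mem_normalizer_iff.1 hθ a).1 ha) (fun a ha haa => by
        obtain ⟨p, hp, rfl⟩ := ha
        rw [← map_mul, ← map_one (emb S e)] at haa
        rcases base_involutions hn hp (emb_injective S e haa) with rfl | rfl | rfl | rfl
        · rw [map_one]; group
        · exact hfz
        · exact hfu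
        · rw [u1_eq_mul hn, map_mul,
            show θ * (emb S e (u0 n) * emb S e (zed n)) * θ⁻¹ =
              (θ * emb S e (u0 n) * θ⁻¹) * (θ * emb S e (zed n) * θ⁻¹) by group, hfu, hfz]) x hx
    exact (mul_inv_eq_iff_eq_mul.1 this).symm
  -- no involution is fixed
  have hfree : ∀ p : Wr n, p.e = false → p * p = 1 → θ * emb S e p * θ⁻¹ = emb S e p → p = 1 := by
    intro p hp hpp hfix
    by_contra hp1
    have key : ∀ q q' : Wr n, θ * emb S e q * θ⁻¹ = emb S e q →
        (θ * emb S e (zed n) * θ⁻¹ = emb S e q' ∧ (∀ r, θ * emb S e q' * θ⁻¹ = emb S e r →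
          r = zed n ∨ r = q ∨ r = q')) → q ≠ zed n → q' ≠ zed n → q ≠ q' → False := by
      rintro q q' hq ⟨hzq, hr⟩ hqz hq'z hqq
      obtain ⟨r, hre⟩ : ∃ r, θ * emb S e q' * θ⁻¹ = emb S e r := by
        obtain ⟨a, hae, ha⟩ := hmap (zed n) rfl
        obtain ⟨r, -, hre⟩ := hmap q' (emb_injective S e (ha.symm.trans hzq) ▸ hae)
        exact ⟨r, hre⟩
      rcases hr r hre with rfl | rfl | rfl
      · exact hmove (odd_square hodd (by rw [hzq, hre]))
      · exact hqq (hne (hq.trans hre.symm))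
      · exact hq'z (hne (hre.trans hzq.symm))
    have hr : ∀ q r : Wr n, q.e = false → q * q = 1 → q ≠ 1 → θ * emb S e q * θ⁻¹ = emb S e r →
        r = zed n ∨ r = u0 n ∨ r = u1 n := fun q r h1 h2 h3 he => by
      rcases hinv q h1 h2 h3 with h | h | h <;> have := emb_injective S e (he.symm.trans h) <;> tauto
    have hu1 : u1 n * u1 n = 1 ∧ u1 n ≠ 1 := by
      rw [u1_eq]
      refine (order_two_iff _).1 ?_
      rw [← MulAut.conj_apply, MulEquiv.orderOf_eq, orderOf_u0 hn]
    rcases base_involutions hn hp hpp with rfl | rfl | rfl | rfl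
    · exact hp1 rfl
    · exact hmove hfix
    · rcases hz with h | h | h
      · exact hmove h
      · exact u0_ne_zed hn (hne (hfix.trans h.symm))
      · exact key _ _ hfix ⟨h, fun r hr' => hr _ r rfl hu1.1 hu1.2 hr'⟩ (u0_ne_zed hn) (u1_ne_zed hn)
          fun h' => (u0_notMem_center hn) ((mem_center_iff' hn _).2 ⟨rfl, by
            have := congrArg Wr.a h'; simp [u0, u1] at this; simp [u0, this]⟩)
    · rcases hz with h | h | h
      · exact hmove h
      · exact key _ _ hfix ⟨h, fun r hr' => by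
          rcases hr (u0 n) r rfl ((order_two_iff _).1 (orderOf_u0 hn)).1 ((order_two_iff _).1 (orderOf_u0 hn)).2 hr'
            with h | h | h
          · exact Or.inl h
          · exact Or.inr (Or.inr h)
          · exact Or.inr (Or.inl h)⟩ (u1_ne_zed hn) (u0_ne_zed hn)
          fun h' => (u0_notMem_center hn) ((mem_center_iff' hn _).2 ⟨rfl, by
            have := congrArg Wr.a h'; simp [u0, u1] at this; simp [u0, this]⟩)
      · exact u1_ne_zed hn (hne (hfix.trans h.symm))
  constructor
  · rcases hz with h | h | h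
    · exact absurd h hmove
    · exact isConj_iff.2 ⟨θ, h⟩
    · refine (isConj_iff.2 ⟨θ, h⟩ : IsConj _ _).trans (IsConj.symm ?_)
      rw [u1_eq]
      exact (emb S e).map_isConj (isConj_iff.2 ⟨_, rfl⟩)
  · -- `x ↦ [θ, x]` is bijective on the base
    choose f hfe hf using fun p : base n => hmap (p : Wr n) p.2
    let c : base n → base n := fun p => ⟨f p * (p : Wr n)⁻¹, mul_mem (hfe p) (inv_mem p.2)⟩
    have hc : Function.Injective c := by
      intro p q hpq
      have hd : f p * (p : Wr n)⁻¹ = f q * (q : Wr n)⁻¹ := congrArg Subtype.val hpq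
      set d := (p : Wr n) * (q : Wr n)⁻¹ with hddef
      have hdfix : θ * emb S e d * θ⁻¹ = emb S e d := by
        rw [hddef, map_mul, map_inv, show θ * (emb S e p * (emb S e q)⁻¹) * θ⁻¹ =
          θ * emb S e (p : Wr n) * θ⁻¹ * (θ * emb S e (q : Wr n) * θ⁻¹)⁻¹ by group, hf p, hf q, ← map_inv,
          ← map_inv, ← map_mul, ← map_mul]
        congr 1
        calc f p * (f q)⁻¹ = (f p * (p : Wr n)⁻¹) * ((p : Wr n) * (f q)⁻¹) := by group
          _ = (f q * (q : Wr n)⁻¹) * ((p : Wr n) * (f q)⁻¹) := by rw [hd]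
          _ = f q * ((q : Wr n)⁻¹ * (p : Wr n)) * (f q)⁻¹ := by group
          _ = (q : Wr n)⁻¹ * (p : Wr n) := by
            rw [(base_commute (p := f q) (hfe q) (q := (q : Wr n)⁻¹ * p)
              (mul_mem (inv_mem q.2) p.2 : ((q : Wr n)⁻¹ * (p : Wr n)) ∈ base n)).eq, mul_inv_cancel_right]
          _ = _ := (base_commute (inv_mem q.2 : (q : Wr n)⁻¹ ∈ base n) p.2).eq
      have hde : d.e = false := mul_mem p.2 (inv_mem q.2)
      -- a power of `d` would be a fixed involution
      by_contra hne'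
      have hd1 : d ≠ 1 := fun h => hne' (Subtype.ext (mul_inv_eq_one.1 h))
      obtain ⟨k, hk⟩ : ∃ k, orderOf d = 2 ^ k := by
        obtain ⟨k, -, hk⟩ := (Nat.dvd_prime_pow Nat.prime_two).1
          ((Wr.card_eq (n := n)) ▸ orderOf_dvd_natCard d)
        exact ⟨k, hk⟩
      obtain ⟨j, rfl⟩ : ∃ j, k = j + 1 := by
        refine Nat.exists_eq_succ_of_ne_zero fun h => hd1 (orderOf_eq_one_iff.1 ?_)
        rw [hk, h, pow_zero]
      have hw : d ^ 2 ^ j = 1 := hfree _ ((base n).pow_mem (show d ∈ base n from hde) _)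
        (by rw [← pow_add, ← two_mul, ← pow_succ', ← hk, pow_orderOf_eq_one])
        (by rw [map_pow, ← conj_pow, hdfix])
      have := Nat.le_of_dvd (Nat.two_pow_pos _) (orderOf_dvd_of_pow_eq_one hw)
      rw [hk, pow_succ] at this
      have := Nat.two_pow_pos j
      omega
    intro r hr
    obtain ⟨p, hp⟩ := (Finite.injective_iff_surjective.1 hc) ⟨r, hr⟩
    rw [mem_R, show r = f p * (p : Wr n)⁻¹ from (congrArg Subtype.val hp).symm, map_mul, map_inv, ← hf p]
    exact comm_mem_pResidual hodd _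

theorem two_of_not_conj (h : ¬ IsConj (emb S e (zed n)) (emb S e (u0 n))) :
    (centralizer ((U S e : Subgroup G) : Set G)).relIndex (normalizer (U S e : Set G)) = 2 :=
  (dichU S e hn).resolve_right fun h6 => h (six_U S e hn h6).1

theorem inner_conj (h₁ : (centralizer ((U S e : Subgroup G) : Set G)).relIndex (normalizer (U S e : Set G)) = 2)
    {g : G} {p r : Wr n} (hp : p.e = false) (hr : r.e = false) (hg : g * emb S e p * g⁻¹ = emb S e r) :
    r = p ∨ r = t0 n * p * (t0 n)⁻¹ := by
  obtain ⟨k, hk, hke⟩ := conj_control S e hn hp hr hg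
  haveI := base_normal (n := n)
  have htC : emb S e (t0 n) ∉ centralizer ((U S e : Subgroup G) : Set G) := fun h =>
    Bool.noConfusion (emb_U_centralizer S e hn h)
  have hfix : ∀ c ∈ centralizer ((U S e : Subgroup G) : Set G), ∀ q : Wr n, q.e = false →
      c * emb S e q * c⁻¹ = emb S e q := fun c hc q hq => by
    rw [← mem_centralizer_iff.1 hc _ ⟨q, hq, rfl⟩, mul_inv_cancel_right]
  rcases mem_or_mul_mem h₁ (le_normalizer_of_normal S e (base n) (emb_mem S e (t0 n))) htC hk with h | h
  · exact Or.inl (emb_injective S e (hke.symm.trans (hfix k h p hp)))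
  · refine Or.inr (emb_injective S e (hke.symm.trans ?_))
    have htt : (t0 n)⁻¹ = t0 n := by ext <;> simp [t0]
    calc k * emb S e p * k⁻¹ = (k * emb S e (t0 n)) *
          ((emb S e (t0 n))⁻¹ * emb S e p * emb S e (t0 n)) * (k * emb S e (t0 n))⁻¹ := by group
      _ = (k * emb S e (t0 n)) * emb S e (t0 n * p * (t0 n)⁻¹) * (k * emb S e (t0 n))⁻¹ := by
        rw [emb_conj, ← map_inv, htt]
      _ = emb S e (t0 n * p * (t0 n)⁻¹) := hfix _ h _ (by rw [t0_conj]; exact hp)

theorem not_conj_zu (h₁ : (centralizer ((U S e : Subgroup G) : Set G)).relIndex (normalizer (U S e : Set G)) = 2) :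
    ¬ IsConj (emb S e (zed n)) (emb S e (u0 n)) := by
  intro hc
  obtain ⟨g, hg⟩ := isConj_iff.1 hc
  rcases inner_conj S e hn h₁ rfl rfl hg with h | h
  · exact u0_ne_zed hn h
  · rw [t0_conj] at h; exact u0_ne_zed hn h

/-! ### The subgroup `V` -/

theorem Z_le_V : Z S e ≤ V S e := map_mono (center_le_quadV hn)

theorem V_inf_centralizer : V S e ⊓ centralizer ((V S e : Subgroup G) : Set G) = Z S e := by
  refine le_antisymm ?_ fun z hz => ⟨Z_le_V S e hn hz, ?_⟩
  · rintro _ ⟨⟨p, hp, rfl⟩, hc⟩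
    refine ⟨p, centralizer_quadV hn (mem_centralizer_iff.2 fun q hq => ?_), rfl⟩
    exact ((commute_emb S e).1 (mem_centralizer_iff.1 hc _ ⟨q, hq, rfl⟩)).eq
  · refine mem_centralizer_iff.2 fun v hv => ?_
    exact (mem_centralizer_iff.1 (S_le_centralizer_Z S e (emb_map_le S e _ hv)) z hz).symm

theorem fix_Z {g : G} (hg : g ∈ normalizer ((V S e : Subgroup G) : Set G)) {z : G} (hz : z ∈ Z S e) :
    g * z = z * g := by
  haveI : Fact (Nat.Prime 2) := ⟨Nat.prime_two⟩
  set N := normalizer ((V S e : Subgroup G) : Set G)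
  have hZ := V_inf_centralizer S e hn
  have hkz : ∀ k ∈ N, ∀ w ∈ Z S e, k * w * k⁻¹ ∈ Z S e := by
    intro k hk w hw
    rw [← hZ] at hw ⊢
    refine ⟨(mem_normalizer_iff.1 hk w).1 hw.1, fun v hv => ?_⟩
    have hv' : k⁻¹ * v * k ∈ V S e := by
      simpa using (mem_normalizer_iff.1 (inv_mem hk) v).1 hv
    calc v * (k * w * k⁻¹) = k * ((k⁻¹ * v * k) * w) * k⁻¹ := by group
      _ = k * (w * (k⁻¹ * v * k)) * k⁻¹ := by rw [hw.2 _ hv']
      _ = (k * w * k⁻¹) * v := by group
  obtain ⟨a, b, ha, hb, hab, ⟨i, hi⟩, hcop⟩ := Cfsg.Lib.Transfer.exists_pPart 2 g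
  have haN : a ∈ N := (zpowers_le.2 hg) ha
  have hbN : b ∈ N := (zpowers_le.2 hg) hb
  have hb' : b * z = z * b := by
    haveI := isCyclic_center hn
    haveI : IsCyclic (Z S e) := isCyclic_of_surjective
      ((center (Wr n)).equivMapOfInjective _ (emb_injective S e)).toMonoidHom (MulEquiv.surjective _)
    exact ((Cfsg.Lib.TwoFusion.mem_centralizer_of_coprime
      (Cfsg.Lib.ZStarApps.mem_normalizer_of_maps fun w hw => hkz b hbN w hw) hcop
      (Cfsg.Lib.TwoFusion.isPGroup_mulAut_cyclic (isPGroup_map S e _) _)) z hz).symm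
  have ha' : a * z = z * a := by
    have hP : IsPGroup 2 ↥(V S e ⊔ zpowers a) := by
      rw [sup_comm]
      exact IsPGroup.to_sup_of_normal_right' (IsPGroup.of_card (n := i) (by rw [Nat.card_zpowers, hi]))
        (isPGroup_map S e _) (zpowers_le.2 haN)
    obtain ⟨c, -, hc⟩ := exists_sylow_conj (H := ⊤) S le_top hP le_top
    obtain ⟨z', hz'⟩ := exists_emb S e (hc z (mem_sup_left (Z_le_V S e hn hz)))
    obtain ⟨a', ha'⟩ := exists_emb S e (hc a (mem_sup_right (mem_zpowers a)))
    have hQ : ¬ ∀ x ∈ ((V S e).map (MulAut.conj c).toMonoidHom).comap (emb S e),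
        ∀ y ∈ ((V S e).map (MulAut.conj c).toMonoidHom).comap (emb S e), x * y = y * x := by
      intro h
      obtain ⟨x, hx⟩ := exists_emb S e (hc _ (mem_sup_left ⟨u0 n, (u0_mem_quadW hn).1, rfl⟩))
      obtain ⟨y, hy⟩ := exists_emb S e (hc _ (mem_sup_left ⟨t0 n, t0_mem_quadV, rfl⟩))
      have hxy := congrArg (emb S e) (h x ⟨_, ⟨u0 n, (u0_mem_quadW hn).1, rfl⟩, hx.symm⟩
        y ⟨_, ⟨t0 n, t0_mem_quadV, rfl⟩, hy.symm⟩)
      rw [map_mul, map_mul, hx, hy] at hxy
      simp only [← MulAut.conj_apply, ← map_mul] at hxy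
      exact quadV_nonabelian hn (emb_injective S e ((MulAut.conj c).injective hxy))
    have hcen : z' ∈ center (Wr n) := Cfsg.Lib.WreathedAut.centralizer_le_center_wr hn _ hQ <| by
      rw [mem_centralizer_iff]
      rintro q ⟨v, hv, hq⟩
      refine emb_injective S e ?_
      rw [map_mul, map_mul, hz', ← hq]
      show MulAut.conj c v * MulAut.conj c z = MulAut.conj c z * MulAut.conj c v
      rw [← map_mul, ← map_mul]
      congr 1
      exact ((mem_centralizer_iff.1 (S_le_centralizer_Z S e (emb_map_le S e _ hv)) z hz)).symm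
    have h := ((center_commute hcen a').map (emb S e)).eq
    rw [hz', ha', ← MulAut.conj_apply, ← MulAut.conj_apply, ← map_mul, ← map_mul] at h
    exact ((MulAut.conj c).injective h).symm
  rw [← hab, mul_assoc, hb', ← mul_assoc, ha', mul_assoc]

theorem exists_quarter : ∃ c : ZMod (2 ^ n), c + c = half n :=
  ⟨((2 ^ (n - 2) : ℕ) : ZMod (2 ^ n)), by
    rw [half, ← Nat.cast_add, ← two_mul, ← pow_succ', show n - 2 + 1 = n - 1 by omega]⟩

theorem exists_outside : ∃ s : Wr n, s.e = false ∧ s ∉ quadV n ∧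
    ∀ p ∈ quadV n, s * p * s⁻¹ ∈ quadV n := by
  obtain ⟨c, hc⟩ := exists_quarter hn
  refine ⟨⟨c, 0, false⟩, rfl, fun h => ?_, fun p hp => ?_⟩
  · have h' := mem_quadV.1 h
    simp [hc] at h'
    exact half_ne_zero (show 1 ≤ n by omega) h'
  · have hp' := mem_quadV.1 hp
    rw [mem_quadV, conj_formula]
    cases hpe : p.e <;> simp
    · linear_combination hp'
    · linear_combination hp' + 2 * hc + half_add_half (show 1 ≤ n by omega)

theorem dichV : ((V S e) ⊔ centralizer ((V S e : Subgroup G) : Set G)).relIndex (normalizer (V S e : Set G)) = 2 ∨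
    ((V S e) ⊔ centralizer ((V S e : Subgroup G) : Set G)).relIndex (normalizer (V S e : Set G)) = 6 := by
  have hu : emb S e (u0 n) ∈ V S e := ⟨_, (u0_mem_quadW hn).1, rfl⟩
  have ht : emb S e (t0 n) ∈ V S e := ⟨_, t0_mem_quadV, rfl⟩
  have hgen : closure ({emb S e (u0 n), emb S e (t0 n)} : Set G) ⊔ Z S e = V S e := by
    refine le_antisymm (sup_le ((closure_le _).2 ?_) (Z_le_V S e hn)) ?_
    · rintro x (rfl | rfl) <;> assumption
    · rw [map_le_iff_le_comap]
      exact quadV_le hn (fun c hc => mem_sup_right ⟨c, hc, rfl⟩)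
        (mem_sup_left (subset_closure (Or.inl rfl))) (mem_sup_left (subset_closure (Or.inr rfl)))
  have hsq : ∀ v ∈ V S e, v * v ∈ Z S e := by
    rintro _ ⟨p, hp, rfl⟩
    refine ⟨p * p, (mem_center_iff' hn _).2 ?_, map_mul _ _ _⟩
    cases hpe : p.e
    · simp [hpe]; linear_combination (mem_quadV.1 hp)
    · simp [hpe, add_comm]
  have hcard : Nat.card (V S e) = 4 * Nat.card (Z S e) := by
    rw [card_map_of_injective (emb_injective S e), card_map_of_injective (emb_injective S e),
      card_quadV hn, card_center hn]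
  haveI := isCyclic_center hn
  refine Cfsg.Lib.Automizer.eq_two_or_six
    (Cfsg.Lib.WreathedAut.relIndex_dvd_six (V S e) (Z S e) _ _ hu ht (Z_le_V S e hn) (V_inf_centralizer S e hn)
      (isCyclic_of_surjective ((center (Wr n)).equivMapOfInjective _ (emb_injective S e)).toMonoidHom
        (MulEquiv.surjective _)) hgen hsq hcard
      (fun h => quadV_nonabelian hn (emb_injective S e (by rw [map_mul, map_mul]; exact h)))
      fun g hg z hz => fix_Z S e hn hg hz)
    (Cfsg.Lib.Automizer.two_dvd_relIndex _ S.isPGroup' _ (emb_map_le S e _) ?_ ?_)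
  · intro c hc
    have hcV : (c : G) ∈ centralizer ((V S e : Subgroup G) : Set G) := mem_centralizer_iff.2 fun v hv =>
      congrArg Subtype.val (hc ⟨v, emb_map_le S e _ hv⟩ hv)
    obtain ⟨p, hp⟩ := exists_emb S e c.2
    show (c : G) ∈ V S e
    rw [← hp] at hcV ⊢
    exact Z_le_V S e hn ⟨p, centralizer_quadV hn (mem_centralizer_iff.2 fun q hq =>
      ((commute_emb S e).1 (mem_centralizer_iff.1 hcV _ ⟨q, hq, rfl⟩)).eq), rfl⟩
  · rw [Ne, relIndex_eq_one]
    obtain ⟨s, -, hsV, hs⟩ := exists_outside hn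
    intro h
    refine hsV ((mem_map_emb S e).1 (h (?_ : (⟨emb S e s, emb_mem S e s⟩ : (S : Subgroup G)) ∈ _)))
    refine Cfsg.Lib.ZStarApps.mem_normalizer_of_maps ?_
    rintro ⟨_, _⟩ ⟨p, hp, rfl⟩
    exact ⟨s * p * s⁻¹, hs p hp, emb_conj S e s p⟩

theorem quatSub_le {q : Wr n} (hq : q ∈ R S e) (hqe : q.e = true) (hqs : q.a + q.b = half n) :
    quatSub (show 1 ≤ n by omega) ≤ R S e := by
  have hanti : ∀ p : Wr n, p.e = false → p.a + p.b = 0 → p ∈ R S e := by
    intro p hpe hp
    have h := mul_mem (Normal.conj_mem inferInstance q hq ⟨p.a, 0, false⟩) (inv_mem hq)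
    have : p = ⟨p.a, 0, false⟩ * q * (⟨p.a, 0, false⟩ : Wr n)⁻¹ * q⁻¹ := by
      rw [conj_formula]
      ext
      · simp [hqe]
      · simp [hqe]; linear_combination hp
      · simp [hqe, hpe]
    rw [this]
    exact h
  intro p hp
  replace hp : p.a + p.b = if p.e then half n else 0 := hp
  cases hpe : p.e
  · rw [hpe] at hp; simp at hp
    exact hanti p hpe hp
  · rw [hpe] at hp; simp at hp
    have h : p * q⁻¹ ∈ R S e := hanti _ (by simp [hpe, hqe]) (by
      simp [hpe, hqe]
      linear_combination hp - hqs)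
    simpa using mul_mem h hq

theorem six_V (h₂ : ((V S e) ⊔ centralizer ((V S e : Subgroup G) : Set G)).relIndex (normalizer (V S e : Set G)) = 6) :
    (∃ g ∈ centralizer ({emb S e (zed n)} : Set G), g * emb S e (u0 n) * g⁻¹ = emb S e (t0 n)) ∧
      quatSub (show 1 ≤ n by omega) ≤ R S e := by
  haveI := sup_centralizer_normal (V S e)
  obtain ⟨θ, hθ, hodd, hθK⟩ := exists_odd_of_relIndex_six
    (sup_le le_normalizer (centralizer_le_normalizer _)) h₂
  have hfz : ∀ c ∈ center (Wr n), θ * emb S e c * θ⁻¹ = emb S e c := fun c hc => by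
    rw [fix_Z S e hn hθ ⟨c, hc, rfl⟩, mul_inv_cancel_right]
  have hmap : ∀ p ∈ quadV n, ∃ r ∈ quadV n, θ * emb S e p * θ⁻¹ = emb S e r := by
    intro p hp
    obtain ⟨r, hr, he⟩ := (mem_normalizer_iff.1 hθ _).1 ⟨p, hp, rfl⟩
    exact ⟨r, hr, he.symm⟩
  obtain ⟨p, hp, hpe⟩ := hmap _ (u0_mem_quadW hn).1
  have hpp : p * p = 1 := emb_injective S e (by
    rw [map_mul, map_one, ← hpe, show θ * emb S e (u0 n) * θ⁻¹ * (θ * emb S e (u0 n) * θ⁻¹) =
      θ * (emb S e (u0 n) * emb S e (u0 n)) * θ⁻¹ by group, ← map_mul,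
      ((order_two_iff _).1 (orderOf_u0 hn)).1, map_one]
    group)
  cases hpo : p.e
  · exfalso
    -- `θ` would centralise `V`
    have h2 : IsPGroup 2 (S : Subgroup G) := S.isPGroup'
    have hpow : ∀ r : Wr n, ∃ k, emb S e r ^ 2 ^ k = 1 := fun r => by
      obtain ⟨k, hk⟩ := h2 ⟨_, emb_mem S e r⟩
      exact ⟨k, congrArg Subtype.val hk⟩
    have hu : θ * emb S e (u0 n) * θ⁻¹ = emb S e (u0 n) := by
      obtain ⟨c, hc, h | h | h | h⟩ := center_split hn hp
      · exfalso
        rw [h] at hpe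
        exact u0_notMem_center hn ((emb_injective S e
          (mul_left_cancel (mul_right_cancel (hpe.trans (hfz c hc).symm)))) ▸ hc)
      · obtain ⟨k, hk⟩ := hpow c
        rw [h, (center_commute hc (u0 n)).eq, map_mul] at hpe
        have := odd_shift hodd hpe (hfz c hc) hk
        rw [hpe, this, mul_one]
      · rw [h] at hpo; simp [t0, ((mem_center_iff' hn c).1 hc).1] at hpo
      · rw [h] at hpo; simp [t0, u0, ((mem_center_iff' hn c).1 hc).1] at hpo
    have hW : ∀ w ∈ quadW n, θ * emb S e w * θ⁻¹ = emb S e w := by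
      intro w hw
      obtain ⟨c, hc, h | h | h | h⟩ := center_split hn hw.1
      · rw [h]; exact hfz c hc
      · rw [h, map_mul, show θ * (emb S e c * emb S e (u0 n)) * θ⁻¹ =
          (θ * emb S e c * θ⁻¹) * (θ * emb S e (u0 n) * θ⁻¹) by group, hu, hfz c hc]
      · have := hw.2; rw [h] at this; simp [mem_base, t0, ((mem_center_iff' hn c).1 hc).1] at this
      · have := hw.2; rw [h] at this; simp [mem_base, t0, u0, ((mem_center_iff' hn c).1 hc).1] at this
    obtain ⟨q, hq, hqe⟩ := hmap _ t0_mem_quadV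
    have hqo : q.e = true := by
      by_contra h
      have hfix := hW q ⟨hq, by simpa [mem_base] using h⟩
      have := emb_injective S e (mul_left_cancel (mul_right_cancel (hfix.trans hqe.symm)))
      rw [this] at h
      simp [t0] at h
    have hwW : (t0 n)⁻¹ * q ∈ quadW n := ⟨(quadV n).mul_mem ((quadV n).inv_mem t0_mem_quadV) hq, by simp [mem_base, t0, hqo]⟩
    obtain ⟨k, hk⟩ := hpow ((t0 n)⁻¹ * q)
    have hqe' : θ * emb S e (t0 n) * θ⁻¹ = emb S e (t0 n) * emb S e ((t0 n)⁻¹ * q) := by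
      rw [← map_mul, mul_inv_cancel_left, hqe]
    have h1 := odd_shift hodd hqe' (hW _ hwW) hk
    rw [h1, mul_one] at hqe'
    refine hθK (mem_sup_right (mem_centralizer_iff.2 ?_))
    rintro _ ⟨v, hv, rfl⟩
    have hle : quadV n ≤ (centralizer ({θ} : Set G)).comap (emb S e) := by
      refine quadV_le hn ?_ ?_ ?_
      · exact fun c hc => mem_centralizer_singleton_iff.2 (mul_inv_eq_iff_eq_mul.1 (hfz c hc)).symm
      · exact mem_centralizer_singleton_iff.2 (mul_inv_eq_iff_eq_mul.1 hu).symm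
      · exact mem_centralizer_singleton_iff.2 (mul_inv_eq_iff_eq_mul.1 hqe').symm
    exact mem_centralizer_singleton_iff.1 (hle hv)
  · constructor
    · obtain ⟨s, hs⟩ := conj_outer_involution hpo hpp
      refine ⟨(emb S e s)⁻¹ * θ, ?_, ?_⟩
      · refine mul_mem (inv_mem ?_) ?_
        · rw [mem_centralizer_singleton_iff]
          exact ((center_commute (zed_mem_center hn) s).symm.map (emb S e)).eq
        · exact mem_centralizer_singleton_iff.2 (fix_Z S e hn hθ ⟨_, zed_mem_center hn, rfl⟩)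
      · rw [show (emb S e s)⁻¹ * θ * emb S e (u0 n) * ((emb S e s)⁻¹ * θ)⁻¹ =
          (emb S e s)⁻¹ * (θ * emb S e (u0 n) * θ⁻¹) * emb S e s by group, hpe, ← hs, emb_conj, t0]
        group
    · refine quatSub_le S e hn (q := p * (u0 n)⁻¹) ?_ (by simp [hpo, u0]) ?_
      · rw [mem_R, map_mul, map_inv, ← hpe]
        exact comm_mem_pResidual hodd _
      · rcases (mul_self_iff p).1 hpp with ⟨h, -⟩ | ⟨-, h⟩
        · rw [hpo] at h; exact absurd h (by decide)
        · simp [hpo, u0]
          linear_combination h - half_add_half (show 1 ≤ n by omega)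

theorem card_centralizer_outer {r : Wr n} (hr : r.e = true) :
    Nat.card (centralizer ({r} : Set (Wr n))) = 2 ^ (n + 1) := by
  have hin : ∀ p : centralizer ({r} : Set (Wr n)),
      (if (p : Wr n).e then (p : Wr n) * r⁻¹ else (p : Wr n)) ∈ center (Wr n) := by
    rintro ⟨p, hp⟩
    have hpr : Commute p r := mem_centralizer_singleton_iff.1 hp
    cases hpe : p.e
    · simp only [Bool.false_eq_true, if_false]
      exact center_of_commute_outer hn hpe hr hpr
    · simp only [if_true]
      exact center_of_commute_outer hn (by simp [hpe, hr]) hr (hpr.mul_left (Commute.refl r).inv_left)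
  have e' : centralizer ({r} : Set (Wr n)) ≃ center (Wr n) × Bool :=
    { toFun := fun p => (⟨_, hin p⟩, (p : Wr n).e)
      invFun := fun t => ⟨if t.2 then (t.1 : Wr n) * r else t.1, mem_centralizer_singleton_iff.2 (by
        cases t.2
        · exact (center_commute t.1.2 r).eq
        · exact ((center_commute t.1.2 r).mul_left (Commute.refl r)).eq)⟩
      left_inv := fun p => Subtype.ext (by
        cases hpe : (p : Wr n).e <;> simp [hpe])
      right_inv := fun ⟨c, b⟩ => by
        have hce := ((mem_center_iff' hn c.1).1 c.2).1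
        cases b <;> simp [hce, hr] }
  rw [Nat.card_congr e', Nat.card_prod, card_center hn, Nat.card_eq_fintype_card, Fintype.card_bool,
    pow_succ]

/-- If an outer element is conjugate into the base, then so is its centraliser. -/
theorem centralizer_into_base {g : G} {r p : Wr n} (hr : r.e = true) (hp : p.e = false)
    (hg : g * emb S e r * g⁻¹ = emb S e p)
    (hsq : ∀ c ∈ center (Wr n), IsConj (emb S e r) (emb S e c) → ∃ d ∈ center (Wr n), d * d = c) :
    ∃ g' : G, ∀ q : Wr n, Commute q r → g' * emb S e q * g'⁻¹ ∈ U S e := by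
  set H := centralizer ({emb S e p} : Set G)
  set X := ((centralizer ({r} : Set (Wr n))).map (emb S e)).map (MulAut.conj g).toMonoidHom
  have hUH : U S e ≤ H := fun x hx => mem_centralizer_singleton_iff.2
    (mem_centralizer_iff.1 (U_le_centralizer S e ⟨p, hp, rfl⟩) x hx)
  have hXH : X ≤ H := by
    rintro _ ⟨_, ⟨q, hq, rfl⟩, rfl⟩
    rw [mem_centralizer_singleton_iff, ← hg]
    show MulAut.conj g (emb S e q) * MulAut.conj g (emb S e r) = MulAut.conj g (emb S e r) * MulAut.conj g (emb S e q)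
    rw [← map_mul, ← map_mul, ← map_mul, ← map_mul, mem_centralizer_singleton_iff.1 hq]
  obtain ⟨a, d, hd, haU, haX⟩ := exists_two_conj S (isPGroup_map S e _) hUH ((isPGroup_map S e _).map _) hXH
  have haN := U_weak S e hn haU
  obtain ⟨p', hp', hp'e⟩ := (mem_normalizer_iff.1 haN _).1 ⟨p, hp, rfl⟩
  refine ⟨a * d * g, ?_⟩
  have hcr : a * d * g * emb S e r * (a * d * g)⁻¹ = emb S e p' := by
    rw [hp'e, show a * d * g * emb S e r * (a * d * g)⁻¹ = a * (d * (g * emb S e r * g⁻¹) * d⁻¹) * a⁻¹ by group,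
      hg, mem_centralizer_singleton_iff.1 hd, mul_inv_cancel_right]
  have him : ∀ q : centralizer ({r} : Set (Wr n)),
      ∃ q', a * d * g * emb S e (q : Wr n) * (a * d * g)⁻¹ = emb S e q' ∧ Commute q' p' := by
    rintro ⟨q, hq⟩
    obtain ⟨q', hq'⟩ := exists_emb S e (haX _ ⟨_, ⟨q, hq, rfl⟩, rfl⟩)
    have hq'' : a * d * g * emb S e q * (a * d * g)⁻¹ = emb S e q' := by
      rw [hq', MulEquiv.coe_toMonoidHom, MulAut.conj_apply]; group
    refine ⟨q', hq'', (commute_emb S e).1 ?_⟩
    rw [← hq'', ← hcr, ← MulAut.conj_apply, ← MulAut.conj_apply]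
    exact ((commute_emb S e).2 (mem_centralizer_singleton_iff.1 hq)).map (MulAut.conj (a * d * g)).toMonoidHom
  choose f hf hfc using him
  intro q hq
  rw [hf ⟨q, mem_centralizer_singleton_iff.2 hq.eq⟩, mem_map_emb, mem_base]
  set q' := f ⟨q, mem_centralizer_singleton_iff.2 hq.eq⟩ with hq'def
  by_contra hq'e
  have hq'o : q'.e = true := by simpa using hq'e
  have hpc : p' ∈ center (Wr n) :=
    center_of_commute_outer hn hp' hq'o (hfc _).symm
  obtain ⟨d0, hd0, hdd⟩ := hsq p' hpc (isConj_iff.2 ⟨_, hcr⟩)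
  -- the image is all of the centraliser of `q'`, and contains `d0`
  have hrnc : r ∉ center (Wr n) := fun h => by
    rw [((mem_center_iff' hn r).1 h).1] at hr; exact absurd hr (by decide)
  have hfinj : Function.Injective f := fun x y hxy => by
    refine Subtype.ext (emb_injective S e ((MulAut.conj (a * d * g)).injective ?_))
    rw [MulAut.conj_apply, MulAut.conj_apply, hf x, hf y, hxy]
  let F : centralizer ({r} : Set (Wr n)) → centralizer ({q'} : Set (Wr n)) := fun x => ⟨f x,
    mem_centralizer_singleton_iff.2 (emb_injective S e (by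
      rw [map_mul, map_mul, ← hf x, ← hf, ← MulAut.conj_apply, ← MulAut.conj_apply, ← map_mul, ← map_mul,
        ← map_mul, ← map_mul, (commute_of_commute_noncentral hn hrnc
          (mem_centralizer_singleton_iff.1 x.2) hq).eq]))⟩
  have hF : Function.Injective F := fun x y hxy => hfinj (congrArg Subtype.val hxy)
  obtain ⟨x, hx⟩ := (hF.bijective_of_nat_card_le (by
    rw [card_centralizer_outer hn hr, card_centralizer_outer hn hq'o])).2
      ⟨d0, mem_centralizer_singleton_iff.2 (center_commute hd0 q').eq⟩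
  have hxx : (x : Wr n) * x = r := emb_injective S e ((MulAut.conj (a * d * g)).injective (by
    rw [MulAut.conj_apply, MulAut.conj_apply, hcr, map_mul, ← conj_mul, hf x, ← map_mul,
      show f x = d0 from congrArg Subtype.val hx, hdd]))
  rw [← hxx] at hr
  simp at hr

/-- The centraliser of `t` is not conjugate into the base if the automizer of `V` is small. -/
theorem not_into_base
    (h₂ : ((V S e) ⊔ centralizer ((V S e : Subgroup G) : Set G)).relIndex (normalizer (V S e : Set G)) = 2)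
    {g : G} (hg : ∀ q : Wr n, Commute q (t0 n) → g * emb S e q * g⁻¹ ∈ U S e) : False := by
  haveI := base_normal (n := n)
  haveI := quadW_normal (n := n)
  set C := centralizer ((Z S e : Subgroup G) : Set G) with hC
  -- the preimage of `U` centralises `Z` and `t`
  have hUg : ∀ x ∈ (U S e).map (MulAut.conj g⁻¹).toMonoidHom, ∀ q : Wr n, Commute q (t0 n) →
      emb S e q * x = x * emb S e q := by
    rintro _ ⟨u, hu, rfl⟩ q hq
    have h := mem_centralizer_iff.1 (U_le_centralizer S e hu) _ (hg q hq)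
    show emb S e q * (g⁻¹ * u * g⁻¹⁻¹) = g⁻¹ * u * g⁻¹⁻¹ * emb S e q
    calc emb S e q * (g⁻¹ * u * g⁻¹⁻¹) = g⁻¹ * ((g * emb S e q * g⁻¹) * u) * g := by group
      _ = g⁻¹ * (u * (g * emb S e q * g⁻¹)) * g := by rw [h]
      _ = _ := by group
  obtain ⟨c, hcC, hc⟩ := exists_sylow_conj S (fun s hs => S_le_centralizer_Z S e hs)
    ((isPGroup_map S e _).map (MulAut.conj g⁻¹).toMonoidHom)
    (X := (U S e).map (MulAut.conj g⁻¹).toMonoidHom) (fun x hx => mem_centralizer_iff.2 (by
      rintro _ ⟨q, hq, rfl⟩; exact hUg x hx q (center_commute hq _)))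
  have hk : c * g⁻¹ ∈ normalizer ((U S e : Subgroup G) : Set G) := U_weak S e hn fun u hu => by
    have := hc _ ⟨u, hu, rfl⟩
    simpa [mul_assoc] using this
  have hcU : ∀ q : Wr n, Commute q (t0 n) → c * emb S e q * c⁻¹ ∈ U S e := fun q hq => by
    have := (mem_normalizer_iff.1 hk _).1 (hg q hq)
    simpa [mul_assoc] using this
  -- normalise `c t` to `u`
  obtain ⟨p, hp, hpt⟩ := hcU _ (Commute.refl _)
  have hfixC : ∀ x ∈ C, ∀ q ∈ center (Wr n), x * emb S e q * x⁻¹ = emb S e q := fun x hx q hq => by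
    rw [← mem_centralizer_iff.1 hx _ ⟨q, hq, rfl⟩, mul_inv_cancel_right]
  obtain ⟨b, hbC, hbt⟩ : ∃ b ∈ C, b * emb S e (t0 n) * b⁻¹ = emb S e (u0 n) := by
    have hord : orderOf p = 2 := by
      rw [← orderOf_emb S e, hpt, ← MulAut.conj_apply, MulEquiv.orderOf_eq, orderOf_emb, orderOf_t0]
    obtain ⟨hpp, hp1⟩ := (order_two_iff p).1 hord
    rcases base_involutions hn hp hpp with rfl | rfl | rfl | rfl
    · exact absurd rfl hp1
    · exfalso
      have := hfixC c hcC _ (zed_mem_center hn)
      have h1 := emb_injective S e (mul_left_cancel (mul_right_cancel (this.trans hpt)))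
      simpa [zed, t0] using congrArg Wr.e h1
    · exact ⟨c, hcC, hpt.symm⟩
    · refine ⟨(emb S e (t0 n))⁻¹ * c, mul_mem (inv_mem (S_le_centralizer_Z S e (emb_mem S e _))) hcC, ?_⟩
      rw [show (emb S e (t0 n))⁻¹ * c * emb S e (t0 n) * ((emb S e (t0 n))⁻¹ * c)⁻¹ =
        (emb S e (t0 n))⁻¹ * (c * emb S e (t0 n) * c⁻¹) * emb S e (t0 n) by group, ← hpt, u1_eq, emb_conj]
      group
  set H := C ⊓ normalizer ((W S e : Subgroup G) : Set G)
  have hSH : (S : Subgroup G) ≤ H := le_inf (fun s hs => S_le_centralizer_Z S e hs)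
    (le_normalizer_of_normal S e (quadW n))
  -- the image of `quadW` under `b⁻¹`
  have hbW : ∀ q : Wr n, Commute q (t0 n) → b * emb S e q * b⁻¹ ∈ W S e := by
    intro q hq
    cases hqe : q.e
    · have hqc := center_of_commute_outer hn hqe rfl hq
      rw [hfixC b hbC q hqc]
      exact ⟨q, center_le_quadW hn hqc, rfl⟩
    · have hqc : q * t0 n ∈ center (Wr n) :=
        center_of_commute_outer hn (by simp [hqe, t0]) rfl (hq.mul_left (Commute.refl _))
      refine ⟨(q * t0 n) * u0 n, mul_mem (center_le_quadW hn hqc) (u0_mem_quadW hn), ?_⟩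
      rw [map_mul, ← hbt, ← hfixC b hbC _ hqc, map_mul,
        show emb S e q * emb S e (t0 n) = emb S e q * (emb S e (t0 n)) from rfl]
      rw [show b * (emb S e q * emb S e (t0 n)) * b⁻¹ * (b * emb S e (t0 n) * b⁻¹) =
        b * (emb S e q * (emb S e (t0 n) * emb S e (t0 n))) * b⁻¹ by group, ← map_mul,
        ((order_two_iff _).1 orderOf_t0).1, map_one, mul_one]
  have hVb : (V S e).map (MulAut.conj b).toMonoidHom ≤ H := by
    rintro _ ⟨_, ⟨v, hv, rfl⟩, rfl⟩
    refine ⟨C.mul_mem (C.mul_mem hbC (S_le_centralizer_Z S e (emb_mem S e v))) (C.inv_mem hbC), ?_⟩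
    refine Cfsg.Lib.ZStarApps.mem_normalizer_of_maps ?_
    rintro _ ⟨w, hw, rfl⟩
    -- `W` is the image of the centraliser of `t`
    obtain ⟨q, hq, hqw⟩ : ∃ q, Commute q (t0 n) ∧ b * emb S e q * b⁻¹ = emb S e w := by
      obtain ⟨k, hk, h | h | h | h⟩ := center_split hn hw.1
      · exact ⟨k, center_commute hk _, by rw [hfixC b hbC k hk, h]⟩
      · refine ⟨k * t0 n, (center_commute hk _).mul_left (Commute.refl _), ?_⟩
        rw [h, map_mul, map_mul, show b * (emb S e k * emb S e (t0 n)) * b⁻¹ =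
          (b * emb S e k * b⁻¹) * (b * emb S e (t0 n) * b⁻¹) by group, hfixC b hbC k hk, hbt]
      · have := hw.2; rw [h] at this; simp [mem_base, t0, ((mem_center_iff' hn k).1 hk).1] at this
      · have := hw.2; rw [h] at this; simp [mem_base, t0, u0, ((mem_center_iff' hn k).1 hk).1] at this
    have hq' : Commute (v * q * v⁻¹) (t0 n) := by
      have hvt : ∃ k ∈ center (Wr n), v * t0 n * v⁻¹ = k * t0 n := by
        refine ⟨v * t0 n * v⁻¹ * (t0 n)⁻¹, ?_, by group⟩
        rw [mem_center_iff' hn, conj_formula]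
        refine ⟨by simp [t0], ?_⟩
        cases hve : v.e <;> simp [t0]
        · linear_combination (mem_quadV.1 hv)
        · linear_combination (mem_quadV.1 hv)
      obtain ⟨k, hk, hvk⟩ := hvt
      have h1 : Commute (v * q * v⁻¹) (v * t0 n * v⁻¹) := hq.map (MulAut.conj v).toMonoidHom
      rw [hvk] at h1
      have h2 := ((center_commute hk (v * q * v⁻¹)).symm.inv_right).mul_right h1
      simpa using h2
    have := hbW _ hq'
    rw [← hqw, emb_conj] at *
    simpa [mul_assoc] using this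
  obtain ⟨d, hdH, hd⟩ := exists_sylow_conj S hSH ((isPGroup_map S e _).map _) hVb
  set f := d * b
  have hfC : f ∈ C := mul_mem hdH.1 hbC
  have hfW : ∀ q : Wr n, Commute q (t0 n) → f * emb S e q * f⁻¹ ∈ W S e := fun q hq => by
    have := (mem_normalizer_iff.1 hdH.2 _).1 (hbW q hq)
    simpa [f, mul_assoc] using this
  obtain ⟨r, hr⟩ := exists_emb S e (hd _ ⟨_, ⟨u0 n, (u0_mem_quadW hn).1, rfl⟩, rfl⟩)
  have hfr : f * emb S e (u0 n) * f⁻¹ = emb S e r := by
    rw [hr, MulEquiv.coe_toMonoidHom, MulAut.conj_apply]; simp [f, mul_assoc]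
  obtain ⟨w, hw, hfw⟩ := hfW _ (Commute.refl _)
  have hrr : orderOf r = 2 := by
    rw [← orderOf_emb S e, ← hfr, ← MulAut.conj_apply, MulEquiv.orderOf_eq, orderOf_emb, orderOf_u0 hn]
  have hre : r.e = true := by
    by_contra h
    refine quadV_nonabelian hn ((commute_emb S e).1 ?_).eq
    have hcomm := (commute_emb S e).2 (base_commute (p := r) (by simpa using h) hw.2)
    rw [hfw, ← hfr, ← MulAut.conj_apply, ← MulAut.conj_apply] at hcomm
    exact (MulAut.conj f).injective (by simpa only [map_mul] using hcomm.eq)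
  obtain ⟨s, hs⟩ := conj_outer_involution hre ((order_two_iff r).1 hrr).1
  set f' := (emb S e s)⁻¹ * f with hf'
  have hf'C : f' ∈ C := mul_mem (inv_mem (S_le_centralizer_Z S e (emb_mem S e s))) hfC
  have hf't : f' * emb S e (t0 n) * f'⁻¹ ∈ W S e := by
    have := (mem_normalizer_iff.1 (le_normalizer_of_normal S e (quadW n) (inv_mem (emb_mem S e s))) _).1
      (hfW _ (Commute.refl _))
    simpa [f', mul_assoc] using this
  have hf'u : f' * emb S e (u0 n) * f'⁻¹ = emb S e (t0 n) := by
    rw [show f' * emb S e (u0 n) * f'⁻¹ = (emb S e s)⁻¹ * (f * emb S e (u0 n) * f⁻¹) * emb S e s by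
      simp only [f']; group, hfr, ← hs, emb_conj, t0]
    group
  have hf'N : f' ∈ normalizer ((V S e : Subgroup G) : Set G) := by
    refine Cfsg.Lib.ZStarApps.mem_normalizer_of_maps ?_
    rintro _ ⟨v, hv, rfl⟩
    have hle : quadV n ≤ ((V S e).comap (MulAut.conj f').toMonoidHom).comap (emb S e) := by
      refine quadV_le hn (fun k hk => ?_) ?_ ?_
      · show f' * emb S e k * f'⁻¹ ∈ V S e
        rw [hfixC f' hf'C k hk]
        exact Z_le_V S e hn ⟨k, hk, rfl⟩
      · show f' * emb S e (u0 n) * f'⁻¹ ∈ V S e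
        rw [hf'u]; exact ⟨_, t0_mem_quadV, rfl⟩
      · exact map_mono inf_le_left hf't
    exact hle hv
  -- but all of the normaliser of `V` normalises `W`
  obtain ⟨s₀, hs₀e, hs₀V, hs₀⟩ := exists_outside hn
  have hWV : W S e ≤ V S e := map_mono inf_le_left
  have hKW : (V S e) ⊔ centralizer ((V S e : Subgroup G) : Set G) ≤ normalizer ((W S e : Subgroup G) : Set G) :=
    sup_le ((emb_map_le S e _).trans (le_normalizer_of_normal S e (quadW n)))
      ((Subgroup.centralizer_le hWV).trans (centralizer_le_normalizer _))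
  have hs₀N : emb S e s₀ ∈ normalizer ((V S e : Subgroup G) : Set G) := by
    refine Cfsg.Lib.ZStarApps.mem_normalizer_of_maps ?_
    rintro _ ⟨p, hp, rfl⟩
    exact ⟨s₀ * p * s₀⁻¹, hs₀ p hp, emb_conj S e s₀ p⟩
  have hs₀K : emb S e s₀ ∉ (V S e) ⊔ centralizer ((V S e : Subgroup G) : Set G) := by
    intro h
    haveI := centralizer_normal (V S e)
    have hm : (⟨_, hs₀N⟩ : normalizer ((V S e : Subgroup G) : Set G)) ∈
        (V S e).subgroupOf _ ⊔ (centralizer ((V S e : Subgroup G) : Set G)).subgroupOf _ := by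
      rw [← subgroupOf_sup le_normalizer (centralizer_le_normalizer _)]; exact h
    obtain ⟨v, hv, k, hk, he⟩ := mem_sup_of_normal_right.1 hm
    obtain ⟨v', hv', hve⟩ : (v : G) ∈ V S e := hv
    have he' : (v : G) * (k : G) = emb S e s₀ := congrArg Subtype.val he
    have hke : (k : G) = emb S e (v'⁻¹ * s₀) := by
      rw [map_mul, map_inv, ← he', hve, inv_mul_cancel_left]
    have hkc : v'⁻¹ * s₀ ∈ center (Wr n) := centralizer_quadV hn (mem_centralizer_iff.2 fun q hq =>
      ((commute_emb S e).1 (hke ▸ mem_centralizer_iff.1 hk _ ⟨q, hq, rfl⟩)).eq)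
    refine hs₀V ?_
    have := mul_mem hv' (center_le_quadV hn hkc)
    rwa [mul_inv_cancel_left] at this
  have hs₀W : emb S e s₀ ∈ normalizer ((W S e : Subgroup G) : Set G) :=
    le_normalizer_of_normal S e (quadW n) (emb_mem S e s₀)
  have hfin : f' ∈ normalizer ((W S e : Subgroup G) : Set G) := by
    rcases mem_or_mul_mem h₂ hs₀N hs₀K hf'N with h | h
    · exact hKW h
    · have := mul_mem (hKW h) (inv_mem hs₀W)
      rwa [mul_inv_cancel_right] at this
  have := (mem_normalizer_iff.1 hfin _).1 (show emb S e (u0 n) ∈ W S e from ⟨_, u0_mem_quadW hn, rfl⟩)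
  rw [hf'u, mem_map_emb] at this
  exact absurd this.2 (by simp [mem_base, t0])

theorem square_of_involution {c : Wr n} (hc : c ∈ center (Wr n)) (h : IsConj (emb S e (t0 n)) (emb S e c)) :
    ∃ d ∈ center (Wr n), d * d = c := by
  obtain ⟨g, hg⟩ := isConj_iff.1 h
  have : c = zed n := eq_zed_of_center hn hc (by
    rw [← orderOf_emb S e, ← hg, ← MulAut.conj_apply, MulEquiv.orderOf_eq, orderOf_emb, orderOf_t0])
  obtain ⟨q, hq⟩ := exists_quarter hn
  refine ⟨⟨q, q, false⟩, (mem_center_iff' hn _).2 ⟨rfl, rfl⟩, ?_⟩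
  rw [this]; ext <;> simp [zed, hq]

theorem not_conj_t_base
    (h₂ : ((V S e) ⊔ centralizer ((V S e : Subgroup G) : Set G)).relIndex (normalizer (V S e : Set G)) = 2)
    {p : Wr n} (hp : p.e = false) : ¬ IsConj (emb S e (t0 n)) (emb S e p) := by
  intro h
  obtain ⟨g, hg⟩ := isConj_iff.1 h
  obtain ⟨g', hg'⟩ := centralizer_into_base S e hn (r := t0 n) rfl hp hg
    (fun c hc => square_of_involution S e hn hc)
  exact not_into_base S e hn h₂ hg'

theorem six_V_of_conj {p : Wr n} (hp : p.e = false) (h : IsConj (emb S e (t0 n)) (emb S e p)) :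
    ((V S e) ⊔ centralizer ((V S e : Subgroup G) : Set G)).relIndex (normalizer (V S e : Set G)) = 6 :=
  (dichV S e hn).resolve_left fun h2 => not_conj_t_base S e hn h2 hp h

theorem conj_ut_of_six (h₂ : ((V S e) ⊔ centralizer ((V S e : Subgroup G) : Set G)).relIndex (normalizer (V S e : Set G)) = 6) :
    IsConj (emb S e (u0 n)) (emb S e (t0 n)) := by
  obtain ⟨g, -, hg⟩ := (six_V S e hn h₂).1
  exact isConj_iff.2 ⟨g, hg⟩

/-- When the automizer of `U` is small the central involution is isolated. -/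
theorem zed_isolated (h₁ : (centralizer ((U S e : Subgroup G) : Set G)).relIndex (normalizer (U S e : Set G)) = 2) :
    Cfsg.IsIsolatedInvolution (emb S e (zed n)) := by
  have hzo : orderOf (emb S e (zed n)) = 2 := (orderOf_emb S e _).trans (orderOf_zed hn)
  refine ⟨hzo, fun g hc => Cfsg.Lib.InvolCalc.isolated_of_unique S hzo (fun a ha => ?_) hc⟩
  obtain ⟨p, hp⟩ := exists_emb S e ha
  have hpo : orderOf p = 2 := by
    rw [← orderOf_emb S e, hp, ← MulAut.conj_apply, MulEquiv.orderOf_eq, hzo]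
  have hzp : IsConj (emb S e (zed n)) (emb S e p) := isConj_iff.2 ⟨a, hp.symm⟩
  rcases involution_cases hn hpo with h | h | h
  · rw [← hp, h]
  · exact absurd (hzp.trans ((emb S e).map_isConj h)) (not_conj_zu S e hn h₁)
  · exfalso
    have hzt : IsConj (emb S e (zed n)) (emb S e (t0 n)) := hzp.trans ((emb S e).map_isConj h)
    exact not_conj_zu S e hn h₁ (hzt.trans
      (conj_ut_of_six S e hn (six_V_of_conj S e hn (p := zed n) rfl hzt.symm)).symm)

/-- the homomorphism with kernel the quaternion subgroup -/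
def phi : Wr n →* Multiplicative (ZMod (2 ^ n)) :=
  MonoidHom.mk' (fun p => Multiplicative.ofAdd (p.a + p.b + if p.e then half n else 0)) fun p q => by
    rw [← ofAdd_add]
    congr 1
    rcases p with ⟨a, b, _ | _⟩ <;> rcases q with ⟨c, d, _ | _⟩ <;> simp <;>
      first
        | ring1
        | linear_combination -half_add_half (show 1 ≤ n by omega)

theorem phi_eq_one {p : Wr n} : phi hn p = 1 ↔ p ∈ quatSub (show 1 ≤ n by omega) := by
  show Multiplicative.ofAdd _ = Multiplicative.ofAdd (0 : ZMod (2 ^ n)) ↔ p.a + p.b = _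
  rw [Multiplicative.ofAdd.injective.eq_iff, ← eq_neg_iff_add_eq_zero]
  cases p.e <;> simp [neg_half (show 1 ≤ n by omega)]

theorem phi_invariant (h₁ : (centralizer ((U S e : Subgroup G) : Set G)).relIndex (normalizer (U S e : Set G)) = 2)
    {g : G} {p r : Wr n} (hg : g * emb S e p * g⁻¹ = emb S e r) : phi hn p = phi hn r := by
  have hz := zed_isolated S e hn h₁
  show Multiplicative.ofAdd _ = Multiplicative.ofAdd _
  congr 1
  have hsq : ∀ q : Wr n, q.e = true → q * q = ⟨q.a + q.b, q.a + q.b, false⟩ := fun q hq => by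
    ext <;> simp [hq, add_comm q.b q.a]
  have hg2 : g * emb S e (p * p) * g⁻¹ = emb S e (r * r) := by
    rw [map_mul, map_mul, ← hg]; group
  have hg2' : g⁻¹ * emb S e (r * r) * g⁻¹⁻¹ = emb S e (p * p) := by rw [← hg2]; group
  have hg' : g⁻¹ * emb S e r * g⁻¹⁻¹ = emb S e p := by rw [← hg]; group
  have hfix : ∀ (a : G) (c q : Wr n), c ∈ center (Wr n) → a * emb S e c * a⁻¹ = emb S e q → q = c :=
    fun a c q hc ha => emb_injective S e (ha.symm.trans
      (conj_center_eq S hn e hz hc (g := a) (ha ▸ emb_mem S e q)))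
  have hcenter : ∀ q : Wr n, q.e = true → q * q ∈ center (Wr n) := fun q hq => by
    rw [hsq q hq, mem_center_iff' hn]; exact ⟨rfl, rfl⟩
  -- an inner element fused with an outer one
  have hmix : ∀ (a : G) (x y : Wr n), x.e = true → y.e = false → a * emb S e x * a⁻¹ = emb S e y →
      y * y = x * x → x.a + x.b + half n = y.a + y.b := by
    intro a x y hx hy ha hxy
    rw [hsq x hx] at hxy
    have h1 : y.a + y.a = x.a + x.b := by simpa [hy] using congrArg Wr.a hxy
    have h2 : y.b + y.b = x.a + x.b := by simpa [hy] using congrArg Wr.b hxy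
    have hne : y.a - y.b ≠ 0 := fun h0 => by
      have hyc : y ∈ center (Wr n) := (mem_center_iff' hn y).2 ⟨hy, sub_eq_zero.1 h0⟩
      have := hfix a⁻¹ y x hyc (by rw [← ha]; group)
      rw [this, hy] at hx
      exact absurd hx (by decide)
    have h3 := (eq_zero_or_half (show 1 ≤ n by omega) (a := y.a - y.b)
      (by linear_combination h1 - h2)).resolve_left hne
    linear_combination -h2 - h3
  cases hp : p.e <;> cases hr : r.e <;> simp
  · rcases inner_conj S e hn h₁ hp hr hg with h | h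
    · rw [h]
    · rw [h, t0_conj]; simp [add_comm]
  · exact (hmix g⁻¹ r p hr hp hg' (hfix g⁻¹ (r * r) (p * p) (hcenter r hr) hg2')).symm
  · exact hmix g p r hp hr hg (hfix g (p * p) (r * r) (hcenter p hp) hg2)
  · have h := hfix g (p * p) (r * r) (hcenter p hp) hg2
    rw [hsq p hp, hsq r hr] at h
    exact (congrArg Wr.a h).symm

theorem R_le_quatSub (h₁ : (centralizer ((U S e : Subgroup G) : Set G)).relIndex (normalizer (U S e : Set G)) = 2) :
    R S e ≤ quatSub (show 1 ≤ n by omega) := by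
  haveI : Fact (Nat.Prime 2) := ⟨Nat.prime_two⟩
  intro v hv
  let φ : (S : Subgroup G) →* Multiplicative (ZMod (2 ^ n)) := (phi hn).comp e.symm.toMonoidHom
  have hτ := transfer_eq_pow_of_image φ ⟨emb S e v, emb_mem S e v⟩ fun k a h => by
    obtain ⟨r, hr⟩ := exists_emb S e h
    have hr' : a⁻¹ * emb S e (v ^ k) * a⁻¹⁻¹ = emb S e r := by
      rw [hr, map_pow, inv_inv]
    show phi hn (e.symm _) = phi hn (e.symm _)
    rw [show (⟨_, h⟩ : (S : Subgroup G)) = e r from Subtype.ext hr.symm,
      show (⟨emb S e v, emb_mem S e v⟩ : (S : Subgroup G)) = e v from rfl, ← map_pow,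
      e.symm_apply_apply, e.symm_apply_apply]
    exact (phi_invariant S e hn h₁ hr').symm
  have hker : MonoidHom.transfer φ (emb S e v) = 1 := by
    have hp : IsPGroup 2 (G ⧸ (MonoidHom.transfer φ).ker) :=
      IsPGroup.of_equiv ((IsPGroup.of_card (n := n) (G := Multiplicative (ZMod (2 ^ n)))
        (by rw [Nat.card_congr Multiplicative.toAdd, Nat.card_zmod])).to_subgroup _)
        (QuotientGroup.quotientKerEquivRange _).symm
    exact MonoidHom.mem_ker.1 (Cfsg.Lib.Transfer.pResidual_le hp hv)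
  rw [hker] at hτ
  have h1 : φ ⟨emb S e v, emb_mem S e v⟩ = phi hn v := congrArg (phi hn) (e.symm_apply_apply v)
  rw [h1] at hτ
  refine (phi_eq_one hn).1 (orderOf_eq_one_iff.1 (Nat.eq_one_of_dvd_coprimes
    ((Nat.Prime.coprime_iff_not_dvd Nat.prime_two).2 S.not_dvd_index |>.pow_left n) ?_
    (orderOf_dvd_of_pow_eq_one hτ.symm)))
  have := orderOf_dvd_natCard (phi hn v)
  rwa [Nat.card_congr Multiplicative.toAdd, Nat.card_zmod] at this

/-- A fusion-separated outer element avoids the residual. -/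
theorem outer_notMem_R {v : Wr n} (hv : v.e = true)
    (hsep : ∀ (k : ℕ) (a : G) (r : Wr n), a * emb S e (v ^ k) * a⁻¹ = emb S e r → r.e = (v ^ k).e) :
    v ∉ R S e := by
  haveI := base_normal (n := n)
  have hrel : (U S e).relIndex (S : Subgroup G) = 2 := by
    have h := ((U S e).subgroupOf (S : Subgroup G)).card_mul_index
    rw [Nat.card_congr (subgroupOfEquivOfLe (emb_map_le S e _)).toEquiv,
      card_map_of_injective (emb_injective S e), base_card, ← Nat.card_congr e.toEquiv, Wr.card_eq,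
      pow_succ] at h
    exact Nat.eq_of_mul_eq_mul_left (Nat.two_pow_pos (2 * n)) h
  obtain ⟨M, hMn, hMi, hvM, -⟩ := exists_index_two_of_transfer S (U S e) (emb_map_le S e _) hrel
    (emb S e v) (emb_mem S e v) (by rw [mem_map_emb, mem_base, hv]; decide) (fun k a ha => by
      obtain ⟨r, hr⟩ := exists_emb S e ha
      rw [← hr, ← map_pow, mem_map_emb, mem_map_emb, mem_base, mem_base,
        hsep k a r (by rw [map_pow, hr])])
  exact fun h => hvM (pResidual_le_of_index_two hMi h)

theorem t_notMem_R (h : ∀ p : Wr n, p.e = false → ¬ IsConj (emb S e (t0 n)) (emb S e p)) :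
    t0 n ∉ R S e := by
  refine outer_notMem_R S e hn rfl fun k a r hr => ?_
  have h2 : t0 n ^ 2 = 1 := by rw [← orderOf_t0 (n := n), pow_orderOf_eq_one]
  rcases Nat.even_or_odd k with ⟨i, rfl⟩ | ⟨i, rfl⟩
  · rw [← two_mul, pow_mul, h2, one_pow] at hr ⊢
    rw [map_one, mul_one, mul_inv_cancel, ← map_one (emb S e)] at hr
    rw [← emb_injective S e hr]
  · rw [pow_succ, pow_mul, h2, one_pow, one_mul] at hr ⊢
    cases hre : r.e
    · exact absurd (isConj_iff.2 ⟨a, hr⟩) (h r hre)
    · rfl

theorem R_eq_base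
    (h₁ : (centralizer ((U S e : Subgroup G) : Set G)).relIndex (normalizer (U S e : Set G)) = 6)
    (h₂ : ((V S e) ⊔ centralizer ((V S e : Subgroup G) : Set G)).relIndex (normalizer (V S e : Set G)) = 2) :
    R S e = base n := by
  have hle := (six_U S e hn h₁).2
  refine le_antisymm (fun v hv => ?_) hle
  by_contra hvb
  have hve : v.e = true := by simpa [mem_base] using hvb
  refine t_notMem_R S e hn (fun p hp => not_conj_t_base S e hn h₂ hp) ?_
  have h := mul_mem hv (hle (show (v⁻¹ * t0 n).e = false by simp [hve, t0]))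
  rwa [mul_inv_cancel_left] at h

theorem R_le_antidiag
    (h₁ : (centralizer ((U S e : Subgroup G) : Set G)).relIndex (normalizer (U S e : Set G)) = 2)
    (h₂ : ((V S e) ⊔ centralizer ((V S e : Subgroup G) : Set G)).relIndex (normalizer (V S e : Set G)) = 2) :
    R S e ≤ antidiag n := by
  intro v hv
  have hq : v.a + v.b = if v.e then half n else 0 := R_le_quatSub S e hn h₁ hv
  cases hve : v.e
  · rw [hve] at hq; exact ⟨hve, by simpa using hq⟩
  exfalso
  have hz := zed_isolated S e hn h₁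
  obtain ⟨c, hc⟩ := exists_quarter hn
  set q : Wr n := ⟨c, c, true⟩ with hqdef
  have hqR : q ∈ R S e := quatSub_le S e hn hv hve (by rw [hve] at hq; simpa using hq) (by
    show q.a + q.b = if q.e then half n else 0
    simp [q, hc])
  have hqq : q * q = zed n := by ext <;> simp [q, zed, hc]
  have hzz : zed n * zed n = 1 := ((order_two_iff _).1 (orderOf_zed hn)).1
  refine outer_notMem_R S e hn (v := q) rfl (fun k a r hr => ?_) hqR
  rcases Nat.even_or_odd k with ⟨i, rfl⟩ | ⟨i, rfl⟩
  · -- powers of the central involution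
    have hzc : (q ^ (i + i)) ∈ center (Wr n) := by
      rw [← two_mul, pow_mul, pow_two, hqq]; exact pow_mem (zed_mem_center hn) i
    have := emb_injective S e (hr.symm.trans (conj_center_eq S hn e hz hzc (g := a) (hr ▸ emb_mem S e r)))
    rw [this]
  · have hqe : (q ^ (2 * i + 1)).e = true := by
      rw [pow_succ, pow_mul, pow_two, hqq]
      have hzc : ((zed n) ^ i).e = false := center_le_base hn (pow_mem (zed_mem_center hn) i)
      simp [hzc, q]
    rw [hqe]
    by_contra hre
    replace hre : r.e = false := by simpa using hre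
    obtain ⟨g', hg'⟩ := centralizer_into_base S e hn hqe hre hr fun c hc h => by
      obtain ⟨b, hb⟩ := isConj_iff.1 h
      have h' := emb_injective S e ((show b⁻¹ * emb S e c * b⁻¹⁻¹ = emb S e (q ^ (2 * i + 1)) by
        rw [← hb]; group).symm.trans (conj_center_eq S hn e hz hc (g := b⁻¹) (by
          rw [← hb, show b⁻¹ * (b * emb S e (q ^ (2 * i + 1)) * b⁻¹) * b⁻¹⁻¹ = emb S e (q ^ (2 * i + 1)) by group]
          exact emb_mem S e _)))
      rw [h', ((mem_center_iff' hn c).1 hc).1] at hqe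
      exact absurd hqe (by decide)
    refine not_into_base S e hn h₂ (g := g') fun x hx => hg' x ?_
    have hqt : q = (⟨c, c, false⟩ : Wr n) * t0 n := by ext <;> simp [q, t0]
    refine Commute.pow_right ?_ _
    rw [hqt]
    exact ((center_commute ((mem_center_iff' hn _).2 ⟨rfl, rfl⟩) x).symm).mul_right hx

/-! ### Index and classes -/

theorem index_residual : (Cfsg.pResidual 2 G).index = (R S e).index := by
  rw [index_pResidual S, R, Subgroup.index_comap_of_surjective _ (f := e.toMonoidHom) e.surjective]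

theorem residual_subgroupOf :
    (Cfsg.pResidual 2 G).subgroupOf (S : Subgroup G) = (R S e).map e.toMonoidHom :=
  (Subgroup.map_comap_eq_self_of_surjective (f := e.toMonoidHom) e.surjective _).symm

theorem involution_classes {x : G} (hx : orderOf x = 2) :
    IsConj x (emb S e (zed n)) ∨ IsConj x (emb S e (u0 n)) ∨ IsConj x (emb S e (t0 n)) := by
  obtain ⟨g, hg⟩ := exists_conj_mem_sylow S (x := x) (k := 1) (by rw [hx, pow_one])
  obtain ⟨p, hp⟩ := exists_emb S e hg
  have hxp : IsConj x (emb S e p) := isConj_iff.2 ⟨g, hp.symm⟩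
  have hpo : orderOf p = 2 := by rw [← orderOf_emb S e, hp, ← MulAut.conj_apply, MulEquiv.orderOf_eq, hx]
  rcases involution_cases hn hpo with h | h | h
  · exact Or.inl (h ▸ hxp)
  · exact Or.inr (Or.inl (hxp.trans ((emb S e).map_isConj h)))
  · exact Or.inr (Or.inr (hxp.trans ((emb S e).map_isConj h)))

/-- The quaternion case: fusion of a centraliser of an involution. -/
theorem quaternion_case
    (h₁ : (centralizer ((U S e : Subgroup G) : Set G)).relIndex (normalizer (U S e : Set G)) = 2)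
    (h₂ : ((V S e) ⊔ centralizer ((V S e : Subgroup G) : Set G)).relIndex (normalizer (V S e : Set G)) = 6) :
    (∃ K : Subgroup G, K.Normal ∧ K.index = 2 ^ n ∧
      (∀ P : Sylow 2 ↥K, ∃ m : ℕ, 1 ≤ m ∧ Nonempty ((P : Subgroup ↥K) ≃* QuaternionGroup (2 ^ m))) ∧
      (∀ H : Subgroup ↥K, H.index ≠ 2)) ∧
    ∀ Z₀ : Subgroup G, Z₀ ≤ (center (S : Subgroup G)).map (S : Subgroup G).subtype →
      Cfsg.IsWeaklyClosed Z₀ (S : Subgroup G) := by
  have hR : R S e = quatSub (show 1 ≤ n by omega) :=
    le_antisymm (R_le_quatSub S e hn h₁) (six_V S e hn h₂).2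
  refine ⟨⟨Cfsg.pResidual 2 G, inferInstance, ?_, fun P => ?_, pResidual_no_index_two⟩, ?_⟩
  · rw [index_residual S e hn, hR]
    have h := (quatSub (n := n) (show 1 ≤ n by omega)).card_mul_index
    rw [quatSub_card, Wr.card_eq, show 2 * n + 1 = n + 1 + n by ring] at h
    exact Nat.eq_of_mul_eq_mul_left (Nat.two_pow_pos (n + 1)) (h.trans (pow_add 2 (n + 1) n))
  · obtain ⟨e₁⟩ := sylow_inf_normal S (Cfsg.pResidual 2 G) P
    obtain ⟨e₂⟩ := quatSub_equiv hn
    refine ⟨n - 1, by omega, ⟨e₁.trans ((MulEquiv.subgroupCongr ((inf_subgroupOf_left _ _).trans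
      ((residual_subgroupOf S e hn).trans (by rw [hR])))).trans
      (((quatSub (n := n) (show 1 ≤ n by omega)).equivMapOfInjective e.toMonoidHom e.injective).symm.trans e₂))⟩⟩
  · intro Z₀ hZ₀
    refine ⟨hZ₀.trans (map_subtype_le _), fun g hg => ?_⟩
    have hfix : ∀ x ∈ Z₀, g * x * g⁻¹ = x := by
      intro x hx
      obtain ⟨y, hy, rfl⟩ := hZ₀ hx
      have hp : e.symm y ∈ center (Wr n) := by
        rw [mem_center_iff]; intro q
        apply e.injective
        rw [map_mul, map_mul, e.apply_symm_apply]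
        exact mem_center_iff.1 hy (e q)
      have he : emb S e (e.symm y) = (y : G) := congrArg Subtype.val (e.apply_symm_apply y)
      have := conj_center_eq S hn e (zed_isolated S e hn h₁) hp (g := g) (by
        rw [he]; exact hg ⟨_, hx, rfl⟩)
      rwa [he] at this
    ext x
    constructor
    · rintro ⟨w, hw, rfl⟩
      show g * w * g⁻¹ ∈ Z₀
      rwa [hfix w hw]
    · exact fun hx => ⟨x, hx, hfix x hx⟩

/-- Without a subgroup of index two, both automizers are large. -/
theorem six_six_of_no_index_two (hG : ∀ H : Subgroup G, H.index ≠ 2) :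
    (centralizer ((U S e : Subgroup G) : Set G)).relIndex (normalizer (U S e : Set G)) = 6 ∧
      ((V S e) ⊔ centralizer ((V S e : Subgroup G) : Set G)).relIndex (normalizer (V S e : Set G)) = 6 := by
  haveI : Fact (Nat.Prime 2) := ⟨Nat.prime_two⟩
  have htop : R S e = ⊤ := by
    rw [← index_eq_one, ← index_residual S e hn]
    obtain ⟨k, hk⟩ := Cfsg.Lib.Transfer.exists_index_pResidual (p := 2) (G := G)
    rcases k with _ | k
    · rw [hk, pow_zero]
    exfalso
    set K := Cfsg.pResidual 2 G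
    obtain ⟨L, hL⟩ := Sylow.exists_subgroup_card_pow_prime (G := G ⧸ K) 2 (n := k)
      (by rw [← index_eq_card, hk]; exact pow_dvd_pow 2 (Nat.le_succ k))
    refine hG (L.comap (QuotientGroup.mk' K)) ?_
    rw [index_comap_of_surjective _ (QuotientGroup.mk'_surjective K)]
    have h := L.card_mul_index
    rw [hL, ← index_eq_card, hk, pow_succ] at h
    exact Nat.eq_of_mul_eq_mul_left (Nat.two_pow_pos k) h
  constructor
  · refine (dichU S e hn).resolve_left fun h => ?_
    have := R_le_quatSub S e hn h (htop ▸ mem_top (t0 n))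
    change (0 : ZMod (2 ^ n)) + 0 = half n at this
    exact half_ne_zero (show 1 ≤ n by omega) (by rw [← this, add_zero])
  · refine (dichV S e hn).resolve_left fun h => ?_
    exact t_notMem_R S e hn (fun p hp => not_conj_t_base S e hn h hp) (htop ▸ mem_top (t0 n))

end Ambient

/-- The setting of the statements: `U` and `V` in coordinates. -/
theorem exists_coordinates (S : Sylow 2 G) (hS : Cfsg.IsWreathed (S : Subgroup G)) (n : ℕ)
    (hn : Nat.card S = 2 ^ (2 * n + 1)) (A : Subgroup G) (hAS : A ≤ S) (hAab : IsMulCommutative A)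
    (hAcard : Nat.card A = 2 ^ (2 * n)) (Q : Subgroup G) (hQS : Q ≤ S) (eQ : Q ≃* QuaternionGroup 2) :
    2 ≤ n ∧ ∃ e : Wr n ≃* (S : Subgroup G), A = U S e ∧
      Q ⊔ ((center (S : Subgroup G)).map (S : Subgroup G).subtype) = V S e := by
  obtain ⟨hn2, ⟨e₀⟩⟩ := exponent_eq hS n hn
  refine ⟨hn2, ?_⟩
  have hrange : ∀ e : Wr n ≃* (S : Subgroup G), ∀ B : Subgroup G, B ≤ S → B ≤ (emb S e).range := fun e B hB x hx => by
    obtain ⟨p, hp⟩ := exists_emb S e (hB hx)
    exact ⟨p, hp⟩
  set Q₀ := Q.comap (emb S e₀) with hQ₀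
  have hQm : Q₀.map (emb S e₀) = Q := map_comap_eq_self (hrange e₀ Q hQS)
  have eQ₀ : Q₀ ≃* QuaternionGroup 2 :=
    ((Q₀.equivMapOfInjective _ (emb_injective S e₀)).trans (MulEquiv.subgroupCongr hQm)).trans eQ
  obtain ⟨g, hg⟩ := exists_conj_quadV hn2 Q₀ eQ₀
  refine ⟨(MulAut.conj g⁻¹).trans e₀, ?_, ?_⟩
  · set e := (MulAut.conj g⁻¹).trans e₀
    have hA : A.comap (emb S e) = base n := by
      refine existsUnique_abelian hn2 _ ⟨⟨fun a b => Subtype.ext (emb_injective S e ?_)⟩⟩ ?_
      · rw [Subgroup.coe_mul, Subgroup.coe_mul, map_mul, map_mul]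
        haveI := hAab
        exact congrArg Subtype.val (mul_comm' (⟨_, a.2⟩ : A) ⟨_, b.2⟩)
      · rw [← card_map_of_injective (emb_injective S e), map_comap_eq_self (hrange e A hAS), hAcard]
    rw [U, ← hA, map_comap_eq_self (hrange e A hAS)]
  · have hc : (center (Wr n)).map e₀.toMonoidHom = center (S : Subgroup G) := by
      ext s
      obtain ⟨p, rfl⟩ := e₀.surjective s
      rw [show e₀ p ∈ (center (Wr n)).map e₀.toMonoidHom ↔ p ∈ center (Wr n) from
        mem_map_iff_mem (f := e₀.toMonoidHom) e₀.injective]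
      simp only [mem_center_iff]
      refine ⟨fun h s => ?_, fun h q => e₀.injective (by rw [map_mul, map_mul, h])⟩
      obtain ⟨q, rfl⟩ := e₀.surjective s
      rw [← map_mul, ← map_mul, h]
    have hV : Q ⊔ ((center (S : Subgroup G)).map (S : Subgroup G).subtype) = (Q₀ ⊔ center (Wr n)).map (emb S e₀) := by
      rw [Subgroup.map_sup, hQm, ← hc, Subgroup.map_map]
      rfl
    rw [hV, V, ← hg, Subgroup.map_map]
    congr 1
    ext p
    show emb S e₀ p = emb S e₀ (g⁻¹ * (g * p * g⁻¹) * g⁻¹⁻¹)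
    congr 1
    group

/-- Counting three classes. -/
theorem card_three {k : ℕ} (x y w : G) (hx : orderOf x = k) (hy : orderOf y = k) (hw : orderOf w = k)
    (hall : ∀ t : G, orderOf t = k → IsConj t x ∨ IsConj t y ∨ IsConj t w)
    (hxy : ¬ IsConj x y) (hxw : ¬ IsConj x w) (hyw : ¬ IsConj y w) :
    Nat.card {C : ConjClasses G // ∃ t : G, orderOf t = k ∧ ConjClasses.mk t = C} = 3 := by
  have hne : ∀ {a b : G}, ¬ IsConj a b → ConjClasses.mk a ≠ ConjClasses.mk b := fun h e =>
    h (ConjClasses.mk_eq_mk_iff_isConj.1 e)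
  show ({C | ∃ t : G, orderOf t = k ∧ ConjClasses.mk t = C} : Set (ConjClasses G)).ncard = 3
  rw [Set.ncard_eq_three]
  refine ⟨_, _, _, hne hxy, hne hxw, hne hyw, ?_⟩
  ext C
  constructor
  · rintro ⟨t, ht, rfl⟩
    rcases hall t ht with h | h | h <;> simp [ConjClasses.mk_eq_mk_iff_isConj.2 h]
  · rintro (rfl | rfl | rfl) <;> exact ⟨_, by assumption, rfl⟩

end Cfsg.Lib.WreathedFusion
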