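/-
Centralisers of involutions in groups with quasi-dihedral or wreathed Sylow 2-subgroups and no
subgroup of index two.
-/
import Cfsg.Agent.TwoFusion.WreathedFusion
import Cfsg.Agent.TwoFusion.QDFusion
import Cfsg.Agent.PGroups.NormalFour
import Cfsg.Agent.S1203
import Cfsg.Agent.S1205

set_option autoImplicit false
set_option linter.unusedSectionVars false
set_option linter.style.haveILetI false

namespace Cfsg.Lib.QGroupCentralizer

open Subgroup Cfsg.Lib.TwoFusion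
open scoped Pointwise

universe u

variable {G : Type u} [Group G] [Finite G]

/-- The conclusion. -/
def Concl (S : Sylow 2 G) (x : G) : Prop :=
  ∃ R : Sylow 2 ↥(centralizer ({x} : Set G)), Nat.card R = Nat.card S ∧
    (∃ K : Subgroup ↥(centralizer ({x} : Set G)), K.Normal ∧ (∃ a : ℕ, K.index = 2 ^ a) ∧
      (∀ H : Subgroup ↥K, H.index ≠ 2) ∧
      (∀ P : Sylow 2 ↥K, ∃ m : ℕ, 1 ≤ m ∧ Nonempty ((P : Subgroup ↥K) ≃* QuaternionGroup (2 ^ m)))) ∧
    (∀ Z₀ : Subgroup ↥(centralizer ({x} : Set G)),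
      Z₀ ≤ (center (R : Subgroup ↥(centralizer ({x} : Set G)))).map (R : Subgroup ↥(centralizer ({x} : Set G))).subtype →
        Cfsg.IsWeaklyClosed Z₀ (R : Subgroup ↥(centralizer ({x} : Set G))))

open Cfsg.Lib.Wreathed Cfsg.Lib.WreathedFusion in
theorem wreathed (S : Sylow 2 G) (hS : Cfsg.IsWreathed (S : Subgroup G)) (hG : ∀ H : Subgroup G, H.index ≠ 2)
    (x : G) (hx : orderOf x = 2) : Concl S x := by
  obtain ⟨n, hn, -, ⟨e⟩⟩ := exists_equiv hS
  obtain ⟨h₁, h₂⟩ := six_six_of_no_index_two S e hn hG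
  have hxz : IsConj x (emb S e (zed n)) := by
    rcases involution_classes S e hn hx with h | h | h
    · exact h
    · exact h.trans (six_U S e hn h₁).1.symm
    · exact h.trans ((conj_ut_of_six S e hn h₂).symm.trans (six_U S e hn h₁).1.symm)
  obtain ⟨a, ha⟩ := isConj_iff.1 hxz.symm
  let S' : Sylow 2 G := a • S
  let e' : Wr n ≃* (S' : Subgroup G) := e.trans (S.equivSMul a)
  have hem : ∀ p, emb S' e' p = a * emb S e p * a⁻¹ := fun p => rfl
  have hle : (S' : Subgroup G) ≤ centralizer ({x} : Set G) := by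
    intro s hs
    obtain ⟨q, rfl⟩ := exists_emb S' e' hs
    rw [mem_centralizer_singleton_iff, hem, ← ha, conj_mul, conj_mul]
    rw [((center_commute (zed_mem_center hn) q).symm.map (emb S e)).eq]
  let R : Sylow 2 (centralizer ({x} : Set G)) := S'.subtype hle
  let e'' : Wr n ≃* (R : Subgroup (centralizer ({x} : Set G))) := e'.trans (subgroupOfEquivOfLe hle).symm
  have hem' : ∀ p, ((emb R e'' p : centralizer ({x} : Set G)) : G) = emb S' e' p := fun p => rfl
  have hx' : emb S' e' (zed n) = x := (hem _).trans ha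
  have g₁ : (centralizer ((U R e'' : Subgroup (centralizer ({x} : Set G))) : Set (centralizer ({x} : Set G)))).relIndex
      (normalizer (U R e'' : Set (centralizer ({x} : Set G)))) = 2 := by
    refine two_of_not_conj R e'' hn fun hc => ?_
    obtain ⟨c, hc'⟩ := isConj_iff.1 hc
    have h1 : (c : G) * x * (c : G)⁻¹ = emb S' e' (u0 n) := by
      have := congrArg Subtype.val hc'
      rw [Subgroup.coe_mul, Subgroup.coe_mul, Subgroup.coe_inv, hem', hem', hx'] at this
      exact this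
    rw [mem_centralizer_singleton_iff.1 c.2, mul_inv_cancel_right, ← hx'] at h1
    exact u0_ne_zed hn (emb_injective S' e' h1).symm
  have g₂ : ((V R e'') ⊔ centralizer ((V R e'' : Subgroup (centralizer ({x} : Set G))) : Set (centralizer ({x} : Set G)))).relIndex
      (normalizer (V R e'' : Set (centralizer ({x} : Set G)))) = 6 := by
    obtain ⟨g, hg, hgu⟩ := (six_V S' e' hn (six_six_of_no_index_two S' e' hn hG).2).1
    rw [hx'] at hg
    refine six_V_of_conj R e'' hn (p := u0 n) rfl (IsConj.symm (isConj_iff.2 ⟨⟨g, hg⟩, Subtype.ext ?_⟩))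
    rw [Subgroup.coe_mul, Subgroup.coe_mul, Subgroup.coe_inv, hem', hem']
    exact hgu
  obtain ⟨⟨K, hK1, hK2, hK3, hK4⟩, hZ⟩ := quaternion_case R e'' hn g₁ g₂
  exact ⟨R, Nat.card_congr (e''.symm.trans e).toEquiv, ⟨K, hK1, ⟨n, hK2⟩, hK4, hK3⟩, hZ⟩

theorem isQuasiDihedral_congr {A B : Type*} [Group A] [Group B] (e : A ≃* B) (h : Cfsg.IsQuasiDihedral A) :
    Cfsg.IsQuasiDihedral B := by
  obtain ⟨n, hn, hc, x, y, hx, hy, hxy⟩ := h
  exact ⟨n, hn, (Nat.card_congr e.toEquiv).symm.trans hc, e x, e y, by rw [MulEquiv.orderOf_eq, hx],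
    by rw [MulEquiv.orderOf_eq, hy], by rw [← map_inv, ← map_mul, ← map_mul, hxy, map_pow]⟩

/-- A quasi-dihedral Sylow subgroup contains the two subgroups of the analysis. -/
theorem exists_TQ (S : Sylow 2 G) (hS : Cfsg.IsQuasiDihedral (S : Subgroup G)) :
    ∃ T Q : Subgroup G, IsKleinFour T ∧ T ≤ S ∧ Q ≤ S ∧ Nonempty (Q ≃* QuaternionGroup 2) := by
  classical
  obtain ⟨m, a, b, h⟩ := Cfsg.Lib.QD.exists_gen hS
  obtain ⟨h1, h2, h3⟩ := Cfsg.Lib.QD.pows h
  obtain ⟨z, hz⟩ : ∃ z, z = a ^ ((2 : ℤ) ^ (m - 1)) := ⟨_, rfl⟩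
  obtain ⟨w, hw⟩ : ∃ w, w = a ^ ((2 : ℤ) ^ (m - 2)) := ⟨_, rfl⟩
  obtain ⟨q, hqdef⟩ : ∃ q, q = a ^ (2 * (0 : ℤ) + 1) * b := ⟨_, rfl⟩
  have hzo : orderOf z = 2 := hz ▸ Cfsg.Lib.QD.orderOf_z h
  have hbo : orderOf b = 2 := by simpa using Cfsg.Lib.QDFusion.b_order h 0
  have hwo : orderOf w = 4 := hw ▸ Cfsg.Lib.QD.orderOf_w h
  have hww : w * w = z := by rw [hw, hz, ← zpow_add, h2, ← two_mul]
  have hqq : q * q = z := by rw [hqdef, hz]; exact Cfsg.Lib.QDFusion.c_sq h 0
  have hzc : z ∈ center (S : Subgroup G) := hz ▸ Cfsg.Lib.QDFusion.z_central h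
  have hqw : q * w * q⁻¹ = w⁻¹ := by
    rw [hqdef, hw, show a ^ (2 * (0 : ℤ) + 1) * b * a ^ ((2 : ℤ) ^ (m - 2)) * (a ^ (2 * (0 : ℤ) + 1) * b)⁻¹ =
      a ^ (2 * (0 : ℤ) + 1) * (b * a ^ ((2 : ℤ) ^ (m - 2))) * b⁻¹ * (a ^ (2 * (0 : ℤ) + 1))⁻¹ by group,
      Cfsg.Lib.CyclicMax.conj_b h.2, ← mul_assoc, mul_inv_cancel_right, ← zpow_add, ← zpow_neg, ← zpow_add,
      ← zpow_neg, Cfsg.Lib.CyclicMax.zpow_eq_iff h.2, h1, h2, h3]
    exact ⟨-(2 ^ (m - 3)), by ring⟩
  -- the four group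
  have hT : IsKleinFour (closure ({z, b} : Set (S : Subgroup G))) := by
    refine Cfsg.Lib.PGroups.isKleinFour_closure_pair ?_ ?_ ?_ ?_ ?_ (mem_center_iff.1 hzc b).symm
    · rw [← pow_two]; exact orderOf_dvd_iff_pow_eq_one.1 hzo.dvd
    · rw [← pow_two]; exact orderOf_dvd_iff_pow_eq_one.1 hbo.dvd
    · intro h'; rw [h', orderOf_one] at hzo; norm_num at hzo
    · intro h'; rw [h', orderOf_one] at hbo; norm_num at hbo
    · intro h'
      exact h.2.notMem (h' ▸ hz ▸ zpow_mem (mem_zpowers a) _)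
  -- the quaternion group
  have hw4 : orderOf w ∣ 2 * 2 := by rw [hwo]
  let P := Cfsg.Lib.Wreathed.zmodPow w hw4
  have hP : ∀ k : ℤ, P (Multiplicative.ofAdd (k : ZMod (2 * 2))) = w ^ k := fun k =>
    Cfsg.Lib.Wreathed.zmodPow_apply w hw4 k
  have hPq : ∀ i : ZMod (2 * 2), P (Multiplicative.ofAdd i) * q = q * P (Multiplicative.ofAdd (-i)) := by
    intro i
    obtain ⟨k, rfl⟩ := ZMod.intCast_surjective i
    rw [← Int.cast_neg, hP, hP]
    have : q * w ^ (-k) * q⁻¹ = w ^ k := by rw [← conj_zpow, hqw, inv_zpow, zpow_neg, inv_inv]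
    rw [← this]; group
  have hP2 : P (Multiplicative.ofAdd ((2 : ℕ) : ZMod (2 * 2))) = q * q := by
    rw [← Int.cast_natCast, hP, hqq, ← hww, zpow_natCast, pow_two]
  let f : QuaternionGroup 2 → (S : Subgroup G) := fun g => match g with
    | QuaternionGroup.a i => P (Multiplicative.ofAdd i)
    | QuaternionGroup.xa i => q * P (Multiplicative.ofAdd i)
  let φ : QuaternionGroup 2 →* (S : Subgroup G) := MonoidHom.mk' f fun g k => by
    rcases g with i | i <;> rcases k with j | j <;>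
      simp only [f, QuaternionGroup.a_mul_a, QuaternionGroup.a_mul_xa, QuaternionGroup.xa_mul_a,
        QuaternionGroup.xa_mul_xa, ofAdd_add, map_mul]
    · rw [← mul_assoc, hPq, mul_assoc, ← map_mul, ← ofAdd_add, neg_add_eq_sub]
    · rw [mul_assoc]
    · rw [show ((2 : ℕ) : ZMod (2 * 2)) + j - i = (2 : ℕ) + (-i + j) by ring, ofAdd_add, map_mul, hP2,
        ofAdd_add, map_mul, mul_assoc q q, ← mul_assoc q (P _) (P _), ← hPq]
      group
  have hφ : Function.Injective φ := by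
    rw [injective_iff_map_eq_one]
    rintro (i | i) hi <;> obtain ⟨k, rfl⟩ := ZMod.intCast_surjective i
    · have hk : w ^ k = 1 := (hP k).symm.trans hi
      have := orderOf_dvd_iff_zpow_eq_one.2 hk
      rw [hwo] at this
      rw [QuaternionGroup.one_def, (ZMod.intCast_zmod_eq_zero_iff_dvd k (2 * 2)).2 this]
    · exfalso
      have hk : q * w ^ k = 1 := by rw [← hP k]; exact hi
      have hqa : q ∈ zpowers a := by
        rw [eq_inv_of_mul_eq_one_left hk, hw]
        exact inv_mem (zpow_mem (zpow_mem (mem_zpowers a) _) _)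
      rw [hqdef] at hqa
      exact Cfsg.Lib.CyclicMax.notMem_mul h.2 _ hqa
  refine ⟨(closure ({z, b} : Set (S : Subgroup G))).map (S : Subgroup G).subtype,
    φ.range.map (S : Subgroup G).subtype, ?_, map_subtype_le _, map_subtype_le _,
    ⟨(φ.range.equivMapOfInjective _ (S : Subgroup G).subtype_injective).symm.trans (MonoidHom.ofInjective hφ).symm⟩⟩
  have e := (closure ({z, b} : Set (S : Subgroup G))).equivMapOfInjective _ (S : Subgroup G).subtype_injective
  exact ⟨(Nat.card_congr e.toEquiv).symm.trans hT.card_four,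
    (Monoid.exponent_eq_of_mulEquiv e).symm.trans hT.exponent_two⟩

open Cfsg.Lib.QDFusion in
theorem quasiDihedral (S : Sylow 2 G) (hS : Cfsg.IsQuasiDihedral (S : Subgroup G))
    (hG : ∀ H : Subgroup G, H.index ≠ 2) (x : G) (hx : orderOf x = 2) : Concl S x := by
  haveI : Fact (Nat.Prime 2) := ⟨Nat.prime_two⟩
  -- one class of involutions
  have hsix : ∀ (S : Sylow 2 G), Cfsg.IsQuasiDihedral (S : Subgroup G) → ∀ T Q : Subgroup G,
      IsKleinFour T → T ≤ S → Q ≤ S → Nonempty (Q ≃* QuaternionGroup 2) → ∀ _D : Data S T Q,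
      (centralizer (T : Set G)).relIndex (normalizer (T : Set G)) = 6 ∧
        (Q ⊔ centralizer (Q : Set G)).relIndex (normalizer (Q : Set G)) = 6 := by
    rintro S hS T Q hT hTS hQS ⟨eQ⟩ D
    obtain ⟨hd₁, hd₂⟩ := Cfsg.Agent.S1203.result S hS T hT hTS Q hQS eQ
    refine ⟨hd₁.resolve_left fun h => ?_, hd₂.resolve_left fun h => ?_⟩
    · obtain ⟨M, -, hM, -⟩ := D.exists_index_two_t hS h
      exact hG M hM
    · obtain ⟨M, -, hM, -⟩ := D.exists_index_two_q hS h
      exact hG M hM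
  obtain ⟨T, Q, hT, hTS, hQS, ⟨eQ⟩⟩ := exists_TQ S hS
  obtain ⟨D⟩ := exists_data hS hT hTS hQS eQ
  have hxz : IsConj x D.z := (D.inv_class hx).elim id fun h =>
    h.trans (D.isConj_t_z (hsix S hS T Q hT hTS hQS ⟨eQ⟩ D).1)
  obtain ⟨a, ha⟩ := isConj_iff.1 hxz.symm
  let S' : Sylow 2 G := a • S
  have hS' : Cfsg.IsQuasiDihedral (S' : Subgroup G) := isQuasiDihedral_congr (S.equivSMul a) hS
  have hx' : x ∈ (S' : Subgroup G) ∧ ∀ s ∈ (S' : Subgroup G), s * x = x * s := by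
    have hS'm : ∀ s ∈ (S : Subgroup G), a * s * a⁻¹ ∈ (S' : Subgroup G) := fun s hs =>
      (S.equivSMul a ⟨s, hs⟩).2
    refine ⟨ha ▸ hS'm _ (D.T_le D.z_in), fun s hs => ?_⟩
    obtain ⟨⟨s₀, hs₀⟩, he⟩ := (S.equivSMul a).surjective ⟨s, hs⟩
    have he' : a * s₀ * a⁻¹ = s := congrArg Subtype.val he
    rw [← he', ← ha, conj_mul, conj_mul, D.z_commute hs₀]
  obtain ⟨T', Q', hT', hT'S, hQ'S, ⟨eQ'⟩⟩ := exists_TQ S' hS'
  obtain ⟨D'⟩ := exists_data hS' hT' hT'S hQ'S eQ'
  have hD'z : D'.z = x := by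
    rcases center_eq D'.gen (c := ⟨x, hx'.1⟩) (mem_center_iff.2 fun g => Subtype.ext (hx'.2 g g.2)) with h | h
    · rw [show x = ((1 : (S' : Subgroup G)) : G) from congrArg Subtype.val h, Subgroup.coe_one, orderOf_one] at hx
      norm_num at hx
    · exact (congrArg Subtype.val h).symm
  obtain ⟨-, h₂⟩ := hsix S' hS' T' Q' hT' hT'S hQ'S ⟨eQ'⟩ D'
  -- the centraliser
  have hle : (S' : Subgroup G) ≤ centralizer ({x} : Set G) := fun s hs =>
    mem_centralizer_singleton_iff.2 (hx'.2 s hs)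
  set C := centralizer ({x} : Set G)
  let R : Sylow 2 C := S'.subtype hle
  have hR : Cfsg.IsQuasiDihedral (R : Subgroup C) := isQuasiDihedral_congr (subgroupOfEquivOfLe hle).symm hS'
  set T'' := T'.subgroupOf C
  set Q'' := Q'.subgroupOf C
  have eT := subgroupOfEquivOfLe (hT'S.trans hle)
  have hT'' : IsKleinFour T'' := ⟨(Nat.card_congr eT.toEquiv).trans hT'.card_four,
    (Monoid.exponent_eq_of_mulEquiv eT).trans hT'.exponent_two⟩
  let eQ'' : Q'' ≃* QuaternionGroup 2 := (subgroupOfEquivOfLe (hQ'S.trans hle)).trans eQ'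
  have hT''R : T'' ≤ R := fun c hc => hT'S hc
  have hQ''R : Q'' ≤ R := fun c hc => hQ'S hc
  obtain ⟨D''⟩ := exists_data hR hT'' hT''R hQ''R eQ''
  have hx2 : (⟨x, hle hx'.1⟩ : C) ∈ center C := mem_center_iff.2 fun c =>
    Subtype.ext (mem_centralizer_singleton_iff.1 c.2)
  have hD''z : D''.z = ⟨x, hle hx'.1⟩ := by
    rcases center_eq D''.gen (c := ⟨⟨x, hle hx'.1⟩, hx'.1⟩)
      (mem_center_iff.2 fun g => Subtype.ext (mem_center_iff.1 hx2 g)) with h | h
    · have h' := congrArg Subtype.val (congrArg Subtype.val h)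
      simp only [Subgroup.coe_one] at h'
      rw [h', orderOf_one] at hx; norm_num at hx
    · exact (congrArg Subtype.val h).symm
  obtain ⟨d₁, d₂⟩ := Cfsg.Agent.S1203.result R hR T'' hT'' hT''R Q'' hQ''R eQ''
  have g₁ : (centralizer (T'' : Set C)).relIndex (normalizer (T'' : Set C)) = 2 := by
    refine d₁.resolve_right fun h => ?_
    obtain ⟨c, hc⟩ := isConj_iff.1 (D''.isConj_t_z h).symm
    rw [hD''z, mem_center_iff.1 hx2 c, mul_inv_cancel_right, ← hD''z] at hc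
    exact Cfsg.Lib.CyclicMax.ne_b D''.gen.2 _ _ (Subtype.ext hc)
  have g₂ : (Q'' ⊔ centralizer (Q'' : Set C)).relIndex (normalizer (Q'' : Set C)) = 6 := by
    refine d₂.resolve_left fun h => ?_
    haveI := Cfsg.Lib.WreathedFusion.sup_centralizer_normal Q'
    obtain ⟨θ, hθ, hodd, hθK⟩ := exists_odd_of_relIndex_six
      (sup_le le_normalizer (centralizer_le_normalizer _)) h₂
    -- `θ` fixes the involution of `Q'`
    have hxQ : x ∈ Q' := by
      rw [← hD'z, ← D'.wqw.2.2.2]; exact mul_mem D'.w_mem D'.w_mem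
    have hθC : θ ∈ C := by
      have hu : ∀ u v : QuaternionGroup 2, u * u = 1 → u ≠ 1 → v * v = 1 → v ≠ 1 → u = v := by decide
      have hm := (mem_normalizer_iff.1 hθ x).1 hxQ
      obtain ⟨hxx, hx1⟩ := orderOf_eq_prime_iff.1 hx
      rw [pow_two] at hxx
      have := hu (eQ' ⟨x, hxQ⟩) (eQ' ⟨_, hm⟩)
        (by rw [← map_mul, MulEquiv.map_eq_one_iff]; exact Subtype.ext hxx)
        (by rw [Ne, MulEquiv.map_eq_one_iff]; exact fun h' => hx1 (congrArg Subtype.val h'))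
        (by rw [← map_mul, MulEquiv.map_eq_one_iff]; refine Subtype.ext ?_
            show θ * x * θ⁻¹ * (θ * x * θ⁻¹) = 1
            rw [conj_mul, hxx]; group)
        (by rw [Ne, MulEquiv.map_eq_one_iff]; exact fun h' => hx1 (conj_eq_one_iff.1 (congrArg Subtype.val h')))
      have := congrArg Subtype.val (eQ'.injective this)
      exact mem_centralizer_singleton_iff.2 (mul_inv_eq_iff_eq_mul.1 this.symm)
    set θ' : C := ⟨θ, hθC⟩
    have hθ' : θ' ∈ normalizer (Q'' : Set C) := by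
      rw [mem_normalizer_iff]
      exact fun c => mem_normalizer_iff.1 hθ c
    have hmap : ∀ c : C, c ∈ Q'' ⊔ centralizer (Q'' : Set C) → (c : G) ∈ Q' ⊔ centralizer (Q' : Set G) := by
      intro c hc
      have hle' : Q'' ⊔ centralizer (Q'' : Set C) ≤ (Q' ⊔ centralizer (Q' : Set G)).subgroupOf C := by
        refine sup_le (fun d hd => mem_sup_left hd) fun d hd => mem_sup_right (mem_centralizer_iff.2 fun y hy => ?_)
        exact congrArg Subtype.val (mem_centralizer_iff.1 hd ⟨y, hle (hQ'S hy)⟩ hy)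
      exact hle' hc
    refine hθK (hmap θ' ?_)
    have hsq : ∀ n ∈ normalizer (Q'' : Set C), n ^ 2 ∈ Q'' ⊔ centralizer (Q'' : Set C) := fun n hn => by
      have := sq_mem_of_index_two (H := (Q'' ⊔ centralizer (Q'' : Set C)).subgroupOf (normalizer (Q'' : Set C)))
        h ⟨n, hn⟩
      exact this
    obtain ⟨k, hk⟩ := hodd
    have hθ1 : θ' ^ (2 * k + 1) = 1 := by
      apply Subtype.ext
      rw [SubgroupClass.coe_pow, ← hk]
      exact pow_orderOf_eq_one θ
    have h2 := pow_mem (hsq θ' hθ') (k + 1)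
    rwa [← pow_mul, show 2 * (k + 1) = (2 * k + 1) + 1 by ring, pow_succ, hθ1, one_mul] at h2
  obtain ⟨⟨K, hK1, hK2, hK3, hK4⟩, hZ, -, -⟩ := Cfsg.Agent.S1205.result R hR T'' hT'' hT''R Q'' hQ''R eQ'' g₁ g₂
  refine ⟨R, Nat.card_congr ((subgroupOfEquivOfLe hle).trans (S.equivSMul a).symm).toEquiv,
    ⟨K, hK1, ⟨1, by rw [hK2, pow_one]⟩, hK4, hK3⟩, fun Z₀ hZ₀ => ?_⟩
  rcases eq_or_ne Z₀ ((center (R : Subgroup C)).map (R : Subgroup C).subtype) with h | h
  · rw [h]; exact hZ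
  have hbot : Z₀ = ⊥ := by
    rw [Subgroup.eq_bot_iff_forall]
    intro y hy
    by_contra hy1
    refine h (le_antisymm hZ₀ ?_)
    obtain ⟨y₀, hy₀, hye⟩ := hZ₀ hy
    rintro _ ⟨c, hc, rfl⟩
    rcases center_eq D''.gen hy₀ with e₁ | e₁
    · exact absurd (by rw [← hye, e₁]; rfl) hy1
    rcases center_eq D''.gen hc with e₂ | e₂
    · rw [e₂]; exact Z₀.one_mem
    · rw [e₂, ← e₁, hye]; exact hy
  rw [hbot]
  exact ⟨bot_le, fun g _ => Subgroup.map_bot _⟩

end Cfsg.Lib.QGroupCentralizer
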