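/-
A group with an involution whose centraliser has a Sylow 2-subgroup of type (dihedral or quasidihedral) × four group,
the four group sharing this Sylow subgroup, has sectional 2-rank at most four.
-/
import Cfsg.Agent.PGroups.Basic
import Cfsg.Prelude.Def_CaseTheorems
import Cfsg.Prelude.Def_TwoFusion

set_option autoImplicit false

namespace Cfsg.Lib.DihedralByFour

open Subgroup
open scoped Pointwise

variable {G : Type*} [Group G] [Finite G]

/-! ### Counting -/

theorem card_le_of_fibres {A X : Type*} [Finite A] [Finite X] (f : A → X) (c : ℕ)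
    (h : ∀ a₀ : A, Nat.card {a : A // f a = f a₀} ≤ c) : Nat.card A ≤ Nat.card X * c := by
  classical
  haveI := Fintype.ofFinite A
  haveI := Fintype.ofFinite X
  have h1 := Nat.card_congr (Equiv.sigmaFiberEquiv f)
  rw [← h1, Nat.card_sigma]
  calc ∑ x : X, Nat.card {a : A // f a = x} ≤ ∑ _x : X, c := by
        refine Finset.sum_le_sum fun x _ => ?_
        rcases isEmpty_or_nonempty {a : A // f a = x} with he | ⟨⟨a₀, rfl⟩⟩
        · simp
        · exact h a₀
    _ = Nat.card X * c := by rw [Finset.sum_const, smul_eq_mul, Finset.card_univ, Nat.card_eq_fintype_card]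

/-- A map on a subgroup `U` whose fibres lie in translates of a set `C`. -/
theorem card_subgroup_le {X : Type*} [Finite X] {U : Subgroup G} (f : U → X) (C : Set G)
    (h : ∀ a b : U, f a = f b → (a : G)⁻¹ * b ∈ C) : Nat.card U ≤ Nat.card X * Nat.card C := by
  refine card_le_of_fibres f _ fun a₀ => ?_
  refine Nat.card_le_card_of_injective (fun a => (⟨((a₀ : U) : G)⁻¹ * ((a.1 : U) : G), h a₀ a.1 a.2.symm⟩ : C)) ?_
  intro a b hab
  exact Subtype.ext (Subtype.ext (mul_left_cancel (Subtype.ext_iff.1 hab)))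

theorem two_pow_of_pgroup {U S : Subgroup G} (hS : IsPGroup 2 S) (hU : U ≤ S) : ∃ k, Nat.card U = 2 ^ k :=
  haveI : Fact (Nat.Prime 2) := ⟨Nat.prime_two⟩
  (hS.to_le hU).exists_card_eq

theorem conj_card (U : Subgroup G) (g : G) : Nat.card (U.map (MulAut.conj g).toMonoidHom) = Nat.card U :=
  (Nat.card_congr (Subgroup.equivMapOfInjective U _ (MulAut.conj g).injective).toEquiv).symm

theorem mem_conj {U : Subgroup G} {g x : G} : x ∈ U.map (MulAut.conj g).toMonoidHom ↔ g⁻¹ * x * g ∈ U := by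
  rw [Subgroup.mem_map]
  constructor
  · rintro ⟨u, hu, rfl⟩
    simpa [mul_assoc] using hu
  · intro h
    exact ⟨_, h, by simp [mul_assoc]⟩

theorem conj_eq_self_iff {U : Subgroup G} {g : G} :
    U.map (MulAut.conj g).toMonoidHom = U ↔ g ∈ normalizer (U : Set G) := by
  constructor
  · intro h
    refine Subgroup.mem_normalizer_iff.2 fun x => ?_
    conv_rhs => rw [← h]
    rw [mem_conj]
    simp [mul_assoc]
  · intro h
    ext x
    rw [mem_conj]
    conv_rhs => rw [show x = g * (g⁻¹ * x * g) * g⁻¹ by group]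
    exact (Subgroup.mem_normalizer_iff.1 h _)

/-- Normalisers grow inside a 2-group. -/
theorem exists_normalizing {S N : Subgroup G} (hS : IsPGroup 2 S) (hN : N ≤ S) (hne : N ≠ S) :
    ∃ h ∈ S, h ∈ normalizer (N : Set G) ∧ h ∉ N := by
  haveI : Fact (Nat.Prime 2) := ⟨Nat.prime_two⟩
  haveI := hS.isNilpotent
  have hlt : N.subgroupOf S < ⊤ := lt_top_iff_ne_top.2 fun h => hne (le_antisymm hN (subgroupOf_eq_top.1 h))
  obtain ⟨h, hh, hhN⟩ := SetLike.exists_of_lt (Group.normalizerCondition_of_isNilpotent _ hlt)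
  refine ⟨h, h.2, Subgroup.mem_normalizer_iff.2 fun x => ⟨fun hx => ?_, fun hx => ?_⟩, fun hc => hhN (mem_subgroupOf.2 hc)⟩
  · simpa [mem_subgroupOf] using (Subgroup.mem_normalizer_iff.1 hh ⟨x, hN hx⟩).1 (mem_subgroupOf.2 hx)
  · have hxS : x ∈ S := by
      have := mul_mem (mul_mem (inv_mem h.2) (hN hx)) h.2
      simpa [mul_assoc] using this
    simpa [mem_subgroupOf] using (Subgroup.mem_normalizer_iff.1 hh ⟨x, hxS⟩).2 (by simpa [mem_subgroupOf] using hx)

/-- A subgroup contained in the union of two subgroups lies in one of them. -/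
theorem le_or_le {U A B : Subgroup G} (h : ∀ u ∈ U, u ∈ A ∨ u ∈ B) : U ≤ A ∨ U ≤ B := by
  by_contra hcon
  push Not at hcon
  obtain ⟨a, haU, ha⟩ := SetLike.not_le_iff_exists.1 hcon.1
  obtain ⟨b, hbU, hb⟩ := SetLike.not_le_iff_exists.1 hcon.2
  have ha' : a ∈ B := (h a haU).resolve_left ha
  have hb' : b ∈ A := (h b hbU).resolve_right hb
  rcases h (a * b) (mul_mem haU hbU) with h1 | h1
  · exact ha ((mul_mem_cancel_right hb').1 h1)
  · exact hb ((mul_mem_cancel_left ha').1 h1)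

/-- The rank condition on a 2-group `S`, in terms of squares. -/
def SquareBound (S : Subgroup G) : Prop :=
  ∀ K M : Subgroup G, K ≤ S → M ≤ K → (∀ k ∈ K, k * k ∈ M) → Nat.card K ≤ 16 * Nat.card M

theorem comm_mem_of_squares {K M : Subgroup G} (h : ∀ k ∈ K, k * k ∈ M) {a b : G} (ha : a ∈ K) (hb : b ∈ K) :
    a * b * a⁻¹ * b⁻¹ ∈ M := by
  have e : a * b * a⁻¹ * b⁻¹ = (a * a) * ((a⁻¹ * b) * (a⁻¹ * b)) * (b⁻¹ * b⁻¹) := by group
  rw [e]
  exact mul_mem (mul_mem (h a ha) (h _ (mul_mem (inv_mem ha) hb))) (h _ (inv_mem hb))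

theorem sectional_of_squareBound (S : Sylow 2 G) (hS : SquareBound (S : Subgroup G)) :
    Cfsg.SectionalPRankLE 2 4 G := by
  classical
  haveI : Fact (Nat.Prime 2) := ⟨Nat.prime_two⟩
  intro H N _ A hAc hA2
  set q := QuotientGroup.mk' N
  set K : Subgroup H := A.comap q
  obtain ⟨P⟩ : Nonempty (Sylow 2 K) := inferInstance
  -- the image of `P` is all of `A`
  let f : K →* A := { toFun := fun k => ⟨q k, k.2⟩, map_one' := Subtype.ext (map_one q), map_mul' := fun a b => Subtype.ext (map_mul q _ _) }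
  have hf : Function.Surjective f := fun a => by
    obtain ⟨x, hx⟩ := QuotientGroup.mk'_surjective N (a : H ⧸ N)
    exact ⟨⟨x, show q x ∈ A by rw [hx]; exact a.2⟩, Subtype.ext hx⟩
  have hA : IsPGroup 2 A := fun a => ⟨1, Subtype.ext (by simpa using hA2 a a.2)⟩
  have hmap : (P : Subgroup K).map f = ⊤ := by
    have h1 : ¬ 2 ∣ ((P : Subgroup K).map f).index := fun h =>
      P.not_dvd_index (h.trans (Subgroup.index_map_dvd _ hf))
    obtain ⟨n, hn⟩ := hA.index ((P : Subgroup K).map f)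
    rcases n with _ | n
    · exact Subgroup.index_eq_one.1 (by rw [hn, pow_zero])
    · exact absurd (hn ▸ dvd_pow_self 2 n.succ_ne_zero) h1
  let ι : K →* G := H.subtype.comp K.subtype
  have hι : Function.Injective ι := Subtype.val_injective.comp Subtype.val_injective
  have hP : IsPGroup 2 ((P : Subgroup K).map ι) := P.isPGroup'.map ι
  obtain ⟨g, hg⟩ : ∃ g : G, ((P : Subgroup K).map ι).map (MulAut.conj g).toMonoidHom ≤ (S : Subgroup G) := by
    obtain ⟨Q, hQ⟩ := hP.exists_le_sylow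
    obtain ⟨g, hg⟩ := MulAction.exists_smul_eq G Q S
    refine ⟨g, ?_⟩
    rw [← hg]
    exact Subgroup.map_mono hQ
  let φ : K →* G := (MulAut.conj g).toMonoidHom.comp ι
  have hφ : Function.Injective φ := (MulAut.conj g).injective.comp hι
  set M : Subgroup K := (P : Subgroup K) ⊓ f.ker
  have h2 := hS ((P : Subgroup K).map φ) (M.map φ) (by rw [← Subgroup.map_map]; exact hg)
    (Subgroup.map_mono inf_le_left) (by
      rintro _ ⟨k, hk, rfl⟩
      refine ⟨k * k, ⟨mul_mem hk hk, ?_⟩, map_mul φ k k⟩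
      show f (k * k) = 1
      rw [map_mul]
      exact Subtype.ext (by simpa [pow_two] using hA2 (f k) (f k).2))
  rw [← Nat.card_congr (Subgroup.equivMapOfInjective _ φ hφ).toEquiv,
    ← Nat.card_congr (Subgroup.equivMapOfInjective _ φ hφ).toEquiv] at h2
  have h3 : Nat.card M * Nat.card A = Nat.card (P : Subgroup K) := by
    have e1 := Subgroup.card_mul_index (f.ker.subgroupOf (P : Subgroup K))
    have e2 : f.ker.subgroupOf (P : Subgroup K) = (f.comp (P : Subgroup K).subtype).ker := (MonoidHom.comap_ker _ _)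
    have e3 : Nat.card (f.ker.subgroupOf (P : Subgroup K)) = Nat.card M := by
      rw [← Subgroup.inf_subgroupOf_right f.ker, inf_comm]
      exact Nat.card_congr (Subgroup.subgroupOfEquivOfLe inf_le_left).toEquiv
    have e4 : (f.ker.subgroupOf (P : Subgroup K)).index = Nat.card A := by
      rw [e2, Subgroup.index_ker, MonoidHom.range_eq_map, ← Subgroup.map_map, ← MonoidHom.range_eq_map,
        Subgroup.range_subtype, hmap, Subgroup.card_top]
    rw [e3, e4] at e1
    exact e1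
  have hM : 0 < Nat.card M := Nat.card_pos
  show Nat.card A ≤ 2 ^ 4
  nlinarith [h2, h3, hM]

/-! ### The non-abelian case -/

/-- `D` has a cyclic subgroup `⟨x⟩` of index two, of order `2^n ≥ 4`, and `y` acts with small fixed points. -/
structure CyclicByTwo (D : Subgroup G) (x y : G) (n : ℕ) : Prop where
  hn : 2 ≤ n
  hx : x ∈ D
  hy : y ∈ D
  order : orderOf x = 2 ^ n
  cover : ∀ d ∈ D, d ∈ zpowers x ∨ d * y⁻¹ ∈ zpowers x
  small : ∀ c ∈ zpowers x, y * c = c * y → c * c = 1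

/-- Main theorem when `D` is non-abelian: then `T` is a Sylow 2-subgroup. -/
theorem eq_of_nonabelian {S T D B : Subgroup G} {x y : G} {n : ℕ} (hS : IsPGroup 2 S) (hTS : T ≤ S)
    (hD : CyclicByTwo D x y n) (hprod : Cfsg.IsInternalDirectProduct D B T)
    (hB4 : Nat.card B = 4) (hB2 : ∀ b ∈ B, b * b = 1)
    (hC : ∀ b ∈ B, b ≠ 1 → ∀ s ∈ S, s * b = b * s → s ∈ T) : S = T ∧ SquareBound T := by
  obtain ⟨hDT, hBT, hcom, hdis, hsup⟩ := hprod
  have hdec : ∀ t ∈ T, ∃ d ∈ D, ∃ b ∈ B, d * b = t := by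
    intro t ht
    rw [← hsup, ← SetLike.mem_coe, Subgroup.coe_mul_of_left_le_normalizer_right D B (fun d hd => by
      refine Subgroup.mem_normalizer_iff.2 fun b => ⟨fun hb => ?_, fun hb => ?_⟩
      · rwa [hcom d hd b hb, mul_inv_cancel_right]
      · have := hcom d hd _ hb
        have e : d * b * d⁻¹ = b := by
          have := mul_left_cancel (a := d) (b := d * b * d⁻¹) (c := b) (by rw [this]; group)
          exact this
        rwa [e] at hb)] at ht
    obtain ⟨d, hd, b, hb, rfl⟩ := Set.mem_mul.1 ht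
    exact ⟨d, hd, b, hb, rfl⟩
  have hBc : ∀ b ∈ B, ∀ t ∈ T, t * b = b * t := by
    intro b hb t ht
    obtain ⟨d, hd, b', hb', rfl⟩ := hdec t ht
    have e : b' * b = b * b' := by
      rw [← inv_eq_of_mul_eq_one_right (hB2 _ (mul_mem hb' hb)), mul_inv_rev,
        inv_eq_of_mul_eq_one_right (hB2 _ hb'), inv_eq_of_mul_eq_one_right (hB2 _ hb)]
    rw [mul_assoc, e, ← mul_assoc, hcom d hd b hb, mul_assoc]
  -- the involution of `⟨x⟩`
  have hn1 : n - 1 + 1 = n := by have := hD.hn; omega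
  set z : G := x ^ (2 ^ (n - 1)) with hz
  have hzo : orderOf z = 2 := by
    rw [hz, orderOf_pow' _ (by positivity), hD.order, Nat.gcd_eq_right (Nat.pow_dvd_pow 2 (Nat.sub_le n 1)),
      Nat.pow_div (Nat.sub_le n 1) (by norm_num), show n - (n - 1) = 1 by omega, pow_one]
  have hz2 : z * z = 1 := by rw [← pow_two, ← hzo, pow_orderOf_eq_one]
  have hz1 : z ≠ 1 := fun h => by simp [h] at hzo
  have huniq : ∀ c ∈ zpowers x, c * c = 1 → c = 1 ∨ c = z := by
    intro c hc hcc
    obtain ⟨i, rfl⟩ := Subgroup.mem_zpowers_iff.1 hc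
    rw [← zpow_add, ← orderOf_dvd_iff_zpow_eq_one, hD.order, ← two_mul] at hcc
    have h1 : ((2 : ℤ) ^ (n - 1)) ∣ i := by
      have h2 : (2 : ℤ) * 2 ^ (n - 1) ∣ 2 * i := by
        rw [← pow_succ', hn1]; exact_mod_cast hcc
      exact Int.dvd_of_mul_dvd_mul_left (by norm_num) h2
    obtain ⟨j, rfl⟩ := h1
    have h3 : x ^ ((2 : ℤ) ^ (n - 1) * j) = z ^ j := by
      rw [zpow_mul, hz]; norm_cast
    rw [h3, ← zpow_mod_orderOf, hzo]
    rcases Int.emod_two_eq_zero_or_one j with h | h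
    · exact Or.inl (by norm_num [h])
    · exact Or.inr (by norm_num [h])
  -- centre of D
  have hyx : y * x ≠ x * y := by
    intro h
    have h1 := hD.small x (mem_zpowers x) h
    have h2 : orderOf x ∣ 2 := orderOf_dvd_of_pow_eq_one (by rw [pow_two, h1])
    rw [hD.order] at h2
    have := Nat.le_of_dvd (by norm_num) h2
    have := Nat.pow_le_pow_right (show 1 ≤ 2 by norm_num) hD.hn
    omega
  have hcent : ∀ d ∈ D, d * x = x * d → d * y = y * d → d * d = 1 ∧ (d = 1 ∨ d = z) := by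
    intro d hd hdx hdy
    rcases hD.cover d hd with h | h
    · have := hD.small d h hdy.symm
      exact ⟨this, huniq d h this⟩
    · exfalso
      obtain ⟨i, hi⟩ := Subgroup.mem_zpowers_iff.1 h
      have hd' : d = x ^ i * y := by rw [hi]; group
      apply hyx
      rw [hd'] at hdx
      have hc : x ^ i * x = x * x ^ i := (Commute.refl x).zpow_left i |>.eq
      apply mul_left_cancel (a := x ^ i)
      calc x ^ i * (y * x) = x * (x ^ i * y) := by rw [← mul_assoc, hdx]
        _ = x ^ i * (x * y) := by rw [← mul_assoc, ← hc, mul_assoc]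
  have hsq : ∃ u ∈ T, u * u = z := by
    refine ⟨x ^ (2 ^ (n - 2)), pow_mem (hDT hD.hx) _, ?_⟩
    rw [← pow_add, hz, show n - 1 = (n - 2) + 1 by have := hD.hn; omega, pow_succ, mul_two]
  have hzD : z ∈ D := pow_mem hD.hx _
  -- T is self-normalising in S
  have key : ∀ g ∈ S, g ∈ normalizer (T : Set G) → g * g ∈ T → g ∈ T := by
    intro g hgS hgN hgg
    have hconj : ∀ t ∈ T, g * t * g⁻¹ ∈ T := fun t ht => (Subgroup.mem_normalizer_iff.1 hgN t).1 ht
    have hcentral : ∀ e : G, (∀ t ∈ T, t * e = e * t) → ∀ t ∈ T, t * (g * e * g⁻¹) = (g * e * g⁻¹) * t := by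
      intro e he t ht
      have h1 : g⁻¹ * t * g ∈ T := by
        have := (Subgroup.mem_normalizer_iff.1 (inv_mem hgN) t).1 ht
        rwa [inv_inv] at this
      calc t * (g * e * g⁻¹) = g * ((g⁻¹ * t * g) * e) * g⁻¹ := by group
        _ = g * (e * (g⁻¹ * t * g)) * g⁻¹ := by rw [he _ h1]
        _ = (g * e * g⁻¹) * t := by group
    have hdcase : ∀ e ∈ T, (∀ t ∈ T, t * e = e * t) → e * e = 1 → ∃ d, (d = 1 ∨ d = z) ∧ ∃ b ∈ B, d * b = e := by
      intro e he hec he2
      obtain ⟨d, hd, b, hb, rfl⟩ := hdec e he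
      have h1 : ∀ w ∈ D, d * w = w * d := by
        intro w hw
        have h2 := hec w (hDT hw)
        apply mul_right_cancel (b := b)
        calc d * w * b = d * b * w := by rw [mul_assoc, hcom w hw b hb, mul_assoc]
          _ = w * d * b := by rw [← h2, mul_assoc]
      exact ⟨d, (hcent d hd (h1 x hD.hx) (h1 y hD.hy)).2, b, hb, rfl⟩
    have hzc : ∀ t ∈ T, t * z = z * t := by
      intro t ht
      obtain ⟨d, hd, b, hb, rfl⟩ := hdec t ht
      have hdz : d * z = z * d := by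
        rcases hD.cover d hd with h | h
        · exact Subgroup.mul_comm_of_mem_isMulCommutative (zpowers x) h (pow_mem (mem_zpowers x) _)
        · obtain ⟨i, hi⟩ := Subgroup.mem_zpowers_iff.1 h
          have hyz : y * z = z * y := by
            have h1 : y * z * y⁻¹ ∈ D := mul_mem (mul_mem hD.hy hzD) (inv_mem hD.hy)
            have h2 : orderOf (y * z * y⁻¹) = 2 := by
              rw [← hzo]; exact (MulEquiv.orderOf_eq (MulAut.conj y) z)
            rcases hD.cover _ h1 with h3 | h3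
            · rcases huniq _ h3 (by rw [← pow_two, ← h2, pow_orderOf_eq_one]) with h4 | h4
              · rw [h4, orderOf_one] at h2; omega
              · exact mul_inv_eq_iff_eq_mul.1 h4
            · exfalso
              have h5 : (y * z * y⁻¹) * y⁻¹ ∈ zpowers x := h3
              have h6 : y * z * y⁻¹ ^ 2 ∈ zpowers x := by rw [pow_two, ← mul_assoc]; exact h5
              rcases hD.cover (y * y) (mul_mem hD.hy hD.hy) with h7 | h7
              · have h8 : y * z ∈ zpowers x := by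
                  have := mul_mem h6 h7
                  simpa [pow_two, mul_assoc] using this
                have h9 : y ∈ zpowers x := (mul_mem_cancel_right (pow_mem (mem_zpowers x) _)).1 h8
                exact hyx (Subgroup.mul_comm_of_mem_isMulCommutative (zpowers x) h9 (mem_zpowers x))
              · rw [mul_assoc, mul_inv_cancel, mul_one] at h7
                exact hyx (Subgroup.mul_comm_of_mem_isMulCommutative (zpowers x) h7 (mem_zpowers x))
          have hd' : d = x ^ i * y := by rw [hi]; group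
          rw [hd', mul_assoc, hyz, ← mul_assoc, ← mul_assoc]
          congr 1
          exact ((Commute.refl x).zpow_left i).pow_right _ |>.eq
      rw [mul_assoc, ← hcom z hzD b hb, ← mul_assoc, hdz, mul_assoc]
    have hzfix : g * z * g⁻¹ = z := by
      obtain ⟨u, hu, huz⟩ := hsq
      obtain ⟨d, hd, b, hb, hdb⟩ := hdec _ (hconj u hu)
      have h1 : g * z * g⁻¹ = d * d := by
        rw [← huz, show g * (u * u) * g⁻¹ = (g * u * g⁻¹) * (g * u * g⁻¹) by group, ← hdb,
          mul_assoc, ← mul_assoc b, ← hcom d hd b hb, mul_assoc, hB2 b hb, mul_one]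
      have h2 : ∀ w ∈ D, d * d * w = w * (d * d) := fun w hw => by
        rw [← h1]; exact (hcentral z hzc w (hDT hw)).symm
      rcases (hcent _ (mul_mem hd hd) (h2 x hD.hx) (h2 y hD.hy)).2 with h3 | h3
      · exfalso
        rw [h3] at h1
        exact hz1 (by
          have := congrArg (fun w => g⁻¹ * w * g) h1
          simpa [mul_assoc] using this)
      · rw [h1, h3]
    by_contra hgT
    have hz' : ∀ b ∈ B, b ≠ 1 → g * b * g⁻¹ = z * b := by
      intro b hb hb1
      obtain ⟨d, hd, b', hb', hdb⟩ := hdcase _ (hconj b (hBT hb)) (hcentral b (hBc b hb)) (by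
        rw [show (g * b * g⁻¹) * (g * b * g⁻¹) = g * (b * b) * g⁻¹ by group, hB2 b hb]; group)
      have hdd : d * d = 1 := by rcases hd with rfl | rfl <;> simp [hz2]
      have hgd : g * d * g⁻¹ = d := by rcases hd with rfl | rfl <;> simp [hzfix]
      have hdD : d ∈ D := by rcases hd with rfl | rfl; exacts [one_mem _, hzD]
      have hggb : g * (g * b * g⁻¹) * g⁻¹ = b := by
        rw [show g * (g * b * g⁻¹) * g⁻¹ = g * g * b * (g * g)⁻¹ by group, hBc b hb _ hgg, mul_inv_cancel_right]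
      have hgb' : g * b' * g⁻¹ = d * b := by
        have e1 : g * (g * b * g⁻¹) * g⁻¹ = (g * d * g⁻¹) * (g * b' * g⁻¹) := by rw [← hdb]; group
        rw [hggb, hgd] at e1
        rw [e1, ← mul_assoc, hdd, one_mul]
      have hprod' : g * (b * b') * g⁻¹ = b * b' := by
        calc g * (b * b') * g⁻¹ = (g * b * g⁻¹) * (g * b' * g⁻¹) := by group
          _ = (d * b') * (d * b) := by rw [hdb, hgb']
          _ = d * d * (b' * b) := by rw [mul_assoc, ← mul_assoc b', ← hcom d hdD b' hb']; group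
          _ = b * b' := by rw [hdd, one_mul, hBc b hb b' (hBT hb')]
      have hbb : b * b' = 1 := by
        by_contra hne
        exact hgT (hC _ (mul_mem hb hb') hne g hgS (mul_inv_eq_iff_eq_mul.1 hprod'))
      have hbb' : b' = b := by
        apply mul_left_cancel (a := b)
        rw [hbb, hB2 b hb]
      rw [hbb'] at hdb
      rcases hd with rfl | rfl
      · exfalso
        rw [one_mul] at hdb
        exact hgT (hC b hb hb1 g hgS (mul_inv_eq_iff_eq_mul.1 hdb.symm))
      · exact hdb.symm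
    obtain ⟨b₁, hb₁, hb₁'⟩ := Subgroup.ne_bot_iff_exists_ne_one.1 (show B ≠ ⊥ by
      intro h; rw [h, Subgroup.card_bot] at hB4; omega) |> fun ⟨⟨b, hb⟩, h⟩ => (⟨b, hb, fun h' => h (Subtype.ext h')⟩ : ∃ b ∈ B, b ≠ 1)
    obtain ⟨b₂, hb₂, hb₂'⟩ : ∃ b ∈ B, b ∉ zpowers b₁ := by
      by_contra hcon
      push Not at hcon
      have h1 := Subgroup.card_le_of_le (show B ≤ zpowers b₁ from hcon)
      rw [hB4, Nat.card_zpowers] at h1
      have := Nat.le_of_dvd (by norm_num) (orderOf_dvd_of_pow_eq_one (by rw [pow_two]; exact hB2 _ hb₁) : orderOf b₁ ∣ 2)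
      omega
    have h2 : b₂ ≠ 1 := fun h => hb₂' (h ▸ one_mem _)
    have h3 : b₁ * b₂ ≠ 1 := fun h => hb₂' (by rw [eq_inv_of_mul_eq_one_right h]; exact inv_mem (mem_zpowers _))
    refine hgT (hC _ (mul_mem hb₁ hb₂) h3 g hgS (mul_inv_eq_iff_eq_mul.1 ?_))
    calc g * (b₁ * b₂) * g⁻¹ = (g * b₁ * g⁻¹) * (g * b₂ * g⁻¹) := by group
      _ = (z * b₁) * (z * b₂) := by rw [hz' _ hb₁ hb₁', hz' _ hb₂ h2]
      _ = z * z * (b₁ * b₂) := by rw [mul_assoc, ← mul_assoc b₁, hzc b₁ (hBT hb₁)]; group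
      _ = b₁ * b₂ := by rw [hz2, one_mul]
  have hST : S = T := by
    by_contra hne
    obtain ⟨h, hhS, hhN, hhT⟩ := exists_normalizing hS hTS (Ne.symm hne)
    obtain ⟨k, hk⟩ := hS ⟨h, hhS⟩
    have hk' : h ^ 2 ^ k = 1 := congrArg Subtype.val hk
    classical
    have hex : ∃ j, h ^ 2 ^ j ∈ T := ⟨k, hk' ▸ one_mem T⟩
    have hj0 : Nat.find hex ≠ 0 := fun h0 => hhT (by simpa [h0] using Nat.find_spec hex)
    obtain ⟨j, hj⟩ := Nat.exists_eq_succ_of_ne_zero hj0
    refine Nat.find_min hex (show j < Nat.find hex by omega) (key _ (pow_mem hhS _) (pow_mem hhN _) ?_)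
    have := Nat.find_spec hex
    rw [hj, pow_succ, pow_mul, pow_two] at this
    exact this
  refine ⟨hST, fun K M hK hMK hsq => ?_⟩
  -- squares on the abelian subgroup of index two
  let A : Subgroup G :=
    { carrier := {t | ∃ c ∈ zpowers x, ∃ b ∈ B, c * b = t}
      mul_mem' := by
        rintro _ _ ⟨c, hc, b, hb, rfl⟩ ⟨c', hc', b', hb', rfl⟩
        refine ⟨c * c', mul_mem hc hc', b * b', mul_mem hb hb', ?_⟩
        rw [mul_assoc, ← mul_assoc c', hcom c' (Subgroup.zpowers_le.2 hD.hx hc') b hb]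
        group
      one_mem' := ⟨1, one_mem _, 1, one_mem _, mul_one 1⟩
      inv_mem' := by
        rintro _ ⟨c, hc, b, hb, rfl⟩
        refine ⟨c⁻¹, inv_mem hc, b⁻¹, inv_mem hb, ?_⟩
        rw [hcom c⁻¹ (inv_mem (Subgroup.zpowers_le.2 hD.hx hc)) b⁻¹ (inv_mem hb), mul_inv_rev] }
  have hAcomm : ∀ a ∈ A, ∀ a' ∈ A, a * a' = a' * a := by
    rintro _ ⟨c, hc, b, hb, rfl⟩ _ ⟨c', hc', b', hb', rfl⟩
    have hcD := Subgroup.zpowers_le.2 hD.hx hc
    have hcD' := Subgroup.zpowers_le.2 hD.hx hc'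
    calc c * b * (c' * b') = (c * c') * (b * b') := by rw [mul_assoc, ← mul_assoc b, ← hcom c' hcD' b hb]; group
      _ = (c' * c) * (b' * b) := by
        rw [Subgroup.mul_comm_of_mem_isMulCommutative (zpowers x) hc hc', (hBc b' hb' b (hBT hb))]
      _ = c' * b' * (c * b) := by rw [mul_assoc c' b', ← mul_assoc b', ← hcom c hcD b' hb']; group
  have hindex : A.relIndex K ≤ 2 := by
    show Nat.card (K ⧸ A.subgroupOf K) ≤ 2
    have hmemA : ∀ t ∈ T, t ∈ A ∨ t * y⁻¹ ∈ A := by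
      intro t ht
      obtain ⟨d, hd, b, hb, rfl⟩ := hdec t ht
      rcases hD.cover d hd with h | h
      · exact Or.inl ⟨d, h, b, hb, rfl⟩
      · refine Or.inr ⟨_, h, b, hb, ?_⟩
        rw [mul_assoc, ← hBc b hb y⁻¹ (hDT (inv_mem hD.hy)) |>.symm, mul_assoc]
    have hone : ∀ u v : K, (u : G) ∉ A → (v : G) ∉ A → (u : G)⁻¹ * v ∈ A := by
      intro u v hu hv
      have h1 := (hmemA _ (hK (inv_mem u.2))).resolve_left fun h => hu (by simpa using inv_mem h)
      have h2 := (hmemA _ (hK (inv_mem v.2))).resolve_left fun h => hv (by simpa using inv_mem h)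
      have := mul_mem h1 (inv_mem h2)
      simpa [mul_assoc] using this
    by_cases hKA : ∀ u : K, (u : G) ∈ A
    · haveI : Subsingleton (K ⧸ A.subgroupOf K) := ⟨fun a b => by
        induction a using QuotientGroup.induction_on
        induction b using QuotientGroup.induction_on
        exact QuotientGroup.eq.2 (mem_subgroupOf.2 (mul_mem (inv_mem (hKA _)) (hKA _)))⟩
      exact (Finite.card_le_one_iff_subsingleton.2 inferInstance).trans one_le_two
    · push Not at hKA
      obtain ⟨u₀, hu₀⟩ := hKA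
      classical
      refine le_trans (Nat.card_le_card_of_surjective (fun i : Fin 2 => if i = 0 then (QuotientGroup.mk (1 : K) : K ⧸ A.subgroupOf K)
        else QuotientGroup.mk u₀) ?_) (by simp)
      intro q
      induction q using QuotientGroup.induction_on with
      | H u =>
        by_cases hu : (u : G) ∈ A
        · exact ⟨0, by
            simp only [↓reduceIte]
            exact QuotientGroup.eq.2 (mem_subgroupOf.2 (by simpa using hu))⟩
        · exact ⟨1, by
            simp only [Fin.one_eq_zero_iff, OfNat.ofNat_ne_one, ↓reduceIte]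
            exact QuotientGroup.eq.2 (mem_subgroupOf.2 (hone _ _ hu₀ hu))⟩
  have hcardK : Nat.card K ≤ 2 * Nat.card (A ⊓ K : Subgroup G) := by
    have h1 : Nat.card (A ⊓ K : Subgroup G) * A.relIndex K = Nat.card K := by
      have := Subgroup.card_mul_index (A.subgroupOf K)
      rwa [← Subgroup.inf_subgroupOf_right A K, Nat.card_congr (Subgroup.subgroupOfEquivOfLe inf_le_right).toEquiv,
        Subgroup.inf_subgroupOf_right A K] at this
    rw [← h1, mul_comm 2]
    exact Nat.mul_le_mul_left _ hindex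
  have hAK : Nat.card (A ⊓ K : Subgroup G) ≤ Nat.card M * 8 := by
    refine (card_subgroup_le (X := M) (U := A ⊓ K) (fun a => ⟨(a : G) * a, hsq _ a.2.2⟩)
      {t | ∃ c ∈ ({1, z} : Set G), ∃ b ∈ (B : Set G), c * b = t} ?_).trans (Nat.mul_le_mul_left _ ?_)
    · intro a b hab
      have hab' : (a : G) * a = b * b := Subtype.ext_iff.1 hab
      obtain ⟨c, hc, e, he, hce⟩ := (mul_mem (inv_mem a.2.1) b.2.1 : (a : G)⁻¹ * b ∈ A)
      have h1 : ((a : G)⁻¹ * b) * ((a : G)⁻¹ * b) = 1 := by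
        calc ((a : G)⁻¹ * b) * ((a : G)⁻¹ * b) = (a : G)⁻¹ * ((b : G) * (a : G)⁻¹) * b := by group
          _ = (a : G)⁻¹ * ((a : G)⁻¹ * b) * b := by rw [hAcomm _ b.2.1 _ (inv_mem a.2.1)]
          _ = ((a : G) * a)⁻¹ * ((b : G) * b) := by group
          _ = 1 := by rw [hab']; group
      have h2 : c * c = 1 := by
        rw [← hce] at h1
        calc c * c = c * c * (e * e) := by rw [hB2 e he, mul_one]
          _ = c * e * (c * e) := by
            rw [mul_assoc c e, ← mul_assoc e, ← hcom c (Subgroup.zpowers_le.2 hD.hx hc) e he]; group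
          _ = 1 := h1
      exact ⟨c, by rcases huniq c hc h2 with h | h <;> simp [h], e, he, hce⟩
    · classical
      have : ({t | ∃ c ∈ ({1, z} : Set G), ∃ b ∈ (B : Set G), c * b = t} : Set G) = ({1, z} : Set G) * (B : Set G) := by
        ext t; simp [Set.mem_mul]
      rw [this]
      calc Nat.card ↥(({1, z} : Set G) * (B : Set G)) ≤ Nat.card ({1, z} : Set G) * Nat.card (B : Set G) :=
            Set.natCard_mul_le
        _ ≤ 2 * 4 := by
          refine Nat.mul_le_mul ?_ (le_of_eq hB4)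
          rw [Nat.card_coe_set_eq]
          exact (Set.ncard_insert_le _ _).trans (by simp)
        _ = 8 := by norm_num
  calc Nat.card K ≤ 2 * Nat.card (A ⊓ K : Subgroup G) := hcardK
    _ ≤ 2 * (Nat.card M * 8) := Nat.mul_le_mul_left _ hAK
    _ = 16 * Nat.card M := by ring

/-! ### The case of an elementary abelian subgroup of order sixteen -/

section Elementary

variable {S T B : Subgroup G} (hS : IsPGroup 2 S) (hTS : T ≤ S) (hexp : ∀ t ∈ T, t * t = 1)
  (h16 : Nat.card T = 16) (hB4 : Nat.card B = 4) (hBT : B ≤ T)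
  (hC : ∀ b ∈ B, b ≠ 1 → ∀ s ∈ S, s * b = b * s → s ∈ T)

include hexp in
theorem comm_of_exp {a b : G} (ha : a ∈ T) (hb : b ∈ T) : a * b = b * a := by
  have h1 : a⁻¹ = a := inv_eq_of_mul_eq_one_right (hexp a ha)
  have h2 : b⁻¹ = b := inv_eq_of_mul_eq_one_right (hexp b hb)
  have h3 : (a * b)⁻¹ = a * b := inv_eq_of_mul_eq_one_right (hexp _ (mul_mem ha hb))
  rw [← h3, mul_inv_rev, h1, h2]

include hexp h16 hB4 hBT hC in
theorem cen_le_four {g : G} (hgS : g ∈ S) (hgT : g ∉ T) :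
    Nat.card (T ⊓ centralizer {g} : Subgroup G) ≤ 4 := by
  set C : Subgroup G := T ⊓ centralizer {g}
  have hinj : Function.Injective (fun p : C × B => (⟨(p.1 : G) * p.2, mul_mem p.1.2.1 (hBT p.2.2)⟩ : T)) := by
    rintro ⟨c, b⟩ ⟨c', b'⟩ h
    have h' : (c : G) * b = c' * b' := Subtype.ext_iff.1 h
    have h1 : (c' : G)⁻¹ * c = b' * (b : G)⁻¹ := by
      rw [eq_mul_inv_iff_mul_eq, mul_assoc, h', inv_mul_cancel_left]
    have h2 : (c' : G)⁻¹ * c ∈ C := mul_mem (inv_mem c'.2) c.2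
    have h3 : (c' : G)⁻¹ * c = 1 := by
      by_contra hne
      exact hgT (hC _ (h1 ▸ mul_mem b'.2 (inv_mem b.2)) hne g hgS
        (Subgroup.mem_centralizer_singleton_iff.1 h2.2).symm)
    have hc : (c : G) = c' := (inv_mul_eq_one.1 h3).symm
    rw [hc] at h'
    exact Prod.ext (Subtype.ext hc) (Subtype.ext (mul_left_cancel h'))
  have := Nat.card_le_card_of_injective _ hinj
  rw [Nat.card_prod, hB4, h16] at this
  omega

include hexp h16 hB4 hBT hC in
/-- Sections of subgroups in which `T` has index at most four. -/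
theorem bound_small {K M : Subgroup G} (hK : K ≤ S) (hM : M ≤ K) (hsq : ∀ k ∈ K, k * k ∈ M)
    (h4 : T.relIndex K ≤ 4) : Nat.card K ≤ 16 * Nat.card M := by
  by_cases hKT : K ≤ T
  · calc Nat.card K ≤ Nat.card T := Subgroup.card_le_of_le hKT
      _ = 16 * 1 := by rw [h16]
      _ ≤ 16 * Nat.card M := Nat.mul_le_mul_left _ Nat.card_pos
  · obtain ⟨g, hgK, hgT⟩ := SetLike.not_le_iff_exists.1 hKT
    have h1 : Nat.card (T ⊓ K : Subgroup G) ≤ Nat.card M * 4 := by
      refine (card_subgroup_le (X := M) (U := T ⊓ K) (fun t => ⟨(t : G) * g * (t : G)⁻¹ * g⁻¹, comm_mem_of_squares hsq t.2.2 hgK⟩)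
        ((T ⊓ centralizer {g} : Subgroup G) : Set G) ?_).trans
        (Nat.mul_le_mul_left _ (cen_le_four hexp h16 hB4 hBT hC (hK hgK) hgT))
      intro a b hab
      have hab' := mul_right_cancel (Subtype.ext_iff.1 hab)
      refine Subgroup.mem_inf.2 ⟨mul_mem (inv_mem a.2.1) b.2.1, Subgroup.mem_centralizer_singleton_iff.2 ?_⟩
      calc (a : G)⁻¹ * b * g = (a : G)⁻¹ * (b * g * (b : G)⁻¹) * b := by group
        _ = g * ((a : G)⁻¹ * b) := by rw [← hab']; group
    have h2 : Nat.card (T ⊓ K : Subgroup G) * T.relIndex K = Nat.card K := by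
      have := Subgroup.card_mul_index (T.subgroupOf K)
      rwa [← Subgroup.inf_subgroupOf_right T K, Nat.card_congr (Subgroup.subgroupOfEquivOfLe inf_le_right).toEquiv,
        Subgroup.inf_subgroupOf_right T K] at this
    calc Nat.card K = Nat.card (T ⊓ K : Subgroup G) * T.relIndex K := h2.symm
      _ ≤ Nat.card M * 4 * 4 := Nat.mul_le_mul h1 h4
      _ = 16 * Nat.card M := by ring

include hS hTS h16 hB4 hBT hC in
theorem normalizer_small : T.relIndex (S ⊓ normalizer (T : Set G)) ≤ 4 := by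
  classical
  haveI : Fact (Nat.Prime 2) := ⟨Nat.prime_two⟩
  set N := S ⊓ normalizer (T : Set G)
  have hN2 : IsPGroup 2 N := hS.to_le inf_le_left
  have hTN : T ≤ N := le_inf hTS Subgroup.le_normalizer
  set T₀ := T.subgroupOf N
  haveI : T₀.Normal := Subgroup.normal_subgroupOf_of_le_normalizer inf_le_right
  have hT₀ne : (⊥ : Subgroup N) < T₀ := bot_lt_iff_ne_bot.2 fun h => by
    have := Nat.card_congr (Subgroup.subgroupOfEquivOfLe hTN).toEquiv
    rw [show Nat.card (T.subgroupOf N) = Nat.card T₀ from rfl, h, Subgroup.card_bot, h16] at this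
    omega
  obtain ⟨M, hMmem, hMmax⟩ := ({M : Subgroup N | M.Normal ∧ M < T₀} : Set (Subgroup N)).toFinite.exists_maximal
    ⟨⊥, inferInstance, hT₀ne⟩
  obtain ⟨hMn, hMlt⟩ := hMmem
  obtain ⟨K, hKn, hMK, hKT, hrel⟩ := Cfsg.Lib.PGroups.exists_normal_relIndex_prime hN2 hMlt
  have hKeq : K = T₀ := by
    rcases hKT.lt_or_eq with h | h
    · have := hMmax ⟨hKn, h⟩ hMK
      rw [le_antisymm this hMK, Subgroup.relIndex_self] at hrel
      omega
    · exact h
  rw [hKeq] at hrel
  set M' := M.map N.subtype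
  have hM'T : M' ≤ T := by
    rintro _ ⟨m, hm, rfl⟩
    exact mem_subgroupOf.1 (hMlt.le hm)
  have hM'card : Nat.card M' * 2 = 16 := by
    have h1 := Subgroup.card_mul_index (M.subgroupOf T₀)
    rw [show (M.subgroupOf T₀).index = M.relIndex T₀ from rfl, hrel,
      Nat.card_congr (Subgroup.subgroupOfEquivOfLe hMlt.le).toEquiv,
      Nat.card_congr (Subgroup.subgroupOfEquivOfLe hTN).toEquiv, h16] at h1
    rwa [← Nat.card_congr (Subgroup.equivMapOfInjective M N.subtype Subtype.val_injective).toEquiv]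
  obtain ⟨b, hbB, hbM, hb1⟩ : ∃ b ∈ B, b ∈ M' ∧ b ≠ 1 := by
    by_contra hcon
    push Not at hcon
    have hinj : Function.Injective (fun p : M' × B => (⟨(p.1 : G) * p.2, mul_mem (hM'T p.1.2) (hBT p.2.2)⟩ : T)) := by
      rintro ⟨c, b⟩ ⟨c', b'⟩ h
      have h' : (c : G) * b = c' * b' := Subtype.ext_iff.1 h
      have h1 : (c' : G)⁻¹ * c = b' * (b : G)⁻¹ := by
        rw [eq_mul_inv_iff_mul_eq, mul_assoc, h', inv_mul_cancel_left]
      have h3 : (b' : G) * (b : G)⁻¹ = 1 :=
        hcon _ (mul_mem b'.2 (inv_mem b.2)) (h1 ▸ mul_mem (inv_mem c'.2) c.2)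
      have hb : (b' : G) = b := mul_inv_eq_one.1 h3
      rw [hb] at h'
      exact Prod.ext (Subtype.ext (mul_right_cancel h')) (Subtype.ext hb.symm)
    have := Nat.card_le_card_of_injective _ hinj
    rw [Nat.card_prod, hB4, h16] at this
    omega
  have hconj : ∀ n : N, (n : G) * b * (n : G)⁻¹ ∈ M' ∧ (n : G) * b * (n : G)⁻¹ ≠ 1 := by
    intro n
    obtain ⟨m, hm, hmb⟩ := hbM
    refine ⟨⟨n * m * n⁻¹, hMn.conj_mem m hm n, by simp [← hmb]⟩, fun h => hb1 ?_⟩
    calc b = (n : G)⁻¹ * ((n : G) * b * (n : G)⁻¹) * n := by group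
      _ = 1 := by rw [h]; group
  have hcard : Nat.card N ≤ 7 * 16 := by
    refine (card_subgroup_le (X := {m : M' // m ≠ 1}) (fun n => ⟨⟨_, (hconj n).1⟩, fun h => (hconj n).2 (Subtype.ext_iff.1 h)⟩)
      (T : Set G) ?_).trans (Nat.mul_le_mul ?_ (le_of_eq h16))
    · intro a c hac
      have h' : (a : G) * b * (a : G)⁻¹ = c * b * (c : G)⁻¹ := congrArg (fun m => ((m.1 : M') : G)) hac
      refine hC b hbB hb1 _ (mul_mem (inv_mem a.2.1) c.2.1) ?_
      calc (a : G)⁻¹ * c * b = (a : G)⁻¹ * (c * b * (c : G)⁻¹) * c := by group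
        _ = b * ((a : G)⁻¹ * c) := by rw [← h']; group
    · haveI := Fintype.ofFinite M'
      rw [Nat.card_eq_fintype_card, Fintype.card_subtype_compl, Fintype.card_subtype_eq, ← Nat.card_eq_fintype_card]
      omega
  obtain ⟨k, hk⟩ := hN2.exists_card_eq
  have hk6 : k ≤ 6 := by
    by_contra h
    have := Nat.pow_le_pow_right (show 1 ≤ 2 by norm_num) (show 7 ≤ k by omega)
    omega
  have h64 := Nat.pow_le_pow_right (show 1 ≤ 2 by norm_num) hk6
  have h2 : Nat.card T * T.relIndex N = Nat.card N := by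
    have := Subgroup.card_mul_index (T.subgroupOf N)
    rwa [Nat.card_congr (Subgroup.subgroupOfEquivOfLe hTN).toEquiv] at this
  rw [h16] at h2
  omega

include hS hTS hexp h16 hB4 hBT hC in
theorem squareBound_elementary : SquareBound S := by
  classical
  haveI : Fact (Nat.Prime 2) := ⟨Nat.prime_two⟩
  set N₁ := S ⊓ normalizer (T : Set G) with hN₁
  have hTN₁ : T ≤ N₁ := le_inf hTS Subgroup.le_normalizer
  have hidx : T.relIndex N₁ ≤ 4 := normalizer_small hS hTS h16 hB4 hBT hC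
  have hsmall : ∀ K M : Subgroup G, K ≤ N₁ → M ≤ K → (∀ k ∈ K, k * k ∈ M) → Nat.card K ≤ 16 * Nat.card M := by
    intro K M hK hM hsq
    refine bound_small hexp h16 hB4 hBT hC (hK.trans inf_le_left) hM hsq (le_trans ?_ hidx)
    exact Nat.le_of_dvd (Nat.pos_of_ne_zero Subgroup.index_ne_zero_of_finite) (dvd_refl _) |>.trans
      (Subgroup.relIndex_le_of_le_right hK Subgroup.index_ne_zero_of_finite)
  rcases eq_or_ne N₁ S with hEq | hne
  · intro K M hK hM hsq
    exact hsmall K M (hEq ▸ hK) hM hsq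
  -- a second elementary subgroup
  obtain ⟨h, hhS, hhN, hh1⟩ := exists_normalizing hS inf_le_left hne
  set T' := T.map (MulAut.conj h).toMonoidHom with hT'
  have hT'16 : Nat.card T' = 16 := by rw [hT', conj_card, h16]
  have hT'exp : ∀ t ∈ T', t * t = 1 := by
    rintro _ ⟨t, ht, rfl⟩
    rw [← map_mul, hexp t ht, map_one]
  have hT'N₁ : T' ≤ N₁ := by
    rintro _ ⟨t, ht, rfl⟩
    exact (Subgroup.mem_normalizer_iff.1 hhN t).1 (hTN₁ ht)
  have hne' : T' ≠ T := fun e => hh1 ⟨hhS, conj_eq_self_iff.1 e⟩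
  have hT'n : ∀ u ∈ N₁, ∀ v ∈ T', u * v * u⁻¹ ∈ T' := by
    intro u hu v hv
    rw [hT', mem_conj] at hv ⊢
    have hu' : h⁻¹ * u * h ∈ N₁ := by
      have := (Subgroup.mem_normalizer_iff.1 (inv_mem hhN) u).1 hu
      rwa [inv_inv] at this
    have := (Subgroup.mem_normalizer_iff.1 hu'.2 _).1 hv
    simpa [mul_assoc] using this
  have hTn : ∀ u ∈ N₁, ∀ t ∈ T, u * t * u⁻¹ ∈ T := fun u hu t ht => (Subgroup.mem_normalizer_iff.1 hu.2 t).1 ht
  set F := T ⊓ T' with hF
  obtain ⟨v₀, hv₀, hv₀T⟩ := SetLike.not_le_iff_exists.1 fun hle : T' ≤ T =>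
    hne' (Subgroup.eq_of_le_of_card_ge hle (by rw [h16, hT'16]))
  have hFC : ∀ v ∈ T', v ∉ T → F ≤ T ⊓ centralizer {v} := fun v hv _ f hf =>
    ⟨hf.1, Subgroup.mem_centralizer_singleton_iff.2 (comm_of_exp hT'exp hf.2 hv)⟩
  have hF4 : Nat.card F ≤ 4 :=
    (Subgroup.card_le_of_le (hFC v₀ hv₀ hv₀T)).trans (cen_le_four hexp h16 hB4 hBT hC (hT'N₁ hv₀).1 hv₀T)
  have hN₁card : Nat.card N₁ ≤ 64 := by
    have h2 : Nat.card T * T.relIndex N₁ = Nat.card N₁ := by
      have := Subgroup.card_mul_index (T.subgroupOf N₁)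
      rwa [Nat.card_congr (Subgroup.subgroupOfEquivOfLe hTN₁).toEquiv] at this
    rw [← h2, h16]; omega
  -- every element of `N₁` is a product
  let π : T × T' → N₁ := fun p => ⟨(p.1 : G) * p.2, mul_mem (hTN₁ p.1.2) (hT'N₁ p.2.2)⟩
  have hfib : ∀ p₀ : T × T', Nat.card {p // π p = π p₀} ≤ Nat.card F := by
    intro p₀
    refine Nat.card_le_card_of_injective (fun p => (⟨((p₀.1 : T) : G)⁻¹ * (p.1.1 : G),
      Subgroup.mem_inf.2 ⟨mul_mem (inv_mem p₀.1.2) p.1.1.2, ?_⟩⟩ : F)) ?_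
    · have h' : (p.1.1 : G) * (p.1.2 : G) = (p₀.1 : G) * p₀.2 := Subtype.ext_iff.1 p.2
      have e : ((p₀.1 : T) : G)⁻¹ * (p.1.1 : G) = (p₀.2 : G) * (p.1.2 : G)⁻¹ := by
        rw [eq_mul_inv_iff_mul_eq, mul_assoc, h', inv_mul_cancel_left]
      rw [e]
      exact mul_mem p₀.2.2 (inv_mem p.1.2.2)
    · intro p q hpq
      have h1 : (p.1.1 : G) = q.1.1 := mul_left_cancel (Subtype.ext_iff.1 hpq)
      have h2 : (p.1.1 : G) * (p.1.2 : G) = (q.1.1 : G) * q.1.2 := (Subtype.ext_iff.1 p.2).trans (Subtype.ext_iff.1 q.2).symm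
      rw [h1] at h2
      exact Subtype.ext (Prod.ext (Subtype.ext h1) (Subtype.ext (mul_left_cancel h2)))
  have hprodcard : Nat.card (T × T') = 256 := by rw [Nat.card_prod, h16, hT'16]
  have hFeq : Nat.card F = 4 := by
    have := card_le_of_fibres π _ hfib
    rw [hprodcard] at this
    nlinarith
  have hdec : ∀ u ∈ N₁, ∃ t ∈ T, ∃ v ∈ T', t * v = u := by
    intro u hu
    have hsurj : Function.Surjective π := by
      by_contra hcon
      obtain ⟨w, hw⟩ := not_forall.1 hcon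
      let π' : T × T' → {a : N₁ // a ≠ w} := fun p => ⟨π p, fun e => hw ⟨p, e⟩⟩
      have h1 := card_le_of_fibres π' (Nat.card F) (fun p₀ => (Nat.card_congr (Equiv.subtypeEquivRight
        fun p => (⟨fun e => congrArg Subtype.val e, fun e => Subtype.ext e⟩ : π' p = π' p₀ ↔ π p = π p₀))).trans_le (hfib p₀))
      haveI := Fintype.ofFinite N₁
      rw [hprodcard, hFeq, Nat.card_eq_fintype_card, Fintype.card_subtype_compl, Fintype.card_subtype_eq,
        ← Nat.card_eq_fintype_card] at h1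
      omega
    obtain ⟨⟨t, v⟩, htv⟩ := hsurj ⟨u, hu⟩
    exact ⟨t, t.2, v, v.2, Subtype.ext_iff.1 htv⟩
  have hcommF : ∀ t ∈ T, ∀ v ∈ T', t * v = v * t → t ∈ F ∨ v ∈ F := by
    intro t ht v hv htv
    by_cases hvT : v ∈ T
    · exact Or.inr ⟨hvT, hv⟩
    · left
      have heq : F = T ⊓ centralizer {v} := Subgroup.eq_of_le_of_card_ge (hFC v hv hvT)
        (by rw [hFeq]; exact cen_le_four hexp h16 hB4 hBT hC (hT'N₁ hv).1 hvT)
      rw [heq]
      exact ⟨ht, Subgroup.mem_centralizer_singleton_iff.2 htv⟩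
  have hsqF : ∀ u ∈ N₁, u * u ∈ F := by
    intro u hu
    obtain ⟨t, ht, v, hv, rfl⟩ := hdec u hu
    constructor
    · rw [show t * v * (t * v) = t * (v * t * v⁻¹) * (v * v) by group, hT'exp v hv, mul_one]
      exact mul_mem ht (hTn v (hT'N₁ hv) t ht)
    · rw [show t * v * (t * v) = (t * v * t⁻¹) * (t * t) * v by group, hexp t ht, mul_one]
      exact mul_mem (hT'n t (hTN₁ ht) v hv) hv
  have hcommN : ∀ a ∈ N₁, ∀ b ∈ N₁, a * b * a⁻¹ * b⁻¹ ∈ F := fun a ha b hb => comm_mem_of_squares hsqF ha hb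
  have helem : ∀ U : Subgroup G, U ≤ N₁ → (∀ u ∈ U, u * u = 1) → U ≤ T ∨ U ≤ T' := by
    intro U hU hU2
    refine le_or_le fun u hu => ?_
    obtain ⟨t, ht, v, hv, rfl⟩ := hdec u (hU hu)
    have e : t * v = v * t := by
      have h1 := eq_inv_of_mul_eq_one_left (hU2 _ hu)
      rw [mul_inv_rev, inv_eq_of_mul_eq_one_right (hexp t ht), inv_eq_of_mul_eq_one_right (hT'exp v hv)] at h1
      exact h1
    rcases hcommF t ht v hv e with h | h
    · exact Or.inr (mul_mem h.2 hv)
    · exact Or.inl (mul_mem ht h.1)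
  set N₂ := S ⊓ normalizer (N₁ : Set G)
  have hswap : ∀ σ ∈ N₂, σ ∉ N₁ → T.map (MulAut.conj σ).toMonoidHom = T' := by
    intro σ hσ hσ1
    have hle : T.map (MulAut.conj σ).toMonoidHom ≤ N₁ := by
      rintro _ ⟨t, ht, rfl⟩
      exact (Subgroup.mem_normalizer_iff.1 hσ.2 t).1 (hTN₁ ht)
    have hc : Nat.card (T.map (MulAut.conj σ).toMonoidHom) = 16 := by rw [conj_card, h16]
    rcases helem _ hle (by rintro _ ⟨t, ht, rfl⟩; rw [← map_mul, hexp t ht, map_one]) with h1 | h1
    · exact absurd ⟨hσ.1, conj_eq_self_iff.1 (Subgroup.eq_of_le_of_card_ge h1 (by rw [hc, h16]))⟩ hσ1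
    · exact Subgroup.eq_of_le_of_card_ge h1 (by rw [hc, hT'16])
  have hindex2 : ∀ a ∈ N₂, ∀ b ∈ N₂, a ∉ N₁ → b ∉ N₁ → a⁻¹ * b ∈ N₁ := by
    intro a ha b hb ha1 hb1
    refine Subgroup.mem_inf.2 ⟨mul_mem (inv_mem ha.1) hb.1, conj_eq_self_iff.1 ?_⟩
    ext x
    have e1 := SetLike.ext_iff.1 ((hswap a ha ha1).trans (hswap b hb hb1).symm) (a * x * a⁻¹)
    rw [mem_conj, mem_conj] at e1
    rw [mem_conj]
    have e2 : (a⁻¹ * b)⁻¹ * x * (a⁻¹ * b) = b⁻¹ * (a * x * a⁻¹) * b := by group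
    rw [e2, ← e1]
    simp [mul_assoc]
  have hSN₂ : N₂ = S := by
    by_contra hne2
    obtain ⟨k, hkS, hkN, hk2⟩ := exists_normalizing hS inf_le_left hne2
    set X := T.map (MulAut.conj k).toMonoidHom with hXdef
    have hXN₂ : X ≤ N₂ := by
      rintro _ ⟨t, ht, rfl⟩
      have htN₂ : t ∈ N₂ := ⟨hTS ht, Subgroup.le_normalizer (hTN₁ ht)⟩
      exact (Subgroup.mem_normalizer_iff.1 hkN t).1 htN₂
    have hX2 : ∀ u ∈ X, u * u = 1 := by rintro _ ⟨t, ht, rfl⟩; rw [← map_mul, hexp t ht, map_one]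
    have hX16 : Nat.card X = 16 := by rw [hXdef, conj_card, h16]
    by_cases hXle : X ≤ N₁
    · rcases helem X hXle hX2 with h1 | h1
      · refine hk2 ⟨hkS, Subgroup.le_normalizer ⟨hkS, conj_eq_self_iff.1 ?_⟩⟩
        exact Subgroup.eq_of_le_of_card_ge h1 (by rw [hX16, h16])
      · have e : X = T' := Subgroup.eq_of_le_of_card_ge h1 (by rw [hX16, hT'16])
        have hh2 : h ∈ N₂ := ⟨hhS, hhN⟩
        have hk1 : h⁻¹ * k ∈ N₁ := by
          refine Subgroup.mem_inf.2 ⟨mul_mem (inv_mem hhS) hkS, conj_eq_self_iff.1 ?_⟩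
          ext x
          have e1 := SetLike.ext_iff.1 e (h * x * h⁻¹)
          rw [hXdef, hT', mem_conj, mem_conj] at e1
          rw [mem_conj]
          have e2 : (h⁻¹ * k)⁻¹ * x * (h⁻¹ * k) = k⁻¹ * (h * x * h⁻¹) * k := by group
          rw [e2, e1]
          simp [mul_assoc]
        have : h⁻¹ * k ∈ N₂ := ⟨hk1.1, Subgroup.le_normalizer hk1⟩
        exact hk2 ((mul_mem_cancel_left (inv_mem hh2)).1 this)
    · obtain ⟨σ, hσX, hσ1⟩ := SetLike.not_le_iff_exists.1 hXle
      have hfix : X ⊓ N₁ ≤ F := by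
        intro x hx
        have hc : σ * x = x * σ := comm_of_exp hX2 hσX hx.1
        rcases helem (X ⊓ N₁) inf_le_right (fun u hu => hX2 u hu.1) with h1 | h1
        · refine Subgroup.mem_inf.2 ⟨h1 hx, ?_⟩
          rw [← hswap σ (hXN₂ hσX) hσ1, mem_conj, show σ⁻¹ * x * σ = x by rw [mul_assoc, ← hc, inv_mul_cancel_left]]
          exact h1 hx
        · refine Subgroup.mem_inf.2 ⟨?_, h1 hx⟩
          have := h1 hx
          rw [← hswap σ (hXN₂ hσX) hσ1, mem_conj, show σ⁻¹ * x * σ = x by rw [mul_assoc, ← hc, inv_mul_cancel_left]] at this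
          exact this
      have h1 : Nat.card X ≤ 2 * Nat.card (X ⊓ N₁ : Subgroup G) := by
        have := card_subgroup_le (U := X) (X := Bool) (fun u => decide ((u : G) ∈ N₁)) ((X ⊓ N₁ : Subgroup G) : Set G) (by
          intro a b hab
          refine Subgroup.mem_inf.2 ⟨mul_mem (inv_mem a.2) b.2, ?_⟩
          by_cases ha : (a : G) ∈ N₁
          · have hb : (b : G) ∈ N₁ := by simpa [ha] using hab.symm
            exact mul_mem (inv_mem ha) hb
          · have hb : (b : G) ∉ N₁ := by simpa [ha] using hab.symm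
            exact hindex2 _ (hXN₂ a.2) _ (hXN₂ b.2) ha hb)
        rwa [Nat.card_eq_fintype_card (α := Bool), Fintype.card_bool] at this
      have h2 := Subgroup.card_le_of_le hfix
      omega
  intro K M hK hM hsq
  by_cases hKle : K ≤ N₁
  · exact hsmall K M hKle hM hsq
  obtain ⟨σ, hσK, hσ1⟩ := SetLike.not_le_iff_exists.1 hKle
  rw [← hSN₂] at hK
  by_contra hbig
  push Not at hbig
  set L := K ⊓ N₁
  have hLK : Nat.card K ≤ 2 * Nat.card L := by
    have := card_subgroup_le (U := K) (X := Bool) (fun u => decide ((u : G) ∈ N₁)) (L : Set G) (by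
      intro a b hab
      refine Subgroup.mem_inf.2 ⟨mul_mem (inv_mem a.2) b.2, ?_⟩
      by_cases ha : (a : G) ∈ N₁
      · have hb : (b : G) ∈ N₁ := by simpa [ha] using hab.symm
        exact mul_mem (inv_mem ha) hb
      · have hb : (b : G) ∉ N₁ := by simpa [ha] using hab.symm
        exact hindex2 _ (hK a.2) _ (hK b.2) ha hb)
    rwa [Nat.card_eq_fintype_card (α := Bool), Fintype.card_bool] at this
  have hL16 : 16 * Nat.card M ≤ Nat.card L := by
    obtain ⟨a, ha⟩ := two_pow_of_pgroup hS (hK.trans inf_le_left)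
    obtain ⟨c, hc⟩ := two_pow_of_pgroup hS ((hM.trans hK).trans inf_le_left)
    rw [ha, hc] at hbig
    have h5 : c + 4 < a := (Nat.pow_lt_pow_iff_right (show 1 < 2 by norm_num)).1 (by rw [pow_add]; omega)
    have h6 := Nat.pow_le_pow_right (show 1 ≤ 2 by norm_num) (show c + 5 ≤ a by omega)
    rw [pow_add] at h6
    omega
  have hσN := (hK hσK).2
  have hconjN : ∀ u ∈ N₁, σ * u * σ⁻¹ ∈ N₁ := fun u hu => (Subgroup.mem_normalizer_iff.1 hσN u).1 hu
  have hFn : ∀ u ∈ N₁, ∀ f ∈ F, u * f * u⁻¹ ∈ F := fun u hu f hf => ⟨hTn u hu f hf.1, hT'n u hu f hf.2⟩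
  let Kr : Subgroup G :=
    { carrier := {w | w ∈ L ∧ w⁻¹ * (σ * w * σ⁻¹) ∈ F}
      mul_mem' := by
        rintro a b ⟨ha, ha'⟩ ⟨hb, hb'⟩
        refine ⟨mul_mem ha hb, ?_⟩
        rw [show (a * b)⁻¹ * (σ * (a * b) * σ⁻¹) = (b⁻¹ * (a⁻¹ * (σ * a * σ⁻¹)) * b) * (b⁻¹ * (σ * b * σ⁻¹)) by group]
        refine mul_mem ?_ hb'
        simpa using hFn _ (inv_mem hb.2) _ ha'
      one_mem' := ⟨one_mem _, by simp⟩
      inv_mem' := by
        rintro a ⟨ha, ha'⟩
        refine ⟨inv_mem ha, ?_⟩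
        rw [show a⁻¹⁻¹ * (σ * a⁻¹ * σ⁻¹) = a * (a⁻¹ * (σ * a * σ⁻¹))⁻¹ * a⁻¹ by group]
        exact hFn _ ha.2 _ (inv_mem ha') }
  have hKr : Nat.card Kr ≤ 4 * Nat.card (L ⊓ F : Subgroup G) := by
    refine (card_subgroup_le (U := Kr) (X := N₁ ⧸ T.subgroupOf N₁) (fun w => QuotientGroup.mk ⟨w.1, w.2.1.2⟩)
      ((L ⊓ F : Subgroup G) : Set G) ?_).trans (Nat.mul_le_mul_right _ hidx)
    intro a b hab
    have hw : (a : G)⁻¹ * b ∈ Kr := mul_mem (inv_mem a.2) b.2
    have hwT : (a : G)⁻¹ * b ∈ T := mem_subgroupOf.1 (QuotientGroup.eq.1 hab)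
    refine ⟨hw.1, hwT, ?_⟩
    set w := (a : G)⁻¹ * b
    have h1 : σ * w * σ⁻¹ ∈ T' := by rw [← hswap σ (hK hσK) hσ1, mem_conj]; simpa [mul_assoc] using hwT
    have h2 : w⁻¹ * (σ * w * σ⁻¹) ∈ T' := hw.2.2
    have := mul_mem h1 (inv_mem h2)
    simpa [mul_assoc] using this
  set MF : Subgroup G := M ⊓ F
  have hMF : Nat.card L ≤ (MF.relIndex M) * Nat.card Kr := by
    refine card_subgroup_le (U := L) (X := M ⧸ MF.subgroupOf M) (fun u => QuotientGroup.mk
      ⟨(u : G)⁻¹ * σ * u * σ⁻¹, by simpa using comm_mem_of_squares hsq (inv_mem u.2.1) hσK⟩) (Kr : Set G) ?_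
    intro a b hab
    have hψ : ((a : G)⁻¹ * σ * a * σ⁻¹)⁻¹ * ((b : G)⁻¹ * σ * b * σ⁻¹) ∈ F := (mem_subgroupOf.1 (QuotientGroup.eq.1 hab)).2
    have hw : (a : G)⁻¹ * b ∈ L := mul_mem (inv_mem a.2) b.2
    refine ⟨hw, ?_⟩
    set w := (a : G)⁻¹ * b
    set m := (a : G)⁻¹ * σ * a * σ⁻¹ with hm
    have hmN : m ∈ N₁ := by
      rw [hm, show (a : G)⁻¹ * σ * a * σ⁻¹ = (a : G)⁻¹ * (σ * a * σ⁻¹) by group]
      exact mul_mem (inv_mem a.2.2) (hconjN _ a.2.2)
    have hk : m⁻¹ * w⁻¹ * m * w ∈ F := by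
      simpa using hcommN _ (inv_mem hmN) _ (inv_mem hw.2)
    have e : m⁻¹ * ((b : G)⁻¹ * σ * b * σ⁻¹) = (m⁻¹ * w⁻¹ * m * w) * (w⁻¹ * (σ * w * σ⁻¹)) := by
      simp only [w, hm]; group
    rw [e] at hψ
    exact (mul_mem_cancel_left hk).1 hψ
  have hMMF : Nat.card MF * MF.relIndex M = Nat.card M := by
    have := Subgroup.card_mul_index (MF.subgroupOf M)
    rwa [Nat.card_congr (Subgroup.subgroupOfEquivOfLe inf_le_left).toEquiv] at this
  have hLF4 : Nat.card (L ⊓ F : Subgroup G) ≤ 4 := hFeq ▸ Subgroup.card_le_of_le inf_le_right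
  have hM0 : 0 < Nat.card M := Nat.card_pos
  have hMF1 : Nat.card MF = 1 ∧ Nat.card (L ⊓ F : Subgroup G) = 4 := by
    have h1 : 16 * Nat.card M * Nat.card MF ≤ Nat.card M * (4 * Nat.card (L ⊓ F : Subgroup G)) := by
      calc 16 * Nat.card M * Nat.card MF ≤ Nat.card L * Nat.card MF := Nat.mul_le_mul_right _ hL16
        _ ≤ MF.relIndex M * Nat.card Kr * Nat.card MF := Nat.mul_le_mul_right _ hMF
        _ = Nat.card M * Nat.card Kr := by rw [← hMMF]; ring
        _ ≤ Nat.card M * (4 * Nat.card (L ⊓ F : Subgroup G)) := Nat.mul_le_mul_left _ hKr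
    have h2 : 4 * Nat.card MF ≤ Nat.card (L ⊓ F : Subgroup G) := by
      have : Nat.card M * (4 * (4 * Nat.card MF)) ≤ Nat.card M * (4 * Nat.card (L ⊓ F : Subgroup G)) := by linarith
      have := Nat.le_of_mul_le_mul_left this hM0
      omega
    have : 0 < Nat.card MF := Nat.card_pos
    omega
  have hMFbot : MF = ⊥ := Subgroup.card_eq_one.1 hMF1.1
  have hL2 : ∀ u ∈ L, u * u = 1 := fun u hu => by
    have : u * u ∈ MF := ⟨hsq u hu.1, hsqF u hu.2⟩
    rwa [hMFbot, Subgroup.mem_bot] at this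
  have hσL : ∀ u ∈ L, σ * u * σ⁻¹ ∈ L := fun u hu =>
    Subgroup.mem_inf.2 ⟨mul_mem (mul_mem hσK hu.1) (inv_mem hσK), hconjN u hu.2⟩
  have hσnot : σ ∉ N₁ := hσ1
  have hLbig : 16 ≤ Nat.card L := by nlinarith
  rcases helem L inf_le_right hL2 with h1 | h1
  · have e : L = T := Subgroup.eq_of_le_of_card_ge h1 (by rw [h16]; exact hLbig)
    apply hσnot
    refine ⟨(hK hσK).1, conj_eq_self_iff.1 (Subgroup.eq_of_le_of_card_ge ?_ (by rw [conj_card]))⟩
    rintro _ ⟨t, ht, rfl⟩
    rw [← e] at ht ⊢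
    simpa using hσL t ht
  · have e : L = T' := Subgroup.eq_of_le_of_card_ge h1 (by rw [hT'16]; exact hLbig)
    apply hne'
    rw [← e] at hT'16
    have hmap : L.map (MulAut.conj σ).toMonoidHom = L := Subgroup.eq_of_le_of_card_ge (by
      rintro _ ⟨t, ht, rfl⟩; simpa using hσL t ht) (by rw [conj_card])
    have := (hmap.trans e).trans (hswap σ (hK hσK) hσ1).symm
    exact (e ▸ Subgroup.map_injective (MulAut.conj σ).injective this).symm ▸ rfl

end Elementary

end Cfsg.Lib.DihedralByFour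

namespace Cfsg.Lib.DihedralByFour

open Subgroup

variable {G : Type*} [Group G] [Finite G]

/-- Generators and a relation give the structure `CyclicByTwo`. -/
theorem cyclicByTwo_of_generators (D : Subgroup G) (x y : D) (n : ℕ) (k c : ℤ) (hn : 2 ≤ n)
    (hcard : Nat.card D = 2 ^ (n + 1)) (hx : orderOf x = 2 ^ n) (hrel : y * x * y⁻¹ = x ^ k)
    (hk : k - 1 = 2 * c) (hc : ¬ (2 : ℤ) ∣ c) : CyclicByTwo D (x : G) (y : G) n := by
  have hxG : orderOf (x : G) = 2 ^ n := by rw [Subgroup.orderOf_coe, hx]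
  have hsmall : ∀ i : ℤ, y * x ^ i = x ^ i * y → x ^ (2 * i) = 1 := by
    intro i hi
    have h1 : x ^ (i * k) = x ^ i := by
      rw [mul_comm i k, zpow_mul, ← hrel, conj_zpow, mul_inv_eq_iff_eq_mul]
      exact hi
    have h2 : x ^ (i * (k - 1)) = 1 := by
      rw [mul_sub, mul_one, zpow_sub, h1, mul_inv_cancel]
    rw [← orderOf_dvd_iff_zpow_eq_one, hx, hk, show i * (2 * c) = (2 * i) * c by ring] at h2
    rw [← orderOf_dvd_iff_zpow_eq_one, hx]
    have hcop : IsCoprime ((2 ^ n : ℕ) : ℤ) c := by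
      push_cast
      exact ((Int.prime_two.coprime_iff_not_dvd).2 hc).pow_left
    exact hcop.dvd_of_dvd_mul_right h2
  have hynot : y ∉ zpowers x := by
    intro hy
    obtain ⟨j, rfl⟩ := Subgroup.mem_zpowers_iff.1 hy
    have h1 := hsmall 1 (by rw [← zpow_add, ← zpow_add, add_comm])
    rw [mul_one, ← orderOf_dvd_iff_zpow_eq_one, hx] at h1
    have h2 : 2 ^ n ∣ 2 := by exact_mod_cast h1
    have := Nat.le_of_dvd (by norm_num) h2
    have := Nat.pow_le_pow_right (show 1 ≤ 2 by norm_num) hn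
    omega
  have hindex : (zpowers x).index = 2 := by
    have h1 := Subgroup.card_mul_index (zpowers x)
    rw [Nat.card_zpowers, hx, hcard, pow_succ] at h1
    exact Nat.eq_of_mul_eq_mul_left (by positivity) h1
  refine ⟨hn, x.2, y.2, hxG, fun d hd => ?_, fun e he hye => ?_⟩
  · have hcase : (⟨d, hd⟩ : D) ∈ zpowers x ∨ (⟨d, hd⟩ : D) * y⁻¹ ∈ zpowers x := by
      by_cases h : (⟨d, hd⟩ : D) ∈ zpowers x
      · exact Or.inl h
      · right
        rw [Subgroup.mul_mem_iff_of_index_two hindex]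
        exact iff_of_false h fun h' => hynot (inv_mem_iff.1 h')
    rcases hcase with h | h
    all_goals obtain ⟨i, hi⟩ := Subgroup.mem_zpowers_iff.1 h
    all_goals have hi' := congrArg Subtype.val hi
    all_goals simp only [Subgroup.coe_zpow, Subgroup.coe_mul, Subgroup.coe_inv] at hi'
    · exact Or.inl (Subgroup.mem_zpowers_iff.2 ⟨i, hi'⟩)
    · exact Or.inr (Subgroup.mem_zpowers_iff.2 ⟨i, hi'⟩)
  · obtain ⟨i, rfl⟩ := Subgroup.mem_zpowers_iff.1 he
    have h1 : y * x ^ i = x ^ i * y := Subtype.ext (by simpa using hye)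
    have h2 := congrArg Subtype.val (hsmall i h1)
    simp only [Subgroup.coe_zpow, Subgroup.coe_one] at h2
    rw [← h2, two_mul, zpow_add]

/-- The two shapes of `D`. -/
theorem shape_cases {D : Subgroup G} (h2 : IsPGroup 2 D)
    (hD : (∃ m : ℕ, 2 ≤ m ∧ Nonempty (D ≃* DihedralGroup m)) ∨ Cfsg.IsQuasiDihedral D) :
    (Nat.card D = 4 ∧ ∀ d ∈ D, d * d = 1) ∨ ∃ x y : G, ∃ n : ℕ, CyclicByTwo D x y n := by
  haveI : Fact (Nat.Prime 2) := ⟨Nat.prime_two⟩
  rcases hD with ⟨m, hm, ⟨e⟩⟩ | ⟨n, hn, hcard, x, y, hx, -, hrel⟩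
  · have hc : Nat.card D = 2 * m := (Nat.card_congr e.toEquiv).trans DihedralGroup.nat_card
    obtain ⟨a, ha⟩ := h2.exists_card_eq
    rw [hc] at ha
    rcases a with _ | _ | _ | a
    · simp at ha
    · simp at ha; omega
    · left
      have hm2 : m = 2 := by simp at ha; omega
      subst hm2
      refine ⟨by rw [hc], fun d hd => ?_⟩
      have h : (⟨d, hd⟩ : D) * ⟨d, hd⟩ = 1 := e.injective (by
        rw [map_mul, map_one]
        generalize e ⟨d, hd⟩ = w
        revert w; decide)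
      exact congrArg Subtype.val h
    · right
      have hm' : m = 2 ^ (a + 2) := by rw [pow_succ'] at ha; omega
      refine ⟨_, _, a + 2, cyclicByTwo_of_generators D (e.symm (DihedralGroup.r 1)) (e.symm (DihedralGroup.sr 0)) (a + 2)
        (-1) (-1) (by omega) (by rw [hc, hm', pow_succ' 2 (a + 2)]) (by rw [e.symm.orderOf_eq, DihedralGroup.orderOf_r_one, hm'])
        ?_ (by norm_num) (by norm_num)⟩
      apply e.injective
      simp [map_mul, map_inv]
  · right
    refine ⟨_, _, n, cyclicByTwo_of_generators D x y n ((2 : ℤ) ^ (n - 1) - 1) ((2 : ℤ) ^ (n - 2) - 1) (by omega) hcard hx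
      ?_ ?_ ?_⟩
    · rw [hrel, ← zpow_natCast]
      congr 1
      have : 1 ≤ 2 ^ (n - 1) := Nat.one_le_two_pow
      push_cast [Nat.cast_sub this]
      ring
    · rw [show n - 1 = (n - 2) + 1 by omega, pow_succ]; ring
    · intro hdvd
      have h2' : (2 : ℤ) ∣ 2 ^ (n - 2) := dvd_pow_self 2 (by omega)
      have := (Int.dvd_sub h2' hdvd)
      norm_num at this

/-- A group with such a centraliser has sectional 2-rank at most four. -/
theorem main {T D B : Subgroup G} (hT : IsPGroup 2 T) (hprod : Cfsg.IsInternalDirectProduct D B T)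
    (hD : (∃ m : ℕ, 2 ≤ m ∧ Nonempty (D ≃* DihedralGroup m)) ∨ Cfsg.IsQuasiDihedral D) (hB : IsKleinFour B)
    (hTb : ∀ b ∈ B, orderOf b = 2 → T ≤ centralizer ({b} : Set G) ∧ Odd (T.relIndex (centralizer ({b} : Set G)))) :
    Cfsg.SectionalPRankLE 2 4 G := by
  classical
  haveI : Fact (Nat.Prime 2) := ⟨Nat.prime_two⟩
  have hB4 : Nat.card B = 4 := IsKleinFour.card_four
  have hB2 : ∀ b ∈ B, b * b = 1 := fun b hb => congrArg Subtype.val (IsKleinFour.mul_self (⟨b, hb⟩ : B))
  obtain ⟨S, hTS⟩ := hT.exists_le_sylow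
  have hC : ∀ b ∈ B, b ≠ 1 → ∀ s ∈ (S : Subgroup G), s * b = b * s → s ∈ T := by
    intro b hb hb1 s hs hsb
    obtain ⟨hle, hodd⟩ := hTb b hb (orderOf_eq_prime (by rw [pow_two, hB2 b hb]) hb1)
    set U : Subgroup G := (S : Subgroup G) ⊓ centralizer {b}
    have hTU : T ≤ U := le_inf hTS hle
    have hU : IsPGroup 2 U := S.isPGroup'.to_le inf_le_left
    have h1 : T.relIndex U ∣ T.relIndex (centralizer ({b} : Set G)) :=
      Dvd.intro _ (Subgroup.relIndex_mul_relIndex T U _ hTU inf_le_right)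
    obtain ⟨j, hj⟩ := hU.index (T.subgroupOf U)
    change T.relIndex U = 2 ^ j at hj
    have hj0 : j = 0 := by
      by_contra hj0
      rw [hj] at h1
      exact Nat.not_even_iff_odd.2 hodd (even_iff_two_dvd.2 ((dvd_pow_self 2 hj0).trans h1))
    rw [hj0, pow_zero, Subgroup.relIndex_eq_one] at hj
    exact hj (Subgroup.mem_inf.2 ⟨hs, Subgroup.mem_centralizer_singleton_iff.2 hsb⟩)
  obtain ⟨hDT, hBT, hcom, hdis, hsup⟩ := hprod
  have hDB : D ≤ normalizer (B : Set G) := fun d hd => Subgroup.mem_normalizer_iff.2 fun w => by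
    constructor
    · intro hw
      rwa [hcom d hd w hw, mul_inv_cancel_right]
    · intro hw
      have e : d * (d * w * d⁻¹) = (d * w * d⁻¹) * d := hcom d hd _ hw
      rw [inv_mul_cancel_right] at e
      have e' : d * w * d⁻¹ = w := mul_left_cancel e
      rwa [e'] at hw
  rcases shape_cases (hT.to_le hDT) hD with ⟨hD4, hD2⟩ | ⟨x, y, n, hn⟩
  · refine sectional_of_squareBound S (squareBound_elementary S.isPGroup' hTS ?_ ?_ hB4 hBT hC)
    · intro t ht
      rw [← hsup] at ht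
      rw [← SetLike.mem_coe, Subgroup.coe_mul_of_left_le_normalizer_right D B hDB] at ht
      obtain ⟨d, hd, b, hb, rfl⟩ := Set.mem_mul.1 ht
      rw [show d * b * (d * b) = d * (b * d) * b by group, ← hcom d hd b hb,
        show d * (d * b) * b = (d * d) * (b * b) by group, hD2 d hd, hB2 b hb, one_mul]
    · let π : D × B → T := fun p => ⟨(p.1 : G) * p.2, mul_mem (hDT p.1.2) (hBT p.2.2)⟩
      have hπ : Function.Bijective π := by
        constructor
        · rintro ⟨a, b⟩ ⟨a', b'⟩ h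
          have h' : (a : G) * b = a' * b' := Subtype.ext_iff.1 h
          have h1 : (a' : G)⁻¹ * a = b' * (b : G)⁻¹ := by
            rw [eq_mul_inv_iff_mul_eq, mul_assoc, h', inv_mul_cancel_left]
          have h2 : (a' : G)⁻¹ * a ∈ D ⊓ B := Subgroup.mem_inf.2
            ⟨mul_mem (inv_mem a'.2) a.2, h1 ▸ mul_mem b'.2 (inv_mem b.2)⟩
          rw [hdis, Subgroup.mem_bot, inv_mul_eq_one] at h2
          rw [h2] at h'
          exact Prod.ext (Subtype.ext h2.symm) (Subtype.ext (mul_left_cancel h'))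
        · rintro ⟨t, ht⟩
          rw [← hsup] at ht
          rw [← SetLike.mem_coe, Subgroup.coe_mul_of_left_le_normalizer_right D B hDB] at ht
          obtain ⟨d, hd, b, hb, rfl⟩ := Set.mem_mul.1 ht
          exact ⟨(⟨d, hd⟩, ⟨b, hb⟩), rfl⟩
      rw [← Nat.card_eq_of_bijective π hπ, Nat.card_prod, hD4, hB4]
  · obtain ⟨e, hb⟩ := eq_of_nonabelian S.isPGroup' hTS hn ⟨hDT, hBT, hcom, hdis, hsup⟩ hB4 hB2 hC
    exact sectional_of_squareBound S (e ▸ hb)

end Cfsg.Lib.DihedralByFour
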