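import Cfsg.Agent.Wreathed.Facts
import Cfsg.Agent.Classical.Unitary.Matrix
import Cfsg.Agent.PGroups.CyclicMaximal

/-!
Sylow 2-subgroups of the two-dimensional general linear and unitary groups in odd characteristic.
-/

set_option autoImplicit false
set_option linter.unusedSectionVars false

namespace Cfsg.Lib.SylowTwo

open Subgroup Cfsg.Lib.Wreathed
open scoped MatrixGroups

theorem factorization_two {k m : ℕ} (hm : Odd m) : (2 ^ k * m).factorization 2 = k := by
  rw [Nat.factorization_mul (by positivity) hm.pos.ne', Finsupp.add_apply,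
    Nat.prime_two.factorization_pow,
    Nat.factorization_eq_zero_of_not_dvd (fun h => Nat.not_even_iff_odd.mpr hm (even_iff_two_dvd.mpr h))]
  simp

section Abstract

variable {G : Type*} [Group G] [Finite G] (P : Sylow 2 G)

theorem isQuasiDihedral_congr {A B : Type*} [Group A] [Group B] (e : A ≃* B)
    (h : Cfsg.IsQuasiDihedral A) : Cfsg.IsQuasiDihedral B := by
  obtain ⟨n, hn, hc, x, y, hx, hy, hxy⟩ := h
  refine ⟨n, hn, ?_, e x, e y, by rw [e.orderOf_eq, hx], by rw [e.orderOf_eq, hy], ?_⟩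
  · rw [← Nat.card_congr e.toEquiv, hc]
  · rw [← map_inv, ← map_mul, ← map_mul, hxy, map_pow]

theorem isWreathed_congr {A B : Type*} [Group A] [Group B] (e : A ≃* B)
    (h : Cfsg.IsWreathed A) : Cfsg.IsWreathed B := by
  obtain ⟨n, hn, hc, x, y, z, hx, hxy, hd, hz, hzx⟩ := h
  refine ⟨n, hn, ?_, e x, e y, e z, by rw [e.orderOf_eq, hx], by rw [← map_mul, ← map_mul, hxy], ?_,
    by rw [e.orderOf_eq, hz], by rw [← map_inv, ← map_mul, ← map_mul, hzx]⟩
  · rw [← Nat.card_congr e.toEquiv, hc]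
  · rw [show e x = e.toMonoidHom x from rfl, show e y = e.toMonoidHom y from rfl,
      ← MonoidHom.map_zpowers, ← MonoidHom.map_zpowers,
      ← Subgroup.map_inf _ _ _ e.injective, hd, Subgroup.map_bot]

theorem isWreathed_model (n : ℕ) (hn : 2 ≤ n) : Cfsg.IsWreathed (Wr n) := by
  let f : Multiplicative (ZMod (2 ^ n)) →* Wr n := MonoidHom.mk' (fun a => ⟨a.toAdd, 0, false⟩)
    fun a b => by ext <;> simp
  have hf : Function.Injective f := fun a b h => by simpa [f] using congrArg Wr.a h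
  refine ⟨n, hn, Wr.card_eq, ⟨1, 0, false⟩, ⟨0, 1, false⟩, ⟨0, 0, true⟩, ?_, by ext <;> simp, ?_, ?_, ?_⟩
  · rw [show (⟨1, 0, false⟩ : Wr n) = f (Multiplicative.ofAdd 1) from rfl, orderOf_injective f hf,
      orderOf_ofAdd_eq_addOrderOf, ZMod.addOrderOf_one]
  · rw [eq_bot_iff]
    intro p hp
    obtain ⟨hp1, hp2⟩ := Subgroup.mem_inf.mp hp
    let A : Subgroup (Wr n) :=
      { carrier := {p | p.b = 0 ∧ p.e = false}
        one_mem' := ⟨rfl, rfl⟩
        mul_mem' := fun {p q} hp hq => ⟨by simp [hp.1, hp.2, hq.1], by simp [hp.2, hq.2]⟩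
        inv_mem' := fun {p} hp => ⟨by simp [hp.1, hp.2], by simpa using hp.2⟩ }
    let B : Subgroup (Wr n) :=
      { carrier := {p | p.a = 0 ∧ p.e = false}
        one_mem' := ⟨rfl, rfl⟩
        mul_mem' := fun {p q} hp hq => ⟨by simp [hp.1, hp.2, hq.1], by simp [hp.2, hq.2]⟩
        inv_mem' := fun {p} hp => ⟨by simp [hp.1, hp.2], by simpa using hp.2⟩ }
    obtain ⟨hb, he⟩ := (Subgroup.zpowers_le.mpr (show (⟨1, 0, false⟩ : Wr n) ∈ A from ⟨rfl, rfl⟩)) hp1
    obtain ⟨ha, -⟩ := (Subgroup.zpowers_le.mpr (show (⟨0, 1, false⟩ : Wr n) ∈ B from ⟨rfl, rfl⟩)) hp2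
    exact Wr.ext ha hb he
  · rw [order_two_iff, mul_self_iff]
    exact ⟨Or.inr ⟨rfl, by simp⟩, fun h => by simpa using congrArg Wr.e h⟩
  · rw [conj_formula]; ext <;> simp

theorem isWreathed_sylow {w : ℕ} (hw : 2 ≤ w) (φ : Wr w →* G) (hφ : Function.Injective φ)
    (hG : (Nat.card G).factorization 2 = 2 * w + 1) : Cfsg.IsWreathed (P : Subgroup G) := by
  haveI : Fact (Nat.Prime 2) := ⟨Nat.prime_two⟩
  have hc : Nat.card φ.range = 2 ^ (Nat.card G).factorization 2 := by
    rw [← Nat.card_congr (MonoidHom.ofInjective hφ).toEquiv, Wr.card_eq, hG]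
  refine isWreathed_congr ?_ (isWreathed_model w hw)
  exact (MonoidHom.ofInjective hφ).trans
    ((MulEquiv.subgroupCongr (Sylow.coe_ofCard _ hc).symm).trans (Sylow.equiv (Sylow.ofCard φ.range hc) P))

theorem isQuasiDihedral_sylow {v : ℕ} (hv : 2 ≤ v) (a b : G) (ha : orderOf a = 2 ^ (v + 1))
    (hb : orderOf b = 2) (hba : b * a * b⁻¹ = a ^ (2 ^ v - 1)) (hnot : b ∉ zpowers a)
    (hG : (Nat.card G).factorization 2 = v + 2) : Cfsg.IsQuasiDihedral (P : Subgroup G) := by
  haveI : Fact (Nat.Prime 2) := ⟨Nat.prime_two⟩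
  set R := zpowers a ⊔ zpowers b with hR
  have hnorm : zpowers b ≤ normalizer (zpowers a : Set G) := by
    rw [zpowers_le, mem_normalizer_iff]
    have hfwd : ∀ y ∈ zpowers a, b * y * b⁻¹ ∈ zpowers a := by
      rintro _ ⟨i, rfl⟩
      show b * a ^ i * b⁻¹ ∈ zpowers a
      rw [← conj_zpow, hba]
      exact zpow_mem (pow_mem (mem_zpowers a) _) i
    refine fun y => ⟨hfwd y, fun hy => ?_⟩
    have hbb : b * b = 1 := by rw [← pow_two, ← hb, pow_orderOf_eq_one]
    have h := hfwd _ hy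
    rwa [show b * (b * y * b⁻¹) * b⁻¹ = (b * b) * y * (b * b)⁻¹ by group, hbb, one_mul, inv_one,
      mul_one] at h
  have hinf : zpowers a ⊓ zpowers b = ⊥ := by
    rw [eq_bot_iff]
    intro x hx
    obtain ⟨h1, i, hi⟩ := Subgroup.mem_inf.mp hx
    have hi' : b ^ i = x := hi
    rcases Int.even_or_odd i with ⟨j, rfl⟩ | ⟨j, rfl⟩
    · rw [mem_bot, ← hi', zpow_add, ← (Commute.refl b).mul_zpow, ← pow_two, ← hb, pow_orderOf_eq_one,
        one_zpow]
    · exfalso
      rw [zpow_add, zpow_one, two_mul, zpow_add, ← (Commute.refl b).mul_zpow, ← pow_two, ← hb,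
        pow_orderOf_eq_one, one_zpow, one_mul] at hi'
      exact hnot (hi' ▸ h1)
  have hcR : Nat.card R = 2 ^ (v + 2) := by
    rw [hR, Cfsg.Lib.Coprime.card_sup_of_inf_eq_bot hnorm hinf, Nat.card_zpowers, Nat.card_zpowers, ha, hb,
      ← pow_succ]
  have hc : Nat.card R = 2 ^ (Nat.card G).factorization 2 := by rw [hcR, hG]
  refine isQuasiDihedral_congr
    ((MulEquiv.subgroupCongr (Sylow.coe_ofCard R hc).symm).trans (Sylow.equiv (Sylow.ofCard R hc) P)) ?_
  refine ⟨v + 1, by omega, hcR, ⟨a, mem_sup_left (mem_zpowers a)⟩, ⟨b, mem_sup_right (mem_zpowers b)⟩,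
    by rw [Subgroup.orderOf_mk, ha], by rw [Subgroup.orderOf_mk, hb], Subtype.ext ?_⟩
  simpa using hba

end Abstract

section Matrices

variable {F : Type*} [Field F]

/-- The monomial group generated by a root of unity. -/
def monoMat {w : ℕ} (ζ : Fˣ) (p : Wr w) : Matrix (Fin 2) (Fin 2) F :=
  if p.e then !![0, (ζ : F) ^ p.a.val; (ζ : F) ^ p.b.val, 0]
    else !![(ζ : F) ^ p.a.val, 0; 0, (ζ : F) ^ p.b.val]

theorem pow_val_add {w : ℕ} {ζ : Fˣ} (hζ : orderOf ζ = 2 ^ w) (x y : ZMod (2 ^ w)) :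
    (ζ : F) ^ (x + y).val = (ζ : F) ^ x.val * (ζ : F) ^ y.val := by
  have h : ∀ a : ℕ, ζ ^ (a % 2 ^ w) = ζ ^ a := fun a => by rw [← hζ, pow_mod_orderOf]
  rw [← Units.val_pow_eq_pow_val, ← Units.val_pow_eq_pow_val, ← Units.val_pow_eq_pow_val,
    ← Units.val_mul, ← pow_add, ZMod.val_add, h]

/-- The monomial representation. -/
noncomputable def monoHom {w : ℕ} (ζ : Fˣ) (hζ : orderOf ζ = 2 ^ w) : Wr w →* GL (Fin 2) F :=
  MonoidHom.toHomUnits
    { toFun := monoMat ζ
      map_one' := by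
        ext i j
        fin_cases i <;> fin_cases j <;> simp [monoMat]
      map_mul' := fun p q => by
        rcases p with ⟨a, b, _ | _⟩ <;> rcases q with ⟨c, d, _ | _⟩ <;>
          simp [monoMat, pow_val_add hζ, Matrix.mul_fin_two, mul_comm] }

theorem monoHom_coe {w : ℕ} (ζ : Fˣ) (hζ : orderOf ζ = 2 ^ w) (p : Wr w) :
    ((monoHom ζ hζ p : GL (Fin 2) F) : Matrix (Fin 2) (Fin 2) F) = monoMat ζ p := rfl

theorem monoHom_injective {w : ℕ} (ζ : Fˣ) (hζ : orderOf ζ = 2 ^ w) :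
    Function.Injective (monoHom ζ hζ) := by
  have hval : ∀ x : ZMod (2 ^ w), (ζ : F) ^ x.val = 1 → x = 0 := fun x h => by
    rw [← Units.val_pow_eq_pow_val, Units.val_eq_one] at h
    have h1 := orderOf_dvd_of_pow_eq_one h
    rw [hζ] at h1
    exact (ZMod.val_eq_zero x).mp (Nat.eq_zero_of_dvd_of_lt h1 (ZMod.val_lt x))
  rw [injective_iff_map_eq_one]
  intro p hp
  have h := congrArg (fun g : GL (Fin 2) F => (g : Matrix (Fin 2) (Fin 2) F)) hp
  simp only [monoHom_coe, Units.val_one] at h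
  rcases p with ⟨a, b, _ | _⟩
  · have h0 := congrFun (congrFun h 0) 0
    have h1 := congrFun (congrFun h 1) 1
    simp [monoMat] at h0 h1
    exact Wr.ext (hval a h0) (hval b h1) rfl
  · have h0 := congrFun (congrFun h 0) 0
    simp [monoMat] at h0

theorem exists_orderOf_units [Fintype F] {d : ℕ} (hd : d ∣ Fintype.card F - 1) :
    ∃ ζ : Fˣ, orderOf ζ = d := by
  classical
  obtain ⟨g, hg⟩ := IsCyclic.exists_generator (α := Fˣ)
  have hgo : orderOf g = Fintype.card F - 1 := by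
    rw [orderOf_eq_card_of_forall_mem_zpowers hg, Nat.card_eq_fintype_card, Fintype.card_units]
  obtain ⟨e, he⟩ := hd
  refine ⟨g ^ e, ?_⟩
  have hpos : 0 < Fintype.card F - 1 := by have := Fintype.one_lt_card (α := F); omega
  have he0 : e ≠ 0 := by rintro rfl; simp at he; omega
  rw [orderOf_pow' _ he0, hgo, Nat.gcd_eq_right (Dvd.intro_left _ he.symm), he,
    Nat.mul_div_cancel _ (Nat.pos_of_ne_zero he0)]

theorem card_GL_two [Fintype F] :
    Nat.card (GL (Fin 2) F) = (Fintype.card F ^ 2 - 1) * (Fintype.card F ^ 2 - Fintype.card F) := by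
  rw [Matrix.card_GL_field, Fin.prod_univ_two]
  simp

/-- Sylow 2-subgroups of `GL₂(q)`, `q ≡ 1 (mod 4)`. -/
theorem gl_wreathed [Fintype F] (P : Sylow 2 (GL (Fin 2) F)) (hq : Fintype.card F % 4 = 1) :
    Cfsg.IsWreathed (P : Subgroup (GL (Fin 2) F)) := by
  have h2 := Fintype.one_lt_card (α := F)
  set q := Fintype.card F
  obtain ⟨w, m, hm, hwm⟩ := Nat.exists_eq_two_pow_mul_odd (n := q - 1) (by omega)
  have hw : 2 ≤ w := by
    by_contra h
    obtain ⟨k, rfl⟩ := hm
    rcases (show w = 0 ∨ w = 1 by omega) with rfl | rfl <;> simp at hwm <;> omega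
  obtain ⟨ζ, hζ⟩ := exists_orderOf_units (F := F) (show 2 ^ w ∣ q - 1 from Dvd.intro _ hwm.symm)
  refine isWreathed_sylow P hw (monoHom ζ hζ) (monoHom_injective ζ hζ) ?_
  obtain ⟨r, hr⟩ : ∃ r, q + 1 = 2 * r ∧ Odd r := ⟨(q + 1) / 2, by omega, Nat.odd_iff.mpr (by omega)⟩
  have hqo : Odd q := Nat.odd_iff.mpr (by omega)
  have e : (q ^ 2 - 1) * (q ^ 2 - q) = 2 ^ (2 * w + 1) * (m * r * (m * q)) := by
    rw [show q ^ 2 - 1 = (q + 1) * (q - 1) by
        rw [← Nat.sq_sub_sq, one_pow],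
      show q ^ 2 - q = q * (q - 1) by rw [pow_two, Nat.mul_sub_one], hwm, hr.1]
    ring
  rw [card_GL_two, e, factorization_two ((hm.mul hr.2).mul (hm.mul hqo))]

/-- Sylow 2-subgroups of `GL₂(q)`, `q ≡ 3 (mod 4)`. -/
theorem gl_quasiDihedral [Fintype F] (P : Sylow 2 (GL (Fin 2) F)) (hq : Fintype.card F % 4 = 3) :
    Cfsg.IsQuasiDihedral (P : Subgroup (GL (Fin 2) F)) := by
  classical
  set q := Fintype.card F with hqdef
  obtain ⟨v, m, hm, hvm⟩ := Nat.exists_eq_two_pow_mul_odd (n := q + 1) (by omega)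
  have hv : 2 ≤ v := by
    by_contra h
    obtain ⟨k, rfl⟩ := hm
    rcases (show v = 0 ∨ v = 1 by omega) with rfl | rfl <;> simp at hvm <;> omega
  have hns : ∀ x : F, x * x ≠ -1 := fun x hx =>
    (FiniteField.isSquare_neg_one_iff.mp ⟨x, hx.symm⟩) hq
  obtain ⟨p, hchar⟩ := CharP.exists F
  haveI := hchar
  obtain ⟨k, hp, hqp⟩ := FiniteField.card F p
  haveI : Fact p.Prime := ⟨hp⟩
  haveI : CharP (AlgebraicClosure F) p := charP_of_injective_algebraMap' F p
  obtain ⟨s, hs⟩ := IsAlgClosed.exists_pow_nat_eq (-1 : AlgebraicClosure F) two_pos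
  set al := algebraMap F (AlgebraicClosure F)
  have hsq : s * s = -1 := by rw [← pow_two, hs]
  let T : Subgroup (GL (Fin 2) F) :=
    { carrier := {g | g.val 0 0 = g.val 1 1 ∧ g.val 0 1 = - g.val 1 0}
      one_mem' := by simp
      mul_mem' := fun {g h} hg hh => by
        simp only [Set.mem_setOf_eq, Units.val_mul, Matrix.mul_apply, Fin.sum_univ_two] at hg hh ⊢
        rw [hg.1, hg.2, hh.1, hh.2]
        constructor <;> ring
      inv_mem' := fun {g} hg => by
        simp only [Set.mem_setOf_eq, Matrix.coe_units_inv, Matrix.inv_def, Matrix.adjugate_fin_two] at hg ⊢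
        simp [hg.1, hg.2] }
  let φ : T →* AlgebraicClosure F :=
    { toFun := fun g : T => al ((g : GL (Fin 2) F).val 0 0) + al ((g : GL (Fin 2) F).val 1 0) * s
      map_one' := by simp
      map_mul' := fun g h => by
        show al _ + al _ * s = (al _ + al _ * s) * (al _ + al _ * s)
        obtain ⟨hg1, hg2⟩ := g.2
        simp only [Subgroup.coe_mul, Units.val_mul, Matrix.mul_apply, Fin.sum_univ_two, hg1, hg2,
          map_add, map_mul, map_neg]
        linear_combination -(al ((g : GL (Fin 2) F).val 1 0) * al ((h : GL (Fin 2) F).val 1 0)) * hsq }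
  have hzero : ∀ x y : F, al x + al y * s = 0 → x = 0 ∧ y = 0 := by
    intro x y h
    by_cases hy : y = 0
    · subst hy
      simp only [map_zero, zero_mul, add_zero] at h
      exact ⟨(map_eq_zero al).mp h, rfl⟩
    · exfalso
      have hs' : s = al (-x / y) := by
        rw [map_div₀, map_neg, eq_div_iff ((map_ne_zero al).mpr hy)]
        linear_combination h
      refine hns (-x / y) (al.injective ?_)
      rw [map_mul, ← hs', hsq, map_neg, map_one]
  have hφ : Function.Injective φ := by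
    intro g h hgh
    have hgh' : al ((g : GL (Fin 2) F).val 0 0) + al ((g : GL (Fin 2) F).val 1 0) * s =
        al ((h : GL (Fin 2) F).val 0 0) + al ((h : GL (Fin 2) F).val 1 0) * s := hgh
    obtain ⟨e1, e2⟩ := hzero ((g : GL (Fin 2) F).val 0 0 - (h : GL (Fin 2) F).val 0 0)
      ((g : GL (Fin 2) F).val 1 0 - (h : GL (Fin 2) F).val 1 0) (by
        rw [map_sub, map_sub]; linear_combination hgh')
    rw [sub_eq_zero] at e1 e2
    obtain ⟨hg1, hg2⟩ := g.2
    obtain ⟨hh1, hh2⟩ := h.2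
    refine Subtype.ext (Units.ext ?_)
    ext i j
    fin_cases i <;> fin_cases j
    · exact e1
    · show (g : GL (Fin 2) F).val 0 1 = (h : GL (Fin 2) F).val 0 1
      rw [hg2, hh2, e2]
    · exact e2
    · show (g : GL (Fin 2) F).val 1 1 = (h : GL (Fin 2) F).val 1 1
      rw [← hg1, ← hh1, e1]
  haveI : IsCyclic T := isCyclic_of_injective_ringHom φ hφ
  have hdet : ∀ z : {z : F × F // z ≠ 0}, (!![z.1.1, -z.1.2; z.1.2, z.1.1]).det ≠ 0 := by
    rintro ⟨⟨x, y⟩, hz⟩ h
    simp only [Matrix.det_fin_two_of] at h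
    have h' : (al x + al y * s) * (al x - al y * s) = 0 := by
      have h1 := congrArg al h
      simp only [map_sub, map_mul, map_neg, map_zero] at h1
      linear_combination h1 - al y * al y * hsq
    rcases mul_eq_zero.mp h' with h2 | h2
    · obtain ⟨rfl, rfl⟩ := hzero _ _ h2
      exact hz rfl
    · obtain ⟨h3, h4⟩ := hzero x (-y) (by rw [map_neg]; linear_combination h2)
      exact hz (Prod.ext h3 (neg_eq_zero.mp h4))
  have hcT : Nat.card T = q * q - 1 := by
    let e : T ≃ {z : F × F // z ≠ 0} :=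
      { toFun := fun g => ⟨((g : GL (Fin 2) F).val 0 0, (g : GL (Fin 2) F).val 1 0), fun h => by
          have h0 := congrArg Prod.fst h
          have h1 := congrArg Prod.snd h
          simp only [Prod.fst_zero, Prod.snd_zero] at h0 h1
          have hu : IsUnit (g : GL (Fin 2) F).val.det := (Matrix.isUnit_iff_isUnit_det _).mp (g : GL (Fin 2) F).isUnit
          rw [Matrix.det_fin_two, h0, h1] at hu
          simp at hu⟩
        invFun := fun z => ⟨Matrix.GeneralLinearGroup.mkOfDetNeZero _ (hdet z), by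
          constructor <;> simp [Matrix.GeneralLinearGroup.mkOfDetNeZero]⟩
        left_inv := fun g => by
          obtain ⟨hg1, hg2⟩ := g.2
          refine Subtype.ext (Units.ext ?_)
          ext i j
          fin_cases i <;> fin_cases j <;>
            simp [Matrix.GeneralLinearGroup.mkOfDetNeZero, hg1, hg2]
        right_inv := fun z => by
          refine Subtype.ext ?_
          simp [Matrix.GeneralLinearGroup.mkOfDetNeZero] }
    rw [Nat.card_congr e, Nat.card_eq_fintype_card, Fintype.card_subtype_compl,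
      Fintype.card_subtype_eq, Fintype.card_prod]
  obtain ⟨g, hg⟩ := IsCyclic.exists_generator (α := T)
  have hgo : orderOf g = q * q - 1 := by rw [orderOf_eq_card_of_forall_mem_zpowers hg, hcT]
  have hqm : q * q - 1 = 2 ^ (v + 1) * (m * ((q - 1) / 2)) := by
    have h1 : q * q - 1 = (q + 1) * (q - 1) := by
      rw [← Nat.sq_sub_sq, pow_two, one_pow]
    have h2 : q - 1 = 2 * ((q - 1) / 2) := by omega
    rw [h1, hvm]
    nth_rewrite 1 [h2]
    ring
  set n₀ := m * ((q - 1) / 2)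
  have hn0 : n₀ ≠ 0 := Nat.mul_ne_zero hm.pos.ne' (by omega)
  set t := g ^ n₀ with ht
  have hto : orderOf t = 2 ^ (v + 1) := by
    rw [ht, orderOf_pow' _ hn0, hgo, hqm, Nat.gcd_eq_right (dvd_mul_left _ _),
      Nat.mul_div_cancel _ (Nat.pos_of_ne_zero hn0)]
  let b : GL (Fin 2) F := Matrix.GeneralLinearGroup.mkOfDetNeZero !![1, 0; 0, -1] (by simp)
  have hbb : b * b = 1 := by
    refine Units.ext ?_
    simp [b, Matrix.GeneralLinearGroup.mkOfDetNeZero, Matrix.mul_fin_two, Matrix.one_fin_two]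
  have hm1 : (-1 : F) ≠ 1 := fun h => hns 1 (by rw [mul_one]; exact h.symm)
  have hbT : b ∉ T := fun h => hm1 (by simpa [b, Matrix.GeneralLinearGroup.mkOfDetNeZero] using h.1.symm)
  have hord : orderOf b = 2 :=
    orderOf_eq_prime (by rw [pow_two, hbb]) fun h => hbT (h ▸ one_mem T)
  have hbtT : ∀ u : T, b * (u : GL (Fin 2) F) * b⁻¹ ∈ T ∧
      ((b * (u : GL (Fin 2) F) * b⁻¹).val 0 0 = (u : GL (Fin 2) F).val 0 0 ∧
        (b * (u : GL (Fin 2) F) * b⁻¹).val 1 0 = - (u : GL (Fin 2) F).val 1 0) := by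
    intro u
    obtain ⟨h1, h2⟩ := u.2
    rw [inv_eq_of_mul_eq_one_right hbb]
    refine ⟨?_, ?_, ?_⟩
    · constructor <;>
        simp [b, Matrix.GeneralLinearGroup.mkOfDetNeZero, Matrix.mul_apply, Fin.sum_univ_two, Matrix.vecMul, dotProduct, h1, h2]
    · simp [b, Matrix.GeneralLinearGroup.mkOfDetNeZero, Matrix.mul_apply, Fin.sum_univ_two, Matrix.vecMul, dotProduct]
    · simp [b, Matrix.GeneralLinearGroup.mkOfDetNeZero, Matrix.mul_apply, Fin.sum_univ_two, Matrix.vecMul, dotProduct]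
  have hconj : ∀ u : T, (⟨b * u * b⁻¹, (hbtT u).1⟩ : T) = u ^ q := by
    intro u
    apply hφ
    rw [map_pow]
    show al ((b * (u : GL (Fin 2) F) * b⁻¹).val 0 0) + al ((b * (u : GL (Fin 2) F) * b⁻¹).val 1 0) * s =
      (al ((u : GL (Fin 2) F).val 0 0) + al ((u : GL (Fin 2) F).val 1 0) * s) ^ q
    rw [(hbtT u).2.1, (hbtT u).2.2, hqdef, hqp, add_pow_char_pow, mul_pow, ← map_pow, ← map_pow,
      ← hqp, FiniteField.pow_card, FiniteField.pow_card, map_neg]
    obtain ⟨j, hj⟩ : ∃ j, q = 4 * j + 3 := ⟨q / 4, by omega⟩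
    rw [← hqdef, hj, pow_add, pow_mul, show s ^ 4 = 1 by linear_combination (s * s - 1) * hsq, one_pow,
      one_mul, show s ^ 3 = -s by linear_combination s * hsq]
    ring
  refine isQuasiDihedral_sylow P hv (t : GL (Fin 2) F) b (by rw [Subgroup.orderOf_coe, hto]) hord ?_
    (fun h => hbT ((zpowers_le.mpr t.2) h)) ?_
  · have h := congrArg (fun u : T => (u : GL (Fin 2) F)) (hconj t)
    simp only [SubgroupClass.coe_pow] at h
    rw [h, pow_eq_pow_iff_modEq, Subgroup.orderOf_coe, hto]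
    obtain ⟨j, hj⟩ := hm
    have hq' : q = 2 ^ v - 1 + 2 ^ (v + 1) * j := by
      rw [hj, show 2 ^ v * (2 * j + 1) = 2 ^ (v + 1) * j + 2 ^ v by ring] at hvm
      have := Nat.two_pow_pos v
      omega
    rw [hq']
    rw [Nat.ModEq, Nat.add_mul_mod_self_left]
  · rw [card_GL_two, ← hqdef]
    obtain ⟨r, hr, hro⟩ : ∃ r, q - 1 = 2 * r ∧ Odd r := ⟨(q - 1) / 2, by omega, Nat.odd_iff.mpr (by omega)⟩
    have hqo : Odd q := Nat.odd_iff.mpr (by omega)
    have e : (q ^ 2 - 1) * (q ^ 2 - q) = 2 ^ (v + 2) * (m * r * (r * q)) := by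
      rw [show q ^ 2 - 1 = (q + 1) * (q - 1) by rw [← Nat.sq_sub_sq, one_pow],
        show q ^ 2 - q = q * (q - 1) by rw [pow_two, Nat.mul_sub_one], hvm, hr]
      ring
    rw [e, factorization_two ((hm.mul hro).mul (hro.mul hqo))]

theorem card_GU_two [Fintype F] {q : ℕ} (hF : Fintype.card F = q ^ 2) :
    Nat.card (Cfsg.GU 2 F q) = q * ((q + 1) * (q ^ 2 - 1)) := by
  rw [Cfsg.Lib.Classical.card_GU hF]
  simp [Cfsg.Lib.Classical.cardGUFormula, Finset.prod_range_succ]

theorem mem_preserving_of_cols [Fintype F] {q : ℕ} (hF : Fintype.card F = q ^ 2)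
    (g : GL (Fin 2) F)
    (h00 : g.val 0 0 * g.val 0 0 ^ q + g.val 1 0 * g.val 1 0 ^ q = 1)
    (h11 : g.val 0 1 * g.val 0 1 ^ q + g.val 1 1 * g.val 1 1 ^ q = 1)
    (h01 : g.val 0 0 * g.val 0 1 ^ q + g.val 1 0 * g.val 1 1 ^ q = 0)
    (h10 : g.val 0 1 * g.val 0 0 ^ q + g.val 1 1 * g.val 1 0 ^ q = 0) :
    g ∈ Cfsg.GU 2 F q := by
  intro u v
  have hadd : ∀ x y : F, (x + y) ^ q = x ^ q + y ^ q := fun x y => by
    rw [← Cfsg.Lib.Classical.powConj_apply hF, ← Cfsg.Lib.Classical.powConj_apply hF,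
      ← Cfsg.Lib.Classical.powConj_apply hF, map_add]
  simp only [Units.coeHom_apply, Cfsg.hermForm, Fin.sum_univ_two, Matrix.mulVec, dotProduct, hadd, mul_pow]
  linear_combination (u 0 * v 0 ^ q) * h00 + (u 1 * v 1 ^ q) * h11 + (u 0 * v 1 ^ q) * h01 +
    (u 1 * v 0 ^ q) * h10

/-- Sylow 2-subgroups of `GU₂(q)`, `q ≡ 3 (mod 4)`. -/
theorem gu_wreathed [Fintype F] {q : ℕ} (hF : Fintype.card F = q ^ 2) (hq : q % 4 = 3)
    (P : Sylow 2 (Cfsg.GU 2 F q)) : Cfsg.IsWreathed (P : Subgroup (Cfsg.GU 2 F q)) := by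
  obtain ⟨w, m, hm, hwm⟩ := Nat.exists_eq_two_pow_mul_odd (n := q + 1) (by omega)
  have hw : 2 ≤ w := by
    by_contra h
    obtain ⟨k, rfl⟩ := hm
    rcases (show w = 0 ∨ w = 1 by omega) with rfl | rfl <;> simp at hwm <;> omega
  have hsq : q ^ 2 - 1 = (q + 1) * (q - 1) := by rw [← Nat.sq_sub_sq, one_pow]
  obtain ⟨ζ, hζ⟩ := exists_orderOf_units (F := F) (show 2 ^ w ∣ Fintype.card F - 1 by
    rw [hF, hsq, hwm]; exact dvd_mul_of_dvd_left (dvd_mul_right _ _) _)
  have hnorm : ∀ k : ℕ, (ζ : F) ^ k * ((ζ : F) ^ k) ^ q = 1 := fun k => by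
    rw [← pow_mul, ← pow_add, show k + k * q = (q + 1) * k by ring, pow_mul, ← Units.val_pow_eq_pow_val,
      hwm, pow_mul, ← hζ, pow_orderOf_eq_one, one_pow, Units.val_one, one_pow]
  have hq0 : (0 : F) ^ q = 0 := zero_pow (by omega)
  have hin : ∀ p : Wr w, monoHom ζ hζ p ∈ Cfsg.GU 2 F q := by
    intro p
    refine mem_preserving_of_cols hF _ ?_ ?_ ?_ ?_ <;> rw [monoHom_coe] <;>
      rcases p with ⟨a, b, _ | _⟩ <;> simp [monoMat, hnorm, hq0]
  refine isWreathed_sylow P hw ((monoHom ζ hζ).codRestrict _ hin)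
    ((MonoidHom.injective_codRestrict _ _ hin).mpr (monoHom_injective ζ hζ)) ?_
  obtain ⟨r, hr, hro⟩ : ∃ r, q - 1 = 2 * r ∧ Odd r := ⟨(q - 1) / 2, by omega, Nat.odd_iff.mpr (by omega)⟩
  have hqo : Odd q := Nat.odd_iff.mpr (by omega)
  rw [card_GU_two hF, hsq, hwm, hr,
    show q * (2 ^ w * m * (2 ^ w * m * (2 * r))) = 2 ^ (2 * w + 1) * (q * (m * (m * r))) by ring,
    factorization_two (hqo.mul (hm.mul (hm.mul hro)))]

/-- Sylow 2-subgroups of `GU₂(q)`, `q ≡ 1 (mod 4)`. -/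
theorem gu_quasiDihedral [Fintype F] {q : ℕ} (hF : Fintype.card F = q ^ 2) (hq : q % 4 = 1)
    (P : Sylow 2 (Cfsg.GU 2 F q)) : Cfsg.IsQuasiDihedral (P : Subgroup (Cfsg.GU 2 F q)) := by
  classical
  have hF1 := Fintype.one_lt_card (α := F)
  have hq1 : q ≠ 1 := fun h => by simp [h] at hF; omega
  obtain ⟨v, m, hm, hvm⟩ := Nat.exists_eq_two_pow_mul_odd (n := q - 1) (by omega)
  have hv : 2 ≤ v := by
    by_contra h
    obtain ⟨k, rfl⟩ := hm
    rcases (show v = 0 ∨ v = 1 by omega) with rfl | rfl <;> simp at hvm <;> omega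
  have hsq : q ^ 2 - 1 = (q + 1) * (q - 1) := by rw [← Nat.sq_sub_sq, one_pow]
  obtain ⟨r, hr, hro⟩ : ∃ r, q + 1 = 2 * r ∧ Odd r := ⟨(q + 1) / 2, by omega, Nat.odd_iff.mpr (by omega)⟩
  have hqo : Odd q := Nat.odd_iff.mpr (by omega)
  set σ := Cfsg.Lib.Classical.powConj hF
  have hσ : ∀ x : F, σ x = x ^ q := Cfsg.Lib.Classical.powConj_apply hF
  have hfix : ∀ x : F, σ (σ x) = x := (Cfsg.Lib.Classical.powConj_isConj hF).invol
  -- a unit of norm `-1`
  obtain ⟨c₁, hc₁⟩ := exists_orderOf_units (F := F) (show 2 * (q + 1) ∣ Fintype.card F - 1 by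
    rw [hF, hsq, mul_comm (2 : ℕ)]
    exact mul_dvd_mul_left _ (by omega))
  set c : F := (c₁ : F) with hc
  have hc0 : c ≠ 0 := c₁.ne_zero
  have hcq : c ^ q * c = -1 := by
    rw [← pow_succ, hc, ← Units.val_pow_eq_pow_val]
    have h1 : ((c₁ ^ (q + 1) : Fˣ) : F) ^ 2 = 1 := by
      rw [← Units.val_pow_eq_pow_val, ← pow_mul, mul_comm, ← hc₁, pow_orderOf_eq_one, Units.val_one]
    rcases sq_eq_one_iff.mp h1 with h | h
    · exfalso
      have h2 := orderOf_dvd_of_pow_eq_one (Units.val_eq_one.mp h)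
      rw [hc₁] at h2
      have := Nat.le_of_dvd (by omega) h2
      omega
    · exact h
  have h2F : (2 : F) ≠ 0 := by
    intro h
    have hone : (-1 : F) = 1 := by linear_combination -h
    have h1 : c ^ (q + 1) = 1 := by rw [pow_succ, hcq, hone]
    rw [hc, ← Units.val_pow_eq_pow_val, Units.val_eq_one] at h1
    have h2 := orderOf_dvd_of_pow_eq_one h1
    rw [hc₁] at h2
    have := Nat.le_of_dvd (by omega) h2
    omega
  have hσ2 : σ 2 = 2 := map_ofNat σ 2
  have hσc : σ c = -c⁻¹ := by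
    rw [hσ, eq_neg_iff_add_eq_zero]
    field_simp
    linear_combination hcq
  -- the image of the diagonal torus
  let mu : Fˣ →* F :=
    { toFun := fun l => (σ (l : F))⁻¹
      map_one' := by simp
      map_mul' := fun a b => by simp [mul_comm] }
  let mat : Fˣ → Matrix (Fin 2) (Fin 2) F := fun l =>
    !![((l : F) + mu l) / 2, (((l : F) - mu l) / 2) / c; c * (((l : F) - mu l) / 2), ((l : F) + mu l) / 2]
  let τ : Fˣ →* GL (Fin 2) F := MonoidHom.toHomUnits
    { toFun := mat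
      map_one' := by
        ext i j
        fin_cases i <;> fin_cases j <;> simp [mat, one_add_one_eq_two, h2F]
      map_mul' := fun a b => by
        ext i j
        fin_cases i <;> fin_cases j <;>
          simp [mat, Matrix.mul_apply, Fin.sum_univ_two] <;> field_simp <;> ring }
  have hτv : ∀ l, (τ l : Matrix (Fin 2) (Fin 2) F) = mat l := fun l => rfl
  have hτin : ∀ l, τ l ∈ Cfsg.GU 2 F q := by
    intro l
    have hl : (l : F) ≠ 0 := l.ne_zero
    have hσl : σ (l : F) ≠ 0 := (map_ne_zero σ).mpr hl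
    refine mem_preserving_of_cols hF _ ?_ ?_ ?_ ?_ <;> simp only [hτv, ← hσ] <;>
      simp [mat, mu, hσ2, hσc, hfix] <;> field_simp <;> ring
  have hτinj : Function.Injective τ := by
    intro a b h
    have h' : mat a = mat b := congrArg Units.val h
    have h0 := congrFun (congrFun h' 0) 0
    have h1 := congrFun (congrFun h' 1) 0
    simp [mat, h2F, hc0] at h0 h1
    refine Units.ext (mul_left_cancel₀ h2F ?_)
    linear_combination h0 + h1
  obtain ⟨l, hl⟩ := exists_orderOf_units (F := F) (show 2 ^ (v + 1) ∣ Fintype.card F - 1 by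
    rw [hF, hsq, hr, hvm, pow_succ, show 2 * r * (2 ^ v * m) = 2 ^ v * 2 * (r * m) by ring]
    exact dvd_mul_right _ _)
  let b : GL (Fin 2) F := Matrix.GeneralLinearGroup.mkOfDetNeZero !![1, 0; 0, -1] (by simp)
  have hq0 : (0 : F) ^ q = 0 := zero_pow (by omega)
  have hbin : b ∈ Cfsg.GU 2 F q := by
    refine mem_preserving_of_cols hF _ ?_ ?_ ?_ ?_ <;>
      simp [b, Matrix.GeneralLinearGroup.mkOfDetNeZero, hq0, hqo.neg_pow]
  have hbb : b * b = 1 := by
    refine Units.ext ?_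
    simp [b, Matrix.GeneralLinearGroup.mkOfDetNeZero, Matrix.mul_fin_two, Matrix.one_fin_two]
  have hm1 : (-1 : F) ≠ 1 := fun h => h2F (by linear_combination -h)
  have hbnot : ∀ x, τ x ≠ b := fun x h => hm1 (by
    have h' : mat x = (b : Matrix (Fin 2) (Fin 2) F) := congrArg Units.val h
    have h0 := congrFun (congrFun h' 0) 0
    have h1 := congrFun (congrFun h' 1) 1
    simp [ mat, b, Matrix.GeneralLinearGroup.mkOfDetNeZero] at h0 h1
    linear_combination h0 - h1)
  have hbo : orderOf b = 2 :=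
    orderOf_eq_prime (by rw [pow_two, hbb]) fun h => hbnot 1 (by rw [h, map_one])
  have hbτ : b * τ l * b⁻¹ = τ ((l ^ q)⁻¹) := by
    rw [inv_eq_of_mul_eq_one_right hbb]
    refine Units.ext ?_
    have hmu : mu (l ^ q)⁻¹ = (l : F) := by simp [mu, ← hσ, hfix]
    have hval : (((l ^ q)⁻¹ : Fˣ) : F) = mu l := by simp [mu, hσ]
    rw [Units.val_mul, Units.val_mul, hτv, hτv]
    ext i j
    fin_cases i <;> fin_cases j <;>
      simp only [mat, hmu, hval] <;>
      simp [b, Matrix.GeneralLinearGroup.mkOfDetNeZero, Matrix.mul_apply, Fin.sum_univ_two, mat, hmu,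
        hval] <;> ring
  refine isQuasiDihedral_sylow P hv (⟨τ l, hτin l⟩ : Cfsg.GU 2 F q) ⟨b, hbin⟩
    (by rw [Subgroup.orderOf_mk, orderOf_injective τ hτinj, hl]) (by rw [Subgroup.orderOf_mk, hbo]) ?_ ?_ ?_
  · refine Subtype.ext ?_
    show b * τ l * b⁻¹ = τ l ^ (2 ^ v - 1)
    rw [hbτ, ← map_pow]
    congr 1
    rw [inv_eq_iff_mul_eq_one, ← pow_add, ← orderOf_dvd_iff_pow_eq_one, hl]
    obtain ⟨j, hj⟩ := hm
    rw [show q + (2 ^ v - 1) = 2 ^ (v + 1) * (j + 1) by
      rw [hj, show 2 ^ v * (2 * j + 1) = 2 ^ (v + 1) * j + 2 ^ v by ring] at hvm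
      rw [mul_add, mul_one, pow_succ] at *
      have := Nat.two_pow_pos v
      omega]
    exact dvd_mul_right _ _
  · rintro ⟨i, hi⟩
    have h := congrArg Subtype.val hi
    simp only [SubgroupClass.coe_zpow] at h
    exact hbnot (l ^ i) (by rw [map_zpow]; exact h)
  · rw [card_GU_two hF, hsq, hr, hvm,
      show q * (2 * r * (2 * r * (2 ^ v * m))) = 2 ^ (v + 2) * (q * (r * (r * m))) by ring,
      factorization_two (hqo.mul (hro.mul (hro.mul hm)))]

end Matrices

end Cfsg.Lib.SylowTwo
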