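/-
Groups with quasi-dihedral or wreathed Sylow 2-subgroups, no subgroup of index two and no odd normal
subgroup have a simple normal subgroup of odd index.
-/
import Cfsg.Agent.TwoFusion.QGroupCentralizer
import Cfsg.Agent.TwoFusion.SylowLinearTwo
import Cfsg.Agent.Components.PComponents

set_option autoImplicit false
set_option linter.unusedSectionVars false

namespace Cfsg.Lib.NoIndexTwoSimple

open Subgroup Cfsg.Lib.TwoFusion

universe u

variable {G : Type u} [Group G] [Finite G]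

theorem exists_index_two_of_two_quotient (N : Subgroup G) [N.Normal] {k : ℕ} (hk : N.index = 2 ^ (k + 1)) :
    ∃ H : Subgroup G, H.index = 2 := by
  have : Fact (Nat.Prime 2) := ⟨Nat.prime_two⟩
  obtain ⟨L, hL⟩ := Sylow.exists_subgroup_card_pow_prime (G := G ⧸ N) 2 (n := k)
    (by rw [← index_eq_card, hk]; exact pow_dvd_pow 2 (Nat.le_succ k))
  refine ⟨L.comap (QuotientGroup.mk' N), ?_⟩
  rw [index_comap_of_surjective _ (QuotientGroup.mk'_surjective N)]
  have h := L.card_mul_index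
  rw [hL, ← index_eq_card, hk, pow_succ] at h
  exact Nat.eq_of_mul_eq_mul_left (Nat.two_pow_pos k) h

theorem exists_involution {N : Subgroup G} (h : Even (Nat.card N)) : ∃ a ∈ N, orderOf a = 2 := by
  have : Fact (Nat.Prime 2) := ⟨Nat.prime_two⟩
  obtain ⟨a, ha⟩ := exists_prime_orderOf_dvd_card' (G := N) 2 h.two_dvd
  exact ⟨a, a.2, (orderOf_coe a).trans ha⟩

theorem even_of_ne_bot (hO : Cfsg.pPrimeCore 2 G = ⊥) {N : Subgroup G} [N.Normal] (hN : N ≠ ⊥) :
    Even (Nat.card N) := by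
  by_contra h
  exact hN (eq_bot_iff.2 (hO ▸ Cfsg.Lib.Components.le_pPrimeCore (N := N)
    (Nat.coprime_two_right.2 (Nat.not_even_iff_odd.1 h))))

/-- The engine. -/
theorem exists_simple (hG : ∀ H : Subgroup G, H.index ≠ 2) (hO : Cfsg.pPrimeCore 2 G = ⊥) (S : Sylow 2 G)
    (hone : ∀ x y : G, orderOf x = 2 → orderOf y = 2 → IsConj x y)
    (hnc : ∃ u v : G, orderOf u = 2 ∧ orderOf v = 2 ∧ u * v ≠ v * u)
    (hgen : ∃ x t : G, orderOf t = 2 ∧ (S : Subgroup G) ≤ closure {x, t}) :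
    ∃ L : Subgroup G, L.Normal ∧ Odd L.index ∧ IsSimpleGroup L ∧ ¬ IsMulCommutative L := by
  classical
  have : Fact (Nat.Prime 2) := ⟨Nat.prime_two⟩
  obtain ⟨u, v, hu, hv, huv⟩ := hnc
  have hall : ∀ N : Subgroup G, N.Normal → N ≠ ⊥ → ∀ y : G, orderOf y = 2 → y ∈ N := by
    intro N hN hN1 y hy
    obtain ⟨a, ha, ha2⟩ := exists_involution (even_of_ne_bot hO hN1)
    obtain ⟨c, hc⟩ := isConj_iff.1 (hone a y ha2 hy)
    exact hc ▸ hN.conj_mem a ha c
  have hne : (⊤ : Subgroup G) ≠ ⊥ := fun h => by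
    have h1 : u ∈ (⊥ : Subgroup G) := h ▸ mem_top u
    rw [mem_bot.1 h1, orderOf_one] at hu
    norm_num at hu
  obtain ⟨L, ⟨hLn, hL1⟩, hmin⟩ := exists_minimalFor_of_wellFoundedLT (fun N : Subgroup G => N.Normal ∧ N ≠ ⊥)
    (fun N : Subgroup G => Nat.card N) ⟨⊤, inferInstance, hne⟩
  have hmin' : ∀ N : Subgroup G, N.Normal → N ≠ ⊥ → N ≤ L → N = L := fun N hN hN1 hle =>
    eq_of_le_of_card_ge hle (hmin (j := N) ⟨hN, hN1⟩ (card_le_of_le hle))
  have hinv := hall L hLn hL1
  have hncomm : ¬ IsMulCommutative L := fun h =>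
    huv (congrArg Subtype.val (h.is_comm.comm ⟨u, hinv u hu⟩ ⟨v, hinv v hv⟩))
  refine ⟨L, hLn, ?_, ?_, hncomm⟩
  · -- odd index
    obtain ⟨x, t, ht, hS⟩ := hgen
    set π := QuotientGroup.mk' L
    set P : Sylow 2 (G ⧸ L) := S.mapSurjective (QuotientGroup.mk'_surjective L)
    have hPle : (P : Subgroup (G ⧸ L)) ≤ zpowers (π x) := by
      rw [Sylow.coe_mapSurjective]
      refine (map_mono hS).trans ?_
      rw [MonoidHom.map_closure, closure_le]
      rintro _ ⟨y, hy, rfl⟩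
      rcases hy with rfl | rfl
      · exact mem_zpowers _
      · rw [show π y = 1 from (QuotientGroup.eq_one_iff y).2 (hinv y ht)]
        exact one_mem _
    have : IsCyclic (P : Subgroup (G ⧸ L)) :=
      (Subgroup.subgroupOfEquivOfLe hPle).isCyclic.mp inferInstance
    obtain ⟨R, N, hN, hNR⟩ := hasNormalTwoComplement_of_cyclic P
    obtain ⟨k, hk⟩ := IsPGroup.iff_card.mp R.isPGroup'
    rcases k with _ | k
    · rw [index_eq_card]
      by_contra hodd
      have h2 : 2 ^ 1 ∣ Nat.card (R : Subgroup (G ⧸ L)) :=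
        R.pow_dvd_card_of_pow_dvd_card (by rw [pow_one]; exact (Nat.not_odd_iff_even.1 hodd).two_dvd)
      rw [hk] at h2
      norm_num at h2
    · exfalso
      obtain ⟨H, hH⟩ := exists_index_two_of_two_quotient N (k := k)
        (hNR.symm.index_eq_card.trans hk)
      exact hG (H.comap π) ((index_comap_of_surjective _ (QuotientGroup.mk'_surjective L)).trans hH)
  · -- simplicity
    have : Nontrivial L := (nontrivial_iff_ne_bot L).2 hL1
    refine ⟨fun K hK => or_iff_not_imp_left.2 fun hK1 => ?_⟩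
    obtain ⟨K₀, ⟨hK₀n, hK₀1, hK₀le⟩, hK₀min⟩ := exists_minimalFor_of_wellFoundedLT (fun N : Subgroup L => N.Normal ∧ N ≠ ⊥ ∧ N ≤ K)
      (fun N : Subgroup L => Nat.card N) ⟨K, hK, hK1, le_rfl⟩
    have hK₀min' : ∀ M : Subgroup L, M.Normal → M ≠ ⊥ → M ≤ K₀ → M = K₀ := fun M hM hM1 hle =>
      eq_of_le_of_card_ge hle (hK₀min (j := M) ⟨hM, hM1, hle.trans hK₀le⟩ (card_le_of_le hle))
    -- conjugates of `K₀`
    let C : G → Subgroup L := fun g => K₀.map (MulAut.conjNormal g : MulAut L).toMonoidHom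
    have hCn : ∀ g, (C g).Normal := fun g => hK₀n.map _ (MulAut.conjNormal g : MulAut L).surjective
    have hCcard : ∀ g, Nat.card (C g) = Nat.card K₀ := fun g =>
      card_map_of_injective (MulAut.conjNormal g : MulAut L).injective
    have hdisj : ∀ g, C g ≠ K₀ → Disjoint K₀ (C g) := fun g hg => by
      rw [disjoint_iff]
      by_contra h
      have := hCn g
      have h1 := hK₀min' (K₀ ⊓ C g) inferInstance h inf_le_left
      exact hg (eq_of_le_of_card_ge (inf_eq_left.1 h1) (hCcard g).le).symm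
    by_cases hfix : ∀ g, C g = K₀
    · have hn : (K₀.map L.subtype).Normal := ⟨by
        rintro _ ⟨y, hy, rfl⟩ g
        exact ⟨MulAut.conjNormal g y, (hfix g).le ⟨y, hy, rfl⟩, MulAut.conjNormal_apply g y⟩⟩
      have h1 := hmin' _ hn (fun h => hK₀1 ((map_eq_bot_iff_of_injective _ L.subtype_injective).1 h))
        (map_subtype_le _)
      refine top_le_iff.1 (le_trans (fun y _ => ?_) hK₀le)
      obtain ⟨z, hz, hzy⟩ := h1.ge y.2
      exact Subtype.ext hzy ▸ hz
    exfalso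
    push Not at hfix
    obtain ⟨g, hg⟩ := hfix
    have heven : Even (Nat.card K₀) := by
      by_contra h
      have hco : (Nat.card K₀).Coprime 2 := Nat.coprime_two_right.2 (Nat.not_even_iff_odd.1 h)
      have hne1 : Cfsg.pPrimeCore 2 L ≠ ⊥ := fun hb =>
        hK₀1 (le_bot_iff.1 ((Cfsg.Lib.Components.le_pPrimeCore (N := K₀) hco).trans hb.le))
      have hn : ((Cfsg.pPrimeCore 2 L).map L.subtype).Normal := inferInstance
      have hc : (Nat.card ((Cfsg.pPrimeCore 2 L).map L.subtype)).Coprime 2 := by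
        rw [card_map_of_injective L.subtype_injective]
        exact Cfsg.Lib.Components.coprime_card_pPrimeCore 2
      have := (Cfsg.Lib.Components.le_pPrimeCore hc).trans hO.le
      exact hne1 ((map_eq_bot_iff_of_injective _ L.subtype_injective).1 (le_bot_iff.1 this))
    obtain ⟨a, ha, ha2⟩ := exists_involution heven
    have haG : orderOf (a : G) = 2 := (orderOf_coe a).trans ha2
    set b : L := MulAut.conjNormal g a with hb_def
    have hb : b ∈ C g := ⟨a, ha, rfl⟩
    have hcomm : ∀ y ∈ C g, ∀ z ∈ K₀, Commute z y := fun y hy z hz =>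
      Subgroup.commute_of_normal_of_disjoint K₀ (C g) hK₀n (hCn g) (hdisj g hg) z y hz hy
    -- `K₀` is abelian
    have hab2 : orderOf ((a * b : L) : G) = 2 := by
      rw [orderOf_coe]
      refine orderOf_eq_prime (p := 2) ?_ fun h => ?_
      · have hb2 : b ^ 2 = 1 := by rw [hb_def, ← map_pow, ← ha2, pow_orderOf_eq_one, map_one]
        rw [(hcomm b hb a ha).mul_pow, hb2, ← ha2, pow_orderOf_eq_one, one_mul]
      · have : a ∈ K₀ ⊓ C g := ⟨ha, (eq_inv_of_mul_eq_one_left h) ▸ (C g).inv_mem hb⟩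
        rw [(hdisj g hg).eq_bot, mem_bot] at this
        rw [this, orderOf_one] at ha2
        norm_num at ha2
    obtain ⟨h, hh⟩ := isConj_iff.1 (hone _ _ haG hab2)
    have habC : a * b ∈ C h := ⟨a, ha, Subtype.ext ((MulAut.conjNormal_apply h a).trans hh)⟩
    have hne' : C h ≠ K₀ := fun e => by
      have hb' : b ∈ K₀ ⊓ C g := ⟨inv_mul_cancel_left a b ▸ K₀.mul_mem (K₀.inv_mem ha) (e ▸ habC), hb⟩
      rw [(hdisj g hg).eq_bot, mem_bot, hb_def] at hb'
      rw [(MulEquiv.map_eq_one_iff _).1 hb', orderOf_one] at ha2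
      norm_num at ha2
    have hca : ∀ z ∈ K₀, Commute z a := fun z hz => by
      have h1 : Commute z (a * b) := Subgroup.commute_of_normal_of_disjoint K₀ (C h) hK₀n (hCn h)
        (hdisj h hne') z (a * b) hz habC
      have h2 := h1.mul_right ((hcomm b hb z hz).inv_right)
      rwa [mul_inv_cancel_right] at h2
    have hM : K₀ ⊓ centralizer (K₀ : Set L) = K₀ := hK₀min' _ inferInstance (fun e => by
      have : a ∈ K₀ ⊓ centralizer (K₀ : Set L) := ⟨ha, mem_centralizer_iff.2 fun z hz => (hca z hz).eq⟩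
      rw [e, mem_bot] at this
      rw [this, orderOf_one] at ha2
      norm_num at ha2) inf_le_left
    have hKab : ∀ z ∈ K₀, ∀ w ∈ K₀, Commute z w := fun z hz w hw =>
      mem_centralizer_iff.1 (inf_eq_left.1 hM hw) z hz
    -- hence all involutions commute
    have hconj : ∀ y : G, orderOf y = 2 → ∃ c, ∃ hy : y ∈ L, (⟨y, hy⟩ : L) ∈ C c := fun y hy => by
      obtain ⟨c, hc⟩ := isConj_iff.1 (hone _ _ haG hy)
      exact ⟨c, hinv y hy, a, ha, Subtype.ext ((MulAut.conjNormal_apply c a).trans hc)⟩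
    have hcomm2 : ∀ c, ∀ z ∈ K₀, ∀ w ∈ C c, Commute z w := fun c z hz w hw => by
      by_cases e : C c = K₀
      · exact hKab z hz w (e ▸ hw)
      · exact Subgroup.commute_of_normal_of_disjoint K₀ (C c) hK₀n (hCn c) (hdisj c e) z w hz hw
    obtain ⟨c, hcu, hcC⟩ := hconj u hu
    obtain ⟨z, hz, hzu⟩ := hcC
    obtain ⟨d, hdv, hdC⟩ := hconj (c⁻¹ * v * c) (by
      rw [show c⁻¹ * v * c = c⁻¹ * v * (c⁻¹)⁻¹ by group, ← MulAut.conj_apply, MulEquiv.orderOf_eq, hv])
    have h1 : Commute (z : G) (c⁻¹ * v * c) := (hcomm2 d z hz _ hdC).map L.subtype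
    have hzu' : c * (z : G) * c⁻¹ = u := (MulAut.conjNormal_apply c z).symm.trans (congrArg Subtype.val hzu)
    refine huv ?_
    have h2 := h1.map (MulAut.conj c).toMonoidHom
    simp only [MulEquiv.coe_toMonoidHom, MulAut.conj_apply] at h2
    rw [hzu', show c * (c⁻¹ * v * c) * c⁻¹ = v by group] at h2
    exact h2.eq

open Cfsg.Lib.QDFusion in
theorem quasiDihedral (S : Sylow 2 G) (hS : Cfsg.IsQuasiDihedral (S : Subgroup G))
    (hG : ∀ H : Subgroup G, H.index ≠ 2) (hO : Cfsg.pPrimeCore 2 G = ⊥) :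
    ∃ L : Subgroup G, L.Normal ∧ Odd L.index ∧ IsSimpleGroup L ∧ ¬ IsMulCommutative L := by
  obtain ⟨T, Q, hT, hTS, hQS, ⟨eQ⟩⟩ := Cfsg.Lib.QGroupCentralizer.exists_TQ S hS
  obtain ⟨D⟩ := exists_data hS hT hTS hQS eQ
  have h6 : (centralizer (T : Set G)).relIndex (normalizer (T : Set G)) = 6 :=
    (Cfsg.Agent.S1203.result S hS T hT hTS Q hQS eQ).1.resolve_left fun h => by
      obtain ⟨M, -, hM, -⟩ := D.exists_index_two_t hS h
      exact hG M hM
  have hz : ∀ x : G, orderOf x = 2 → IsConj x D.z := fun x hx =>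
    (D.inv_class hx).elim id fun h => h.trans (D.isConj_t_z h6)
  obtain ⟨m, a, b, h⟩ := Cfsg.Lib.QD.exists_gen hS
  have hb : orderOf (b : G) = 2 := (orderOf_coe b).trans (by simpa using b_order h 0)
  refine exists_simple hG hO S (fun x y hx hy => (hz x hx).trans (hz y hy).symm) ?_ ⟨a, b, hb, ?_⟩
  · refine ⟨b, ((a * b * a⁻¹ : (S : Subgroup G)) : G), hb, ?_, fun he => ?_⟩
    · rw [orderOf_coe, ← MulAut.conj_apply, MulEquiv.orderOf_eq]
      simpa using b_order h 0
    · have he' : b * (a * b * a⁻¹) = (a * b * a⁻¹) * b := Subtype.ext he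
      have e1 := Cfsg.Lib.CyclicMax.conj_a h.2 0 1
      rw [zpow_one, zpow_zero, one_mul, zero_add, one_mul] at e1
      have e2 := Cfsg.Lib.CyclicMax.mul_b_mul_b h.2 0 (1 - (2 ^ (m - 1) - 1))
      have e3 := Cfsg.Lib.CyclicMax.mul_b_mul_b h.2 (1 - (2 ^ (m - 1) - 1)) 0
      rw [zpow_zero, one_mul] at e2 e3
      rw [e1, e2, e3, Cfsg.Lib.CyclicMax.zpow_eq_iff h.2] at he'
      obtain ⟨k, rfl⟩ : ∃ k, m = k + 3 := ⟨m - 3, by have := h.1; omega⟩
      rw [show k + 3 - 1 = k + 2 by omega] at he'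
      have h8 : (8 : ℤ) ∣ (2 - 2 ^ (k + 2)) * (2 - 2 ^ (k + 2)) := by
        refine ((Dvd.intro_left (2 ^ k) (by rw [pow_add]; ring)).trans he').trans ?_
        exact dvd_of_eq (by ring)
      obtain ⟨d, hd⟩ := h8
      have : (2 : ℤ) ^ (k + 2) = 4 * 2 ^ k := by rw [pow_add]; ring
      rw [this] at hd
      ring_nf at hd
      omega
  · intro s hs
    rcases Cfsg.Lib.CyclicMax.cases h.2 ⟨s, hs⟩ with ⟨i, hi⟩ | ⟨i, hi⟩ <;>
      rw [show s = ((⟨s, hs⟩ : (S : Subgroup G)) : G) from rfl, hi]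
    · rw [coe_zpow]; exact zpow_mem (Subgroup.subset_closure (Set.mem_insert _ _)) i
    · rw [coe_mul, coe_zpow]
      exact mul_mem (zpow_mem (Subgroup.subset_closure (Set.mem_insert _ _)) i) (Subgroup.subset_closure (Set.mem_insert_of_mem _ rfl))

open Cfsg.Lib.Wreathed Cfsg.Lib.WreathedFusion in
theorem wreathed (S : Sylow 2 G) (hS : Cfsg.IsWreathed (S : Subgroup G))
    (hG : ∀ H : Subgroup G, H.index ≠ 2) (hO : Cfsg.pPrimeCore 2 G = ⊥) :
    ∃ L : Subgroup G, L.Normal ∧ Odd L.index ∧ IsSimpleGroup L ∧ ¬ IsMulCommutative L := by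
  obtain ⟨n, hn, -, ⟨e⟩⟩ := exists_equiv hS
  obtain ⟨h₁, h₂⟩ := six_six_of_no_index_two S e hn hG
  have hz : ∀ x : G, orderOf x = 2 → IsConj x (emb S e (zed n)) := fun x hx => by
    rcases involution_classes S e hn hx with h | h | h
    · exact h
    · exact h.trans (six_U S e hn h₁).1.symm
    · exact h.trans ((conj_ut_of_six S e hn h₂).symm.trans (six_U S e hn h₁).1.symm)
  set x := emb S e ⟨1, 0, false⟩
  set t := emb S e (t0 n)
  have ht : orderOf t = 2 := (orderOf_emb S e _).trans orderOf_t0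
  refine exists_simple hG hO S (fun x y hx hy => (hz x hx).trans (hz y hy).symm)
    ⟨emb S e (u0 n), t, (orderOf_emb S e _).trans (orderOf_u0 hn), ht, fun he => ?_⟩ ⟨x, t, ht, ?_⟩
  · exact quadV_nonabelian hn (emb_injective S e (by rw [map_mul, map_mul]; exact he))
  · intro s hs
    obtain ⟨p, rfl⟩ := exists_emb S e hs
    have hxp : ∀ k : ℕ, (⟨1, 0, false⟩ : Wr n) ^ k = ⟨(k : ZMod (2 ^ n)), 0, false⟩ := by
      intro k
      induction k with
      | zero => ext <;> simp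
      | succ k ih => rw [pow_succ, ih]; ext <;> simp
    have hX : ∀ c : ZMod (2 ^ n), emb S e ⟨c, 0, false⟩ ∈ closure ({x, t} : Set G) := fun c => by
      rw [← ZMod.natCast_zmod_val c, ← hxp, map_pow]
      exact pow_mem (Subgroup.subset_closure (Set.mem_insert _ _)) _
    have htm : t ∈ closure ({x, t} : Set G) := Subgroup.subset_closure (Set.mem_insert_of_mem _ rfl)
    have hp : p = (⟨p.a, 0, false⟩ : Wr n) * (t0 n * ⟨p.b, 0, false⟩ * (t0 n)⁻¹) *
        (if p.e then t0 n else 1) := by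
      rw [t0_conj]
      rcases p with ⟨a, b, _ | _⟩ <;> ext <;> simp [t0]
    rw [hp, map_mul, map_mul, map_mul, map_mul, map_inv]
    refine mul_mem (mul_mem (hX _) (mul_mem (mul_mem htm (hX _)) (inv_mem htm))) ?_
    split_ifs
    · exact htm
    · rw [map_one]; exact one_mem _

end Cfsg.Lib.NoIndexTwoSimple
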