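/-
Counting tools for the sectional rank of 2-groups with a self-centralising elementary
abelian subgroup of order eight.
-/
import Cfsg.Agent.TwoFusion.DihedralByFour
import Cfsg.Agent.PGroups.Basic

set_option autoImplicit false
set_option linter.style.haveILetI false
set_option linter.unusedSectionVars false

namespace Cfsg.Lib.SelfCentEight

open Subgroup

variable {S : Type*} [Group S] [Finite S]

/-- `N` is a subgroup of `H` containing all squares of `H`. -/
def SqIn (H N : Subgroup S) : Prop := N ≤ H ∧ ∀ x ∈ H, x * x ∈ N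

namespace SqIn

variable {H N : Subgroup S}

theorem le (h : SqIn H N) : N ≤ H := h.1

theorem sq (h : SqIn H N) {x : S} (hx : x ∈ H) : x * x ∈ N := h.2 x hx

theorem comm (h : SqIn H N) {x y : S} (hx : x ∈ H) (hy : y ∈ H) : x * y * x⁻¹ * y⁻¹ ∈ N :=
  Cfsg.Lib.DihedralByFour.comm_mem_of_squares h.2 hx hy

theorem conj (h : SqIn H N) {x n : S} (hx : x ∈ H) (hn : n ∈ N) : x * n * x⁻¹ ∈ N := by
  have h1 := mul_mem (h.comm hx (h.le hn)) hn
  rwa [show x * n * x⁻¹ * n⁻¹ * n = x * n * x⁻¹ by group] at h1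

theorem map {Q : Type*} [Group Q] [Finite Q] (h : SqIn H N) (π : S →* Q) : SqIn (H.map π) (N.map π) := by
  refine ⟨map_mono h.le, ?_⟩
  rintro _ ⟨x, hx, rfl⟩
  exact ⟨x * x, h.sq hx, map_mul π x x⟩

theorem inf (h : SqIn H N) (R : Subgroup S) : SqIn (H ⊓ R) (N ⊓ R) :=
  ⟨inf_le_inf_right R h.le, fun _ hx => ⟨h.sq hx.1, mul_mem hx.2 hx.2⟩⟩

theorem of_le {K : Subgroup S} (h : SqIn H N) (hK : K ≤ H) : SqIn K (N ⊓ K) :=
  ⟨inf_le_right, fun _ hx => ⟨h.sq (hK hx), mul_mem hx hx⟩⟩

end SqIn

/-- The order of a subgroup, from its image and its intersection with the kernel. -/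
theorem card_map_mul {Q : Type*} [Group Q] (π : S →* Q) (H : Subgroup S) :
    Nat.card (H.map π) * Nat.card ↥(H ⊓ π.ker) = Nat.card H := by
  have h1 := Subgroup.card_mul_index (π.ker.subgroupOf H)
  have h2 : π.ker.subgroupOf H = (π.comp H.subtype).ker := MonoidHom.comap_ker π H.subtype
  have h3 : Nat.card (π.ker.subgroupOf H) = Nat.card ↥(H ⊓ π.ker) := by
    rw [← Subgroup.inf_subgroupOf_left]
    exact Nat.card_congr (Subgroup.subgroupOfEquivOfLe inf_le_left).toEquiv
  have h4 : (π.ker.subgroupOf H).index = Nat.card (H.map π) := by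
    rw [h2, Subgroup.index_ker, MonoidHom.range_eq_map, ← Subgroup.map_map, ← MonoidHom.range_eq_map,
      Subgroup.range_subtype]
  rw [h3, h4] at h1
  rw [mul_comm]; exact h1

theorem card_le_of_le {H K : Subgroup S} (h : H ≤ K) : Nat.card H ≤ Nat.card K :=
  Subgroup.card_le_of_le h

theorem card_pow (hS : IsPGroup 2 S) (H : Subgroup S) : ∃ n : ℕ, Nat.card H = 2 ^ n := by
  haveI := Fact.mk Nat.prime_two
  exact IsPGroup.iff_card.1 (hS.to_subgroup H)

/-- A larger subgroup is at least twice as large. -/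
theorem two_mul_card_le {H K : Subgroup S} (h : H ≤ K) (hne : H ≠ K) :
    2 * Nat.card H ≤ Nat.card K := by
  obtain ⟨c, hc⟩ := Subgroup.card_dvd_of_le h
  have h0 : 0 < Nat.card K := Nat.card_pos
  rcases Nat.lt_or_ge c 2 with h2 | h2
  · interval_cases c
    · omega
    · exact absurd (Subgroup.eq_of_le_of_card_ge h (by omega)) hne
  · rw [hc, mul_comm 2]; exact Nat.mul_le_mul_left _ h2

/-- A subgroup of at most half the order of a subgroup containing it strictly. -/
theorem two_mul_card_le_of_not_mem {H K : Subgroup S} (h : H ≤ K) {x : S} (hx : x ∈ K) (hx' : x ∉ H) :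
    2 * Nat.card H ≤ Nat.card K :=
  two_mul_card_le h fun e => hx' (e ▸ hx)

/-- Counting through a homomorphism. -/
theorem card_bound {Q : Type*} [Group Q] (π : S →* Q) {H N : Subgroup S} (a b : ℕ)
    (ha : Nat.card (H.map π) ≤ a * Nat.card (N.map π))
    (hb : Nat.card ↥(H ⊓ π.ker) ≤ b * Nat.card ↥(N ⊓ π.ker)) :
    Nat.card H ≤ a * b * Nat.card N := by
  rw [← card_map_mul π H, ← card_map_mul π N]
  calc Nat.card (H.map π) * Nat.card ↥(H ⊓ π.ker)
      ≤ (a * Nat.card (N.map π)) * (b * Nat.card ↥(N ⊓ π.ker)) := Nat.mul_le_mul ha hb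
    _ = a * b * (Nat.card (N.map π) * Nat.card ↥(N ⊓ π.ker)) := by ring

/-- An elementary abelian statement in terms of squares. -/
theorem comm_of_sq_one {H : Subgroup S} (h : ∀ x ∈ H, x * x = 1) {x y : S} (hx : x ∈ H) (hy : y ∈ H) :
    x * y = y * x := by
  have h1 : x⁻¹ = x := inv_eq_of_mul_eq_one_right (h x hx)
  have h2 : y⁻¹ = y := inv_eq_of_mul_eq_one_right (h y hy)
  have h3 := inv_eq_of_mul_eq_one_right (h _ (mul_mem hx hy))
  rw [mul_inv_rev, h1, h2] at h3
  exact h3.symm

/-- In an abelian group with at most four solutions of `x * x = 1`, squaring loses at most a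
factor four. -/
theorem card_le_four_of_squares {T N : Subgroup S} (hN : SqIn T N)
    (hcomm : ∀ x ∈ T, ∀ y ∈ T, x * y = y * x) {m : ℕ}
    (hm : ∀ V : Subgroup S, V ≤ T → (∀ v ∈ V, v * v = 1) → Nat.card V ≤ m) :
    Nat.card T ≤ m * Nat.card N := by
  let f : T →* S :=
    { toFun := fun x => (x : S) * x
      map_one' := by simp
      map_mul' := fun x y => by
        push_cast
        rw [show (x : S) * y * ((x : S) * y) = x * ((y : S) * x) * y by group,
          ← hcomm _ x.2 _ y.2]
        group }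
  have h1 : Nat.card f.ker * Nat.card f.range = Nat.card T := by
    rw [← Subgroup.index_ker]; exact Subgroup.card_mul_index _
  have h2 : f.range ≤ N := by
    rintro _ ⟨x, rfl⟩
    exact hN.sq x.2
  have h3 : Nat.card f.ker ≤ m := by
    refine (Nat.card_congr
      (Subgroup.equivMapOfInjective f.ker T.subtype Subtype.val_injective).toEquiv).trans_le ?_
    refine hm _ (map_subtype_le _) ?_
    rintro _ ⟨x, hx, rfl⟩
    exact hx
  rw [← h1]
  exact Nat.mul_le_mul h3 (Subgroup.card_le_of_le h2)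

/-- The bound to be proved. -/
def Bound (S : Type*) [Group S] : Prop :=
  ∀ H N : Subgroup S, SqIn H N → Nat.card H ≤ 16 * Nat.card N

theorem sectional_of_bound (hS : IsPGroup 2 S) (h : Bound S) : Cfsg.SectionalPRankLE 2 4 S := by
  haveI := Fact.mk Nat.prime_two
  obtain ⟨P⟩ : Nonempty (Sylow 2 S) := inferInstance
  exact Cfsg.Lib.DihedralByFour.sectional_of_squareBound P fun K M _ hMK hsq => h K M ⟨hMK, hsq⟩

end Cfsg.Lib.SelfCentEight
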