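/-
A self-centralising elementary abelian subgroup of order eight meeting the centre in a four group:
the derived subgroup has index eight and is abelian, inverted by an involution.
-/
import Cfsg.Agent.TwoFusion.EightBasic
import Cfsg.Agent.Counting.KulakoffTwo

set_option autoImplicit false
set_option linter.style.haveILetI false
set_option linter.unusedSectionVars false

namespace Cfsg.Lib.SelfCentEight

open Subgroup
open scoped commutatorElement

variable {S : Type*} [Group S] [Finite S]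

/-- `A` is elementary abelian of order eight, self-centralising in `W`, and `Z` is a subgroup
of order four of `A` central in `W`. -/
structure CentreFour (W A Z : Subgroup S) : Prop where
  isP : IsPGroup 2 S
  leA : Z ≤ A
  leW : A ≤ W
  cardA : Nat.card A = 8
  cardZ : Nat.card Z = 4
  sqA : ∀ x ∈ A, x * x = 1
  central : ∀ w ∈ W, ∀ v ∈ Z, w * v = v * w
  selfCent : ∀ w ∈ W, (∀ x ∈ A, w * x = x * w) → w ∈ A

namespace CentreFour

variable {W A Z : Subgroup S} (h : CentreFour W A Z)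

include h

theorem commA {x y : S} (hx : x ∈ A) (hy : y ∈ A) : x * y = y * x := comm_of_sq_one h.sqA hx hy

theorem exists_outside : ∃ a ∈ A, a ∉ Z := by
  refine SetLike.not_le_iff_exists.1 fun hle => ?_
  have := card_le_of_le hle
  rw [h.cardA, h.cardZ] at this
  omega

theorem eq_sup {a : S} (ha : a ∈ A) (ha' : a ∉ Z) : A = Z ⊔ zpowers a := by
  have hle : Z ⊔ zpowers a ≤ A := sup_le h.leA (zpowers_le.2 ha)
  refine (Subgroup.eq_of_le_of_card_ge hle ?_).symm
  have h1 := two_mul_card_le_of_not_mem (le_sup_left : Z ≤ Z ⊔ zpowers a)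
    (mem_sup_right (mem_zpowers a)) ha'
  rw [h.cardZ] at h1
  rw [h.cardA]
  exact h1

/-- The centraliser of `a` in `W` is `A`. -/
theorem cent {a : S} (ha : a ∈ A) (ha' : a ∉ Z) {w : S} (hw : w ∈ W) (hc : w * a = a * w) : w ∈ A := by
  refine h.selfCent w hw fun x hx => ?_
  have hle : A ≤ centralizer ({w} : Set S) := by
    rw [h.eq_sup ha ha']
    exact sup_le (fun v hv => mem_centralizer_singleton_iff.2 (h.central w hw v hv).symm)
      (zpowers_le.2 (mem_centralizer_singleton_iff.2 hc.symm))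
  exact (mem_centralizer_singleton_iff.1 (hle hx)).symm

theorem eight_mul_card_le : 8 * Nat.card ↥(⁅W, W⁆ : Subgroup S) ≤ Nat.card W := by
  classical
  haveI := Fact.mk Nat.prime_two
  have hWP : IsPGroup 2 W := h.isP.to_subgroup W
  haveI : Group.IsNilpotent W := hWP.isNilpotent
  obtain ⟨n, hn⟩ := IsPGroup.iff_card.1 hWP
  have hcard : Nat.card ↥(⁅W, W⁆ : Subgroup S) = Nat.card (commutator W) := by
    rw [show (⁅W, W⁆ : Subgroup S) = (commutator W).map W.subtype from (Subgroup.map_subtype_commutator W).symm]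
    exact (Nat.card_congr (Subgroup.equivMapOfInjective _ W.subtype Subtype.val_injective).toEquiv).symm
  have hW8 : 8 ≤ Nat.card W := h.cardA ▸ card_le_of_le h.leW
  have hn3 : 3 ≤ n := by
    by_contra hc
    have : 2 ^ n ≤ 2 ^ 2 := Nat.pow_le_pow_right two_pos (by omega)
    omega
  have hnc : ¬ IsCyclic W := by
    intro hcyc
    haveI := hcyc
    haveI : IsCyclic A := isCyclic_of_injective (Subgroup.inclusion h.leW) (Subgroup.inclusion_injective h.leW)
    obtain ⟨g, hg⟩ := IsCyclic.exists_generator (α := A)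
    have h2 : orderOf g = 8 := by rw [orderOf_eq_card_of_forall_mem_zpowers hg, h.cardA]
    have h3 : g ^ 2 = 1 := Subtype.ext (by simpa [pow_two] using h.sqA g g.2)
    have h4 := orderOf_dvd_of_pow_eq_one h3
    rw [h2] at h4
    norm_num at h4
  have h4 := Cfsg.Lib.Kulakoff.index_commutator_ge hn hnc
  obtain ⟨r, hr⟩ := hWP.index (commutator W)
  have h5 : 8 ≤ (commutator W).index := by
    rw [hr] at h4 ⊢
    have hr2 : 2 ≤ r := by
      by_contra hc
      have : 2 ^ r ≤ 2 ^ 1 := Nat.pow_le_pow_right two_pos (by omega)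
      omega
    rcases Nat.eq_or_lt_of_le hr2 with h2 | h2
    · exfalso
      subst h2
      have hcl := Cfsg.Lib.IndexFour.class_eq n W hn hn3 (by rw [hr]; norm_num)
      have hz := (Cfsg.Lib.MaxClass.center_facts (p := 2) n W hn hn3 hcl).1
      have hZW : Z ≤ W := h.leA.trans h.leW
      have h6 : Z.subgroupOf W ≤ center W := fun v hv =>
        mem_center_iff.2 fun w => Subtype.ext (h.central w w.2 v hv)
      have h7 := Subgroup.card_le_of_le h6
      rw [Nat.card_congr (Subgroup.subgroupOfEquivOfLe hZW).toEquiv, h.cardZ, hz] at h7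
      omega
    · exact le_trans (by norm_num) (Nat.pow_le_pow_right two_pos (show 3 ≤ r by omega))
  rw [hcard, ← Subgroup.card_mul_index (commutator W), mul_comm]
  exact Nat.mul_le_mul_left _ h5

theorem comm_le : (⁅W, W⁆ : Subgroup S) ≤ W := Subgroup.commutator_le_self W

/-- Every element of `a R` is conjugate to `a`, and `|W : R| = 8`. -/
theorem surj {a : S} (ha : a ∈ A) (ha' : a ∉ Z) :
    Nat.card W = 8 * Nat.card ↥(⁅W, W⁆ : Subgroup S) ∧
      ∀ r ∈ (⁅W, W⁆ : Subgroup S), ∃ w ∈ W, w * a * w⁻¹ = a * r := by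
  classical
  set R : Subgroup S := ⁅W, W⁆ with hR
  let K : Subgroup W := A.subgroupOf W
  have hmem : ∀ w : W, a⁻¹ * ((w : S) * a * (w : S)⁻¹) ∈ R := by
    intro w
    have h1 : ⁅a⁻¹, (w : S)⁆ ∈ R := commutator_mem_commutator (inv_mem (h.leW ha)) w.2
    rwa [commutatorElement_def, inv_inv, show a⁻¹ * (w : S) * a * (w : S)⁻¹ = a⁻¹ * ((w : S) * a * (w : S)⁻¹) by group] at h1
  let f : W ⧸ K → R := fun q => ⟨_, hmem q.out⟩
  have hf : Function.Injective f := by
    intro p q hpq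
    rw [← QuotientGroup.out_eq' p, ← QuotientGroup.out_eq' q, QuotientGroup.eq]
    have h1 : (p.out : S) * a * (p.out : S)⁻¹ = (q.out : S) * a * (q.out : S)⁻¹ :=
      mul_left_cancel (congrArg Subtype.val hpq)
    show ((p.out : S))⁻¹ * (q.out : S) ∈ A
    refine h.cent ha ha' (mul_mem (inv_mem p.out.2) q.out.2) ?_
    calc (p.out : S)⁻¹ * q.out * a
        = (p.out : S)⁻¹ * ((q.out : S) * a * (q.out : S)⁻¹) * q.out := by group
      _ = (p.out : S)⁻¹ * ((p.out : S) * a * (p.out : S)⁻¹) * q.out := by rw [h1]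
      _ = a * ((p.out : S)⁻¹ * q.out) := by group
  have hq : Nat.card (W ⧸ K) * 8 = Nat.card W := by
    rw [Subgroup.card_eq_card_quotient_mul_card_subgroup K]
    congr 1
    rw [Nat.card_congr (Subgroup.subgroupOfEquivOfLe h.leW).toEquiv, h.cardA]
  have h1 := Nat.card_le_card_of_injective f hf
  have h2 := h.eight_mul_card_le
  rw [← hR] at h2
  have h3 : Nat.card (W ⧸ K) = Nat.card R := by omega
  refine ⟨by omega, fun r hr => ?_⟩
  obtain ⟨q, hq'⟩ := (hf.bijective_of_nat_card_le h3.ge).2 ⟨r, hr⟩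
  refine ⟨q.out, q.out.2, ?_⟩
  have h4 : a⁻¹ * ((q.out : S) * a * (q.out : S)⁻¹) = r := congrArg Subtype.val hq'
  rw [← h4]; group

theorem card_eq : Nat.card W = 8 * Nat.card ↥(⁅W, W⁆ : Subgroup S) := by
  obtain ⟨a, ha, ha'⟩ := h.exists_outside
  exact (h.surj ha ha').1

theorem inv {a : S} (ha : a ∈ A) (ha' : a ∉ Z) {r : S} (hr : r ∈ (⁅W, W⁆ : Subgroup S)) :
    a * r * a⁻¹ = r⁻¹ := by
  obtain ⟨w, -, hw⟩ := (h.surj ha ha').2 r hr
  have h1 : (a * r) * (a * r) = 1 := by
    rw [← hw, show w * a * w⁻¹ * (w * a * w⁻¹) = w * (a * a) * w⁻¹ by group, h.sqA a ha]; group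
  rw [inv_eq_of_mul_eq_one_right (h.sqA a ha)]
  exact eq_inv_of_mul_eq_one_left (by rw [← h1]; group)

theorem commR {x y : S} (hx : x ∈ (⁅W, W⁆ : Subgroup S)) (hy : y ∈ (⁅W, W⁆ : Subgroup S)) :
    x * y = y * x := by
  obtain ⟨a, ha, ha'⟩ := h.exists_outside
  have h1 := h.inv ha ha' (mul_mem hx hy)
  rw [show a * (x * y) * a⁻¹ = a * x * a⁻¹ * (a * y * a⁻¹) by group, h.inv ha ha' hx,
    h.inv ha ha' hy, ← mul_inv_rev, inv_inj] at h1
  exact h1.symm

theorem not_mem {a : S} (ha : a ∈ A) (ha' : a ∉ Z) : a ∉ (⁅W, W⁆ : Subgroup S) := by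
  intro hc
  obtain ⟨w, -, hw⟩ := (h.surj ha ha').2 a hc
  rw [h.sqA a ha, mul_inv_eq_one] at hw
  exact ha' (mul_left_cancel (hw.trans (mul_one w).symm) ▸ one_mem Z)

theorem mem_iff {r : S} (hr : r ∈ (⁅W, W⁆ : Subgroup S)) : r * r = 1 ↔ r ∈ A := by
  refine ⟨fun h2 => ?_, h.sqA r⟩
  obtain ⟨a, ha, ha'⟩ := h.exists_outside
  refine h.cent ha ha' (h.comm_le hr) ?_
  have h1 := h.inv ha ha' hr
  rw [inv_eq_of_mul_eq_one_right h2, mul_inv_eq_iff_eq_mul] at h1
  exact h1.symm

/-- The elements of order at most two of `R` form a proper subgroup of `A`. -/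
theorem card_inf_le : Nat.card ↥((⁅W, W⁆ : Subgroup S) ⊓ A) ≤ 4 := by
  obtain ⟨a, ha, ha'⟩ := h.exists_outside
  have h1 := two_mul_card_le_of_not_mem (inf_le_right : (⁅W, W⁆ : Subgroup S) ⊓ A ≤ A) ha
    (fun hc => h.not_mem ha ha' hc.1)
  rw [h.cardA] at h1
  omega

/-- If `R` has two-rank two, its involutions lie in `Z`. -/
theorem omega_eq (h4 : 4 ≤ Nat.card ↥((⁅W, W⁆ : Subgroup S) ⊓ A)) :
    (⁅W, W⁆ : Subgroup S) ⊓ A = Z := by
  classical
  set R : Subgroup S := ⁅W, W⁆ with hR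
  set V : Subgroup S := R ⊓ A with hV
  by_contra hne
  have hVZ : ¬ V ≤ Z := fun hle => hne (Subgroup.eq_of_le_of_card_ge hle (by rw [h.cardZ]; exact h4))
  obtain ⟨v, hv, hv'⟩ := SetLike.not_le_iff_exists.1 hVZ
  have hVn : ∀ w ∈ W, w * v * w⁻¹ ∈ V := by
    intro w hw
    have h1 : w * v * w⁻¹ ∈ R := by
      have := mul_mem (commutator_mem_commutator hw (h.comm_le hv.1)) hv.1
      rwa [commutatorElement_def, show w * v * w⁻¹ * v⁻¹ * v = w * v * w⁻¹ by group] at this
    refine ⟨h1, (h.mem_iff h1).1 ?_⟩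
    rw [show w * v * w⁻¹ * (w * v * w⁻¹) = w * (v * v) * w⁻¹ by group, h.sqA v hv.2]; group
  have hi : (Z.subgroupOf A).index = 2 := by
    have h5 := Subgroup.card_mul_index (Z.subgroupOf A)
    rw [Nat.card_congr (Subgroup.subgroupOfEquivOfLe h.leA).toEquiv, h.cardZ, h.cardA] at h5
    omega
  have hout : ∀ x ∈ A, x ∉ Z → x * v⁻¹ ∈ Z := by
    intro x hx hx'
    have h5 := (Subgroup.mul_mem_iff_of_index_two hi (a := (⟨x, hx⟩ : A)) (b := (⟨v, hv.2⟩ : A)⁻¹)).2
      (iff_of_false hx' fun hc => hv' (inv_mem_iff.1 hc))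
    exact h5
  set V₁ : Subgroup S := V ⊓ Z with hV1
  have hV1c : Nat.card V₁ ≤ 2 := by
    have h5 := two_mul_card_le_of_not_mem (inf_le_left : V ⊓ Z ≤ V) hv (fun hc => hv' hc.2)
    have h6 : Nat.card V ≤ 4 := h.card_inf_le
    rw [← hV1] at h5
    omega
  have hmem : ∀ w : W, (w : S) * v * (w : S)⁻¹ * v⁻¹ ∈ V₁ := by
    intro w
    refine ⟨mul_mem (hVn w w.2) (V.inv_mem hv), hout _ (hVn w w.2).2 fun hc => hv' ?_⟩
    have h7 := h.central w w.2 _ hc
    rw [inv_mul_cancel_right] at h7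
    rw [mul_left_cancel h7] at hc
    exact hc
  let f : W ⧸ A.subgroupOf W → V₁ := fun q => ⟨_, hmem q.out⟩
  have hf : Function.Injective f := by
    intro p q hpq
    rw [← QuotientGroup.out_eq' p, ← QuotientGroup.out_eq' q, QuotientGroup.eq]
    have h1 : (p.out : S) * v * (p.out : S)⁻¹ = (q.out : S) * v * (q.out : S)⁻¹ :=
      mul_right_cancel (congrArg Subtype.val hpq)
    show ((p.out : S))⁻¹ * (q.out : S) ∈ A
    refine h.cent hv.2 hv' (mul_mem (inv_mem p.out.2) q.out.2) ?_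
    calc (p.out : S)⁻¹ * q.out * v
        = (p.out : S)⁻¹ * ((q.out : S) * v * (q.out : S)⁻¹) * q.out := by group
      _ = (p.out : S)⁻¹ * ((p.out : S) * v * (p.out : S)⁻¹) * q.out := by rw [h1]
      _ = v * ((p.out : S)⁻¹ * q.out) := by group
  have h1 := (Nat.card_le_card_of_injective f hf).trans hV1c
  have hq : Nat.card (W ⧸ A.subgroupOf W) * 8 = Nat.card W := by
    rw [Subgroup.card_eq_card_quotient_mul_card_subgroup (A.subgroupOf W)]
    congr 1
    rw [Nat.card_congr (Subgroup.subgroupOfEquivOfLe h.leW).toEquiv, h.cardA]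
  have h2 := h.card_eq
  rw [← hR] at h2
  have h3 : Nat.card V ≤ Nat.card R := card_le_of_le inf_le_left
  omega

/-- Frattini: a subgroup covering `W` modulo `R` is all of `W`. -/
theorem eq_of_sup {H : Subgroup S} (hH : H ≤ W) (hsup : W ≤ H ⊔ ⁅W, W⁆) : H = W := by
  haveI := Fact.mk Nat.prime_two
  have hWP : IsPGroup 2 W := h.isP.to_subgroup W
  have h1 : H.subgroupOf W ⊔ frattini W = ⊤ := by
    rw [eq_top_iff]
    have hle : H.subgroupOf W ⊔ commutator W ≤ H.subgroupOf W ⊔ frattini W :=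
      sup_le_sup_left (Cfsg.Lib.PGroups.commutator_le_frattini hWP) _
    refine le_trans ?_ hle
    intro w _
    have hw : (w : S) ∈ (H.subgroupOf W ⊔ commutator W).map W.subtype := by
      rw [Subgroup.map_sup, Subgroup.map_subtype_commutator, Subgroup.map_subgroupOf_eq_of_le hH]
      exact hsup w.2
    obtain ⟨w', hw', he⟩ := hw
    rwa [← Subtype.ext (show ((w' : W) : S) = w from he)]
  have h2 := frattini_nongenerating h1
  exact le_antisymm hH (Subgroup.subgroupOf_eq_top.1 h2)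

theorem comm_le_of_sqIn {H N : Subgroup S} (hN : SqIn H N) (hWH : W ≤ H) : (⁅W, W⁆ : Subgroup S) ≤ N :=
  Subgroup.commutator_le.2 fun x hx y hy => hN.comm (hWH hx) (hWH hy)

end CentreFour

end Cfsg.Lib.SelfCentEight
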