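/-
The abelian-group lemma behind the sectional rank bound: an action on an abelian 2-group of
rank two which moves an involution is incompatible with three transversal elements.
-/
import Mathlib

set_option autoImplicit false

namespace Cfsg.Lib.SelfCentEight

variable {M : Type*} [AddCommGroup M]

/-- `x` is a double. -/
def IsDbl (x : M) : Prop := ∃ v : M, x = (2 : ℕ) • v

/-- The data attached to an element `y`: its action `μ`, the commutator `ρ` with the involution,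
the square `q`, and the commutator `s` with the outer element acting by `η`. -/
structure RankDatum (η : M →+ M) (μ : M →+ M) (ρ q s : M) : Prop where
  qd : IsDbl q
  sd : IsDbl s
  fixq : μ q = q
  rel : μ ρ + ρ + (2 : ℕ) • q = 0
  etar : η ρ = ρ - (2 : ℕ) • s
  etaq : η q = q + (s + μ s)
  odd : ∀ x, IsDbl (μ x - x)
  notd : ¬ IsDbl ρ

theorem zsmul_eq_zero_iff_dvd {g : M} {n : ℕ} (hn : addOrderOf g = n) (i : ℤ) :
    i • g = 0 ↔ (n : ℤ) ∣ i := by
  rw [← addOrderOf_dvd_iff_zsmul_eq_zero, hn]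

set_option maxHeartbeats 1000000 in
theorem rank_two_false (hP : ∃ n : ℕ, ∀ x : M, (2 ^ n : ℕ) • x = 0) (u z : M)
    (hu : u + u = 0) (hz : z + z = 0) (hz0 : z ≠ 0)
    (htwo : ∀ x : M, x + x = 0 → x = 0 ∨ x = z ∨ x = u ∨ x = u + z)
    (η : M →+ M) (hηu : η u = u + z) (hηz : η z = z) (hη : ∀ x, ∃ v : M, η x - x = (4 : ℕ) • v)
    {μ₁ μ₂ μ₃ : M →+ M} {ρ₁ ρ₂ ρ₃ q₁ q₂ q₃ s₁ s₂ s₃ : M}
    (D₁ : RankDatum η μ₁ ρ₁ q₁ s₁) (D₂ : RankDatum η μ₂ ρ₂ q₂ s₂) (D₃ : RankDatum η μ₃ ρ₃ q₃ s₃)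
    (hμ : ∀ x, μ₃ x = μ₁ (μ₂ x)) (hspan : ∀ x : M, ∃ (i k : ℤ) (v : M), x = i • ρ₁ + k • ρ₂ + (2 : ℕ) • v) :
    False := by
  classical
  obtain ⟨n, hn⟩ := hP
  have hu0 : u ≠ 0 := fun h => hz0 (by rw [h, map_zero, zero_add] at hηu; exact hηu.symm)
  have hex : ∃ j : ℕ, ¬ ∃ v : M, u = (2 ^ j : ℕ) • v := ⟨n, fun ⟨v, hv⟩ => hu0 (by rw [hv, hn])⟩
  set j := Nat.find hex with hj
  have hjspec : ¬ ∃ v : M, u = (2 ^ j : ℕ) • v := Nat.find_spec hex
  have hjmin : ∀ i < j, ∃ v : M, u = (2 ^ i : ℕ) • v := fun i hi => not_not.1 (Nat.find_min hex hi)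
  have hj1 : 1 ≤ j := by
    rcases Nat.eq_zero_or_pos j with h | h
    · exact absurd ⟨u, by rw [h]; simp⟩ hjspec
    · exact h
  have hpow : (2 ^ j : ℕ) = 2 ^ (j - 1) * 2 := by
    rw [← pow_succ]; congr 1; omega
  -- `z` is twice an element of `2^j M`
  obtain ⟨wz, hwz⟩ : ∃ v : M, z = (2 : ℕ) • ((2 ^ j : ℕ) • v) := by
    obtain ⟨v, hv⟩ := hjmin (j - 1) (by omega)
    obtain ⟨v', hv'⟩ := hη v
    refine ⟨v', ?_⟩
    have h1 : z = η u - u := by rw [hηu]; abel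
    rw [h1, hv, map_nsmul, ← smul_sub, hv', ← mul_smul, ← mul_smul, hpow]
    congr 1
    ring
  -- the involutions of `2^j M`
  have hinv : ∀ v : M, (2 ^ j : ℕ) • v + (2 ^ j : ℕ) • v = 0 → (2 ^ j : ℕ) • v = 0 ∨ (2 ^ j : ℕ) • v = z := by
    intro v hv
    rcases htwo _ hv with h | h | h | h
    · exact Or.inl h
    · exact Or.inr h
    · exact absurd ⟨v, h.symm⟩ hjspec
    · refine absurd ⟨η v, ?_⟩ hjspec
      rw [← map_nsmul, h, map_add, hηu, hηz, add_assoc, hz, add_zero]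
  -- a generator of `2^j M`
  have hord : ∀ x : M, ∃ e : ℕ, addOrderOf x = 2 ^ e := fun x => by
    obtain ⟨e, -, he⟩ := (Nat.dvd_prime_pow Nat.prime_two).1 (addOrderOf_dvd_of_nsmul_eq_zero (hn x))
    exact ⟨e, he⟩
  have hle : ∀ x : M, addOrderOf x ≤ 2 ^ n := fun x =>
    Nat.le_of_dvd (by positivity) (addOrderOf_dvd_of_nsmul_eq_zero (hn x))
  set B : Set ℕ := Set.range fun v : M => addOrderOf ((2 ^ j : ℕ) • v) with hB
  have hBne : B.Nonempty := ⟨_, 0, rfl⟩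
  have hBdd : BddAbove B := ⟨2 ^ n, by rintro _ ⟨v, rfl⟩; exact hle _⟩
  obtain ⟨g₀, hg₀⟩ := Nat.sSup_mem hBne hBdd
  set g : M := (2 ^ j : ℕ) • g₀ with hgdef
  have hmax : ∀ v : M, addOrderOf ((2 ^ j : ℕ) • v) ≤ addOrderOf g := fun v => by
    have h0 : addOrderOf g = sSup B := hg₀
    rw [h0]; exact le_csSup hBdd ⟨v, rfl⟩
  obtain ⟨e, he⟩ := hord g
  have he2 : 2 ≤ e := by
    by_contra hc
    have h1 := hmax wz
    obtain ⟨e', he'⟩ := hord ((2 ^ j : ℕ) • wz)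
    rw [he', he] at h1
    have h2 : e' ≤ 1 := by
      by_contra hc'
      have : 2 ^ e < 2 ^ e' := Nat.pow_lt_pow_right (by norm_num) (by omega)
      omega
    have h3 : (2 ^ 1 : ℕ) • ((2 ^ j : ℕ) • wz) = 0 :=
      addOrderOf_dvd_iff_nsmul_eq_zero.1 (he' ▸ pow_dvd_pow 2 h2)
    rw [pow_one, ← hwz] at h3
    exact hz0 h3
  have hcyc : ∀ v : M, ∃ k : ℤ, (2 ^ j : ℕ) • v = k • g := by
    suffices H : ∀ (d : ℕ) (v : M), (2 ^ d : ℕ) • ((2 ^ j : ℕ) • v) = 0 → ∃ k : ℤ, (2 ^ j : ℕ) • v = k • g from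
      fun v => H n v (hn _)
    intro d
    induction d with
    | zero => exact fun v hv => ⟨0, by simpa using hv⟩
    | succ d ih =>
      intro v hv
      obtain ⟨k, hk⟩ := ih ((2 : ℕ) • v) (by rw [smul_comm (2 ^ j : ℕ) (2 : ℕ) v, ← mul_smul, ← pow_succ]; exact hv)
      rcases Int.even_or_odd k with ⟨l, hl⟩ | ⟨l, hl⟩
      · have h1 : (2 ^ j : ℕ) • (v - l • g₀) + (2 ^ j : ℕ) • (v - l • g₀) = 0 := by
          rw [← two_nsmul, smul_comm, smul_sub, smul_sub, hk, hl, smul_comm (2 : ℕ) l g₀,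
            smul_comm (2 ^ j : ℕ) l, smul_comm (2 ^ j : ℕ) (2 : ℕ) g₀, ← hgdef, two_nsmul, smul_add, ← add_smul, sub_self]
        have h2 : ∃ m : ℤ, z = m • g := by
          refine ⟨2 ^ (e - 1), ?_⟩
          have hne : ((2 : ℤ) ^ (e - 1)) • g ≠ 0 := by
            rw [Ne, zsmul_eq_zero_iff_dvd he]
            intro hd
            have h5 := Int.le_of_dvd (by positivity) hd
            push_cast at h5
            have : (2 : ℤ) ^ (e - 1) < 2 ^ e := pow_lt_pow_right₀ (by norm_num) (by omega)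
            omega
          have hp : ((2 : ℤ) ^ (e - 1)) • g = (2 ^ j : ℕ) • (((2 : ℤ) ^ (e - 1)) • g₀) := smul_comm _ _ _
          rcases hinv (((2 : ℤ) ^ (e - 1)) • g₀) (by
            rw [← hp, ← add_smul, zsmul_eq_zero_iff_dvd he]
            refine ⟨1, ?_⟩
            push_cast
            rw [mul_one, ← two_mul, ← pow_succ']; congr 1; omega) with h | h
          · exact absurd (hp.trans h) hne
          · exact (hp.trans h).symm
        rcases hinv _ h1 with h | h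
        · refine ⟨l, ?_⟩
          rw [smul_sub, sub_eq_zero, smul_comm (2 ^ j : ℕ) l] at h
          exact h
        · obtain ⟨m, hm⟩ := h2
          refine ⟨m + l, ?_⟩
          rw [smul_sub, sub_eq_iff_eq_add, smul_comm (2 ^ j : ℕ) l] at h
          rw [h, hm, add_smul]
      · exfalso
        have h1 := hmax v
        obtain ⟨e', he'⟩ := hord ((2 ^ j : ℕ) • v)
        rw [he', he] at h1
        have h2 : e' ≤ e := by
          by_contra hc
          have : 2 ^ e < 2 ^ e' := Nat.pow_lt_pow_right (by norm_num) (by omega)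
          omega
        have h3 : (2 ^ e : ℕ) • ((2 ^ j : ℕ) • v) = 0 :=
          addOrderOf_dvd_iff_nsmul_eq_zero.1 (he' ▸ pow_dvd_pow 2 h2)
        have h4 : ((2 : ℤ) ^ (e - 1) * k) • g = 0 := by
          rw [mul_smul, ← hk, smul_comm (2 ^ j : ℕ) (2 : ℕ) v, ← natCast_zsmul ((2 ^ j : ℕ) • v) 2, ← mul_smul]
          rw [show (2 : ℤ) ^ (e - 1) * ((2 : ℕ) : ℤ) = ((2 ^ e : ℕ) : ℤ) by
            push_cast; rw [← pow_succ]; congr 1; omega, natCast_zsmul]
          exact h3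
        rw [zsmul_eq_zero_iff_dvd he] at h4
        push_cast at h4
        rw [show (2 : ℤ) ^ e = 2 ^ (e - 1) * 2 by rw [← pow_succ]; congr 1; omega,
          mul_dvd_mul_iff_left (by positivity)] at h4
        omega
  have h4e : (4 : ℤ) ∣ ((2 ^ e : ℕ) : ℤ) := by
    push_cast
    exact Dvd.intro ((2 : ℤ) ^ (e - 2)) (by rw [show (4 : ℤ) = 2 ^ 2 by norm_num, ← pow_add]; congr 1; omega)
  have hcong : ∀ a b : ℤ, a • g = b • g → (4 : ℤ) ∣ a - b := fun a b h => by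
    refine h4e.trans ?_
    rw [← zsmul_eq_zero_iff_dvd he, sub_smul, h, sub_self]
  -- the sign of an action on `2^j M` and the parity of `ρ`
  have key : ∀ (μ : M →+ M) (ρ q s : M), RankDatum η μ ρ q s → ∃ c k : ℤ, μ g = c • g ∧ Odd c ∧
      (2 ^ j : ℕ) • ρ = k • g ∧ (Odd k → (4 : ℤ) ∣ c + 1) := by
    intro μ ρ q s D
    obtain ⟨c, hc⟩ := hcyc (μ g₀)
    obtain ⟨k, hk⟩ := hcyc ρ
    have hμg : μ g = c • g := by rw [hgdef, map_nsmul]; exact hc
    refine ⟨c, k, hμg, ?_, hk, fun hodd => ?_⟩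
    · obtain ⟨v, hv⟩ := D.odd g₀
      obtain ⟨m, hm⟩ := hcyc v
      have h1 : (c - 1) • g = (2 * m) • g := by
        rw [sub_smul, one_smul, ← hμg, mul_smul, ← hm, hgdef, map_nsmul, ← smul_sub, hv, smul_comm]
        norm_cast
      obtain ⟨t, ht⟩ := hcong _ _ h1
      exact ⟨m + 2 * t, by omega⟩
    · obtain ⟨v, hv⟩ := D.qd
      obtain ⟨m, hm⟩ := hcyc v
      have h1 : (c * k + k + 4 * m) • g = (0 : ℤ) • g := by
        have h2 := congrArg (fun x => (2 ^ j : ℕ) • x) D.rel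
        simp only [smul_add, smul_zero] at h2
        rw [← map_nsmul, hk, map_zsmul, hμg, hv, smul_comm (2 ^ j : ℕ) (2 : ℕ), smul_comm (2 ^ j : ℕ) (2 : ℕ),
          hm, ← mul_smul, ← natCast_zsmul, ← natCast_zsmul, ← mul_smul, ← mul_smul] at h2
        rw [zero_smul, ← h2, add_smul, add_smul, mul_comm c k]
        norm_num
      have h3 := hcong _ _ h1
      obtain ⟨t, rfl⟩ := hodd
      obtain ⟨d, hd⟩ := h3
      have e3 : c * (2 * t + 1) = 2 * (c * t) + c := by ring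
      have hco : Odd c := by
        obtain ⟨w, hw⟩ := D.odd g₀
        obtain ⟨m', hm'⟩ := hcyc w
        have h4 : (c - 1) • g = (2 * m') • g := by
          rw [sub_smul, one_smul, ← hμg, mul_smul, ← hm', hgdef, map_nsmul, ← smul_sub, hw, smul_comm]
          norm_cast
        obtain ⟨t', ht'⟩ := hcong _ _ h4
        exact ⟨m' + 2 * t', by omega⟩
      obtain ⟨r, rfl⟩ := hco
      have e4 : (2 * r + 1) * t = 2 * (r * t) + t := by ring
      omega
  obtain ⟨c₁, k₁, hc₁, hc₁o, hk₁, hs₁⟩ := key _ _ _ _ D₁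
  obtain ⟨c₂, k₂, hc₂, hc₂o, hk₂, hs₂⟩ := key _ _ _ _ D₂
  obtain ⟨c₃, k₃, hc₃, hc₃o, hk₃, hs₃⟩ := key _ _ _ _ D₃
  have hc12 : (4 : ℤ) ∣ c₃ - c₂ * c₁ := by
    refine hcong _ _ ?_
    rw [← hc₃, hμ, hc₂, map_zsmul, hc₁, mul_smul]
  have hodd12 : Odd k₁ ∨ Odd k₂ := by
    by_contra hc
    rw [not_or, Int.not_odd_iff_even, Int.not_odd_iff_even] at hc
    obtain ⟨⟨a, ha⟩, ⟨b, hb⟩⟩ := hc
    obtain ⟨i, k, v, hv⟩ := hspan g₀
    obtain ⟨m, hm⟩ := hcyc v
    have h1 : (1 : ℤ) • g = (i * k₁ + k * k₂ + 2 * m) • g := by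
      rw [one_smul, add_smul, add_smul, mul_smul, mul_smul, mul_smul, ← hk₁, ← hk₂, ← hm, hgdef, hv,
        smul_add, smul_add, smul_comm _ i, smul_comm _ k, smul_comm _ (2 : ℕ) v]
      norm_cast
    obtain ⟨t, ht⟩ := hcong _ _ h1
    subst ha hb
    have e1 : i * (a + a) = 2 * (i * a) := by ring
    have e2 : k * (b + b) = 2 * (k * b) := by ring
    omega
  obtain ⟨μ, ρ, q, s, c, D, hc, hcp⟩ : ∃ (μ : M →+ M) (ρ q s : M) (c : ℤ),
      RankDatum η μ ρ q s ∧ μ g = c • g ∧ (4 : ℤ) ∣ c - 1 := by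
    obtain ⟨a, rfl⟩ := hc₁o
    obtain ⟨b, rfl⟩ := hc₂o
    have e : (2 * b + 1) * (2 * a + 1) = 4 * (a * b) + 2 * a + 2 * b + 1 := by ring
    by_cases ha : (4 : ℤ) ∣ (2 * a + 1) - 1
    · exact ⟨μ₁, ρ₁, q₁, s₁, _, D₁, hc₁, ha⟩
    by_cases hb : (4 : ℤ) ∣ (2 * b + 1) - 1
    · exact ⟨μ₂, ρ₂, q₂, s₂, _, D₂, hc₂, hb⟩
    refine ⟨μ₃, ρ₃, q₃, s₃, _, D₃, hc₃, ?_⟩
    omega
  have hfix4 : ∀ m : ℤ, (4 * m) • g = 0 → μ (m • g) = m • g ∧ η (m • g) = m • g := by
    intro m hm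
    constructor
    · obtain ⟨t, ht⟩ := hcp
      rw [map_zsmul, hc, ← mul_smul, show m * c = m + (4 * m) * t by rw [show c = 4 * t + 1 by omega]; ring,
        add_smul, mul_comm (4 * m) t, mul_smul, hm, smul_zero, add_zero]
    · obtain ⟨v, hv⟩ := hη g₀
      obtain ⟨l, hl⟩ := hcyc v
      have h1 : η g = g + (4 * l) • g := by
        rw [mul_smul, ← hl, hgdef, map_nsmul]
        rw [show η g₀ = g₀ + (4 : ℕ) • v by rw [← hv]; abel, smul_add, smul_comm]
        norm_cast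
      rw [map_zsmul, h1, smul_add, ← mul_smul, show m * (4 * l) = l * (4 * m) by ring, mul_smul, hm, smul_zero, add_zero]
  -- elements killed by `2^k` for `k < j` are doubles
  have hkill : ∀ k < j, ∀ r : M, (2 ^ k : ℕ) • r = 0 → IsDbl r := by
    intro k
    induction k with
    | zero => exact fun _ r hr => ⟨0, by simpa using hr⟩
    | succ k ih =>
      intro hk r hr
      obtain ⟨vu, hvu⟩ := hjmin (k + 1) hk
      have hvz : ∃ v : M, z = (2 ^ (k + 1) : ℕ) • v := by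
        refine ⟨(2 * 2 ^ (j - (k + 1)) : ℕ) • wz, ?_⟩
        rw [hwz, ← mul_smul, ← mul_smul]
        congr 1
        rw [mul_left_comm, ← pow_add]; congr 2; omega
      obtain ⟨vz, hvz⟩ := hvz
      have h1 : (2 ^ k : ℕ) • r + (2 ^ k : ℕ) • r = 0 := by
        rw [← two_nsmul, ← mul_smul, ← pow_succ']; exact hr
      obtain ⟨v, hv⟩ : ∃ v : M, (2 ^ k : ℕ) • r = (2 ^ (k + 1) : ℕ) • v := by
        rcases htwo _ h1 with h | h | h | h
        · exact ⟨0, by rw [h, smul_zero]⟩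
        · exact ⟨vz, by rw [h, hvz]⟩
        · exact ⟨vu, by rw [h, hvu]⟩
        · exact ⟨vu + vz, by rw [h, smul_add, ← hvu, ← hvz]⟩
      obtain ⟨v', hv'⟩ := ih (by omega) (r - (2 : ℕ) • v) (by
        rw [smul_sub, ← mul_smul, ← pow_succ, hv, sub_self])
      exact ⟨v' + v, by rw [smul_add, ← hv']; abel⟩
  obtain ⟨q', hq'⟩ := D.qd
  obtain ⟨s', hs'⟩ := D.sd
  obtain ⟨kq, hkq⟩ := hcyc q'
  obtain ⟨ks, hks⟩ := hcyc s'
  have hQ : (2 ^ (j - 1) : ℕ) • q = kq • g := by rw [hq', ← mul_smul, ← hpow]; exact hkq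
  have hW : (2 ^ (j - 1) : ℕ) • s = ks • g := by rw [hs', ← mul_smul, ← hpow]; exact hks
  have hτ : ¬ IsDbl (ρ + q) := fun ⟨v, hv⟩ => D.notd ⟨v - q', by rw [smul_sub, ← hv, ← hq']; abel⟩
  have hμτ : μ (ρ + q) + (ρ + q) = 0 := by
    rw [map_add, D.fixq, ← D.rel, two_nsmul]; abel
  have hητ : η (ρ + q) = (ρ + q) + (μ s - s) := by
    rw [map_add, D.etar, D.etaq, two_nsmul]; abel
  set x : M := (2 ^ (j - 1) : ℕ) • (ρ + q) with hx
  have hxdef : x + x = (2 ^ j : ℕ) • (ρ + q) := by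
    rw [hx, ← two_nsmul, ← mul_smul, mul_comm, ← hpow]
  obtain ⟨kx, hkx⟩ := hcyc (ρ + q)
  have h2kx : (2 * kx) • g = 0 := by
    obtain ⟨t, ht⟩ := hcp
    have h1 := congrArg (fun y => (2 ^ j : ℕ) • y) hμτ
    simp only [smul_zero] at h1
    rw [smul_add, ← map_nsmul, hkx, map_zsmul, hc,
      ← mul_smul, ← add_smul, show kx * c + kx = 2 * kx * (2 * t + 1) by
        rw [show c = 4 * t + 1 by omega]; ring, zsmul_eq_zero_iff_dvd he] at h1
    refine (zsmul_eq_zero_iff_dvd he _).2 ((IsCoprime.dvd_of_dvd_mul_right ?_ h1))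
    push_cast
    exact IsCoprime.pow_left ⟨-t, 1, by ring⟩
  have hkxe : ∃ m : ℤ, kx • g = (2 * m) • g := by
    rw [zsmul_eq_zero_iff_dvd he] at h2kx
    obtain ⟨t, ht⟩ := h2kx
    push_cast at ht
    refine ⟨2 ^ (e - 2) * t, ?_⟩
    congr 1
    have e1 : (2 : ℤ) ^ e = 2 ^ (e - 2) * 4 := by
      rw [show (4 : ℤ) = 2 ^ 2 by norm_num, ← pow_add]; congr 1; omega
    rw [e1] at ht
    nlinarith [ht]
  obtain ⟨m, hm⟩ := hkxe
  have h4m : (4 * m) • g = 0 := by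
    rw [show 4 * m = 2 * (2 * m) by ring, mul_smul, ← hm, ← mul_smul, h2kx]
  have hxw : (x - m • g) + (x - m • g) = 0 := by
    rw [show x - m • g + (x - m • g) = (x + x) - (m • g + m • g) by abel, hxdef, hkx, hm, ← add_smul,
      show m + m = 2 * m by ring, sub_self]
  have hxw' : η (x - m • g) = (x - m • g) + z := by
    rcases htwo _ hxw with h | h | h | h
    · exfalso
      refine hτ ?_
      obtain ⟨t, ht⟩ := hkill (j - 1) (by omega) ((ρ + q) - (2 : ℕ) • (m • g₀)) (by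
        rw [smul_sub, ← hx, ← mul_smul (2 ^ (j - 1) : ℕ), ← hpow, smul_comm, ← hgdef]; exact h)
      exact ⟨t + m • g₀, by rw [smul_add, ← ht]; abel⟩
    · exfalso
      refine hτ ?_
      obtain ⟨t, ht⟩ := hkill (j - 1) (by omega)
        ((ρ + q) - (2 : ℕ) • (m • g₀) - (2 : ℕ) • ((2 : ℕ) • wz)) (by
        rw [smul_sub, smul_sub, ← hx, ← mul_smul (2 ^ (j - 1) : ℕ), ← hpow, smul_comm (2 ^ j : ℕ) m,
          ← hgdef, h, ← mul_smul (2 ^ (j - 1) : ℕ), ← hpow, smul_comm, ← hwz, sub_self])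
      exact ⟨t + m • g₀ + (2 : ℕ) • wz, by rw [smul_add, smul_add, ← ht]; abel⟩
    · rw [h, hηu]
    · rw [h, map_add, hηu, hηz]
  rw [map_sub, (hfix4 m h4m).2] at hxw'
  have hmain : μ ((2 ^ (j - 1) : ℕ) • s) - (2 ^ (j - 1) : ℕ) • s = z := by
    have h5 : η x = x + z := by
      have := congrArg (fun y => y + m • g) hxw'
      simpa [sub_add_cancel, sub_add_eq_add_sub, add_sub_cancel_right] using this
    have h6 : η x = x + (μ ((2 ^ (j - 1) : ℕ) • s) - (2 ^ (j - 1) : ℕ) • s) := by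
      rw [hx, map_nsmul η, hητ, map_nsmul μ, smul_add, smul_sub]
    exact add_left_cancel (h6.symm.trans h5)
  -- the shift `ks` is an element of order at most four plus a fixed element
  obtain ⟨v, hv⟩ := hη ((2 : ℕ) • q')
  obtain ⟨v₀, hv₀⟩ := hη g₀
  obtain ⟨l, hl⟩ := hcyc v₀
  have hηg : η g = g + (4 * l) • g := by
    rw [mul_smul, ← hl, hgdef, map_nsmul, show η g₀ = g₀ + (4 : ℕ) • v₀ by rw [← hv₀]; abel,
      smul_add, smul_comm]
    norm_cast
  have hrel : (2 * ks) • g = (4 * (l * kq)) • g + z := by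
    -- both sides compute `(1 - η) (2^(j-1) ρ)`
    have e1 : (2 * ks) • g = x - η x + (η ((2 ^ (j - 1) : ℕ) • q) - (2 ^ (j - 1) : ℕ) • q) := by
      rw [hx, map_nsmul η, map_nsmul η, hητ, D.etaq, mul_smul, ← hW, two_zsmul]
      simp only [smul_add, smul_sub]
      abel
    have e2 : η x = x + z := by
      have := congrArg (fun y => y + m • g) hxw'
      simpa [sub_add_cancel, sub_add_eq_add_sub, add_sub_cancel_right] using this
    rw [e1, e2, hQ, map_zsmul, hηg, smul_add, ← mul_smul, show kq * (4 * l) = 4 * (l * kq) by ring]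
    conv_rhs => rw [eq_neg_of_add_eq_zero_left hz]
    abel
  have h4ks : (4 * (ks - 2 * (l * kq))) • g = 0 := by
    rw [show 4 * (ks - 2 * (l * kq)) = 2 * (2 * ks - 4 * (l * kq)) by ring, mul_smul, sub_smul, hrel,
      add_sub_cancel_left, two_zsmul, hz]
  have hfq : μ (kq • g) = kq • g := by rw [← hQ, map_nsmul, D.fixq]
  refine hz0 ?_
  rw [← hmain, hW, show ks • g = (ks - 2 * (l * kq)) • g + (2 * l) • (kq • g) by
    rw [← mul_smul, ← add_smul]; congr 1; ring, map_add, (hfix4 _ h4ks).1, map_zsmul μ, hfq, sub_self]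

end Cfsg.Lib.SelfCentEight
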