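/-
The sectional rank bound when a self-centralising elementary abelian subgroup of order eight
contains a normal four group.
-/
import Cfsg.Agent.TwoFusion.EightCentre
import Cfsg.Agent.TwoFusion.EightModule

set_option autoImplicit false
set_option linter.style.haveILetI false
set_option linter.unusedSectionVars false

namespace Cfsg.Lib.SelfCentEight

open Subgroup
open scoped commutatorElement

variable {S : Type*} [Group S] [Finite S]

/-- The elements of a subgroup of order four of exponent two. -/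
theorem four_cases {U : Subgroup S} (hU4 : Nat.card U = 4) (hU2 : ∀ v ∈ U, v * v = 1)
    {z u : S} (hz : z ∈ U) (hu : u ∈ U) (hz1 : z ≠ 1) (hu1 : u ≠ 1) (hne : u ≠ z) {x : S} (hx : x ∈ U) :
    x = 1 ∨ x = z ∨ x = u ∨ x = u * z := by
  classical
  by_contra hc
  simp only [not_or] at hc
  obtain ⟨h1, h2, h3, h4⟩ := hc
  have e1 : u * z ≠ 1 := fun h => hne (mul_right_cancel (h.trans (hU2 z hz).symm))
  have e2 : u * z ≠ z := fun h => hu1 (mul_right_cancel (h.trans (one_mul z).symm))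
  have e3 : u * z ≠ u := fun h => hz1 (mul_left_cancel (h.trans (mul_one u).symm))
  have hs : ({1, z, u, u * z, x} : Finset S) ⊆ (U : Set S).toFinite.toFinset := by
    intro y hy
    simp only [Finset.mem_insert, Finset.mem_singleton] at hy
    rw [Set.Finite.mem_toFinset]
    rcases hy with rfl | rfl | rfl | rfl | rfl
    exacts [one_mem U, hz, hu, mul_mem hu hz, hx]
  have := Finset.card_le_card hs
  rw [← Set.ncard_eq_toFinset_card, ← Nat.card_coe_set_eq, show Nat.card (↥(U : Set S)) = 4 from hU4,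
    Finset.card_insert_of_notMem (by simp [hz1.symm, hu1.symm, e1.symm, Ne.symm h1]),
    Finset.card_insert_of_notMem (by simp [hne.symm, e2.symm, Ne.symm h2]),
    Finset.card_insert_of_notMem (by simp [e3.symm, Ne.symm h3]),
    Finset.card_insert_of_notMem (by simp [Ne.symm h4]), Finset.card_singleton] at this
  omega

/-- A homomorphism to a group of order at most two loses at most a factor two. -/
theorem card_le_two_mul_inf {C : Subgroup S} [C.Normal] (hC : C.index ≤ 2) (H : Subgroup S) :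
    Nat.card H ≤ 2 * Nat.card ↥(H ⊓ C) := by
  have h1 := card_map_mul (QuotientGroup.mk' C) H
  rw [QuotientGroup.ker_mk'] at h1
  have h2 : Nat.card (H.map (QuotientGroup.mk' C)) ≤ 2 :=
    (Subgroup.card_le_card_group _).trans (by rw [← Subgroup.index_eq_card]; exact hC)
  rw [← h1]
  exact Nat.mul_le_mul_right _ h2

/-- A class of conjugates bounds a group through the order of a centraliser. -/
theorem card_le_of_commutators {Y N : Subgroup S} {a : S} {m : ℕ}
    (hN : ∀ y ∈ Y, y * a * y⁻¹ * a⁻¹ ∈ N)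
    (hC : Nat.card ↥(Y ⊓ centralizer ({a} : Set S)) ≤ m) :
    Nat.card Y ≤ m * Nat.card N := by
  classical
  let K : Subgroup Y := (centralizer ({a} : Set S)).subgroupOf Y
  let f : Y ⧸ K → N := fun q => ⟨_, hN q.out q.out.2⟩
  have hf : Function.Injective f := by
    intro p q hpq
    rw [← QuotientGroup.out_eq' p, ← QuotientGroup.out_eq' q, QuotientGroup.eq]
    have h1 : (p.out : S) * a * (p.out : S)⁻¹ = (q.out : S) * a * (q.out : S)⁻¹ :=
      mul_right_cancel (congrArg Subtype.val hpq)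
    show ((p.out : S))⁻¹ * (q.out : S) ∈ centralizer ({a} : Set S)
    refine mem_centralizer_singleton_iff.2 ?_
    calc (p.out : S)⁻¹ * q.out * a
        = (p.out : S)⁻¹ * ((q.out : S) * a * (q.out : S)⁻¹) * q.out := by group
      _ = (p.out : S)⁻¹ * ((p.out : S) * a * (p.out : S)⁻¹) * q.out := by rw [h1]
      _ = a * ((p.out : S)⁻¹ * q.out) := by group
  have h1 := Nat.card_le_card_of_injective f hf
  have hK : Nat.card K ≤ m := by
    rw [show K = (Y ⊓ centralizer ({a} : Set S)).subgroupOf Y from (Subgroup.inf_subgroupOf_left _ _).symm,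
      Nat.card_congr (Subgroup.subgroupOfEquivOfLe inf_le_left).toEquiv]
    exact hC
  rw [Subgroup.card_eq_card_quotient_mul_card_subgroup K, mul_comm m]
  exact Nat.mul_le_mul h1 hK

set_option maxHeartbeats 1600000 in
/-- The bound when `B` contains a normal subgroup `U` of order four. -/
theorem bound_of_normal_four_le (hS : IsPGroup 2 S) (U B : Subgroup S) [U.Normal] (hU4 : Nat.card U = 4)
    (hUB : U ≤ B) (hB8 : Nat.card B = 8) (hB2 : ∀ x ∈ B, x * x = 1)
    (hBC : ∀ s : S, (∀ x ∈ B, s * x = x * s) → s ∈ B) : Bound S := by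
  classical
  haveI := Fact.mk Nat.prime_two
  set C : Subgroup S := centralizer (U : Set S) with hCdef
  have hU2 : ∀ v ∈ U, v * v = 1 := fun v hv => hB2 v (hUB hv)
  have hBleC : B ≤ C := fun x hx => mem_centralizer_iff.2 fun v hv => comm_of_sq_one hB2 (hUB hv) hx
  haveI hCn : C.Normal := ⟨fun c hc g => mem_centralizer_iff.2 fun v hv => by
    have h1 := mem_centralizer_iff.1 hc _ (Subgroup.Normal.conj_mem inferInstance v hv g⁻¹)
    rw [inv_inv] at h1
    calc v * (g * c * g⁻¹) = g * ((g⁻¹ * v * g) * c) * g⁻¹ := by group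
      _ = g * (c * (g⁻¹ * v * g)) * g⁻¹ := by rw [h1]
      _ = g * c * g⁻¹ * v := by group⟩
  have hcf : CentreFour C B U := ⟨hS, hUB, hBleC, hB8, hU4, hB2,
    fun c hc v hv => (mem_centralizer_iff.1 hc v hv).symm, fun c _ hc => hBC c hc⟩
  -- a central involution of `U` and the action of outer elements
  obtain ⟨z, hzU, hzc, hz⟩ := Cfsg.Lib.PGroups.exists_mem_center_of_normal_ne_bot hS (N := U)
    (fun h => by rw [h, card_bot] at hU4; omega)
  have hz1 : z ≠ 1 := fun h => by rw [h, orderOf_one] at hz; omega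
  obtain ⟨u, huU, hu1, hne⟩ : ∃ u ∈ U, u ≠ 1 ∧ u ≠ z := by
    by_contra hc
    push Not at hc
    have hle : U ≤ zpowers z := fun v hv => by
      rcases eq_or_ne v 1 with rfl | hv1
      · exact one_mem _
      · rw [hc v hv hv1]; exact mem_zpowers z
    have := card_le_of_le hle
    rw [Nat.card_zpowers, hz, hU4] at this
    omega
  have hzz : z * z = 1 := hU2 z hzU
  have hCmem : ∀ s : S, s * u * s⁻¹ = u → s ∈ C := fun s hs => mem_centralizer_iff.2 fun v hv => by
    have hsu : u * s = s * u := by rw [mul_inv_eq_iff_eq_mul] at hs; exact hs.symm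
    have hsz : z * s = s * z := (mem_center_iff.1 hzc s).symm
    rcases four_cases hU4 hU2 hzU huU hz1 hu1 hne hv with rfl | rfl | rfl | rfl
    · simp
    · exact hsz
    · exact hsu
    · rw [mul_assoc, hsz, ← mul_assoc, hsu, mul_assoc]
  have hout : ∀ s : S, s ∉ C → s * u * s⁻¹ = u * z := fun s hs => by
    rcases four_cases hU4 hU2 hzU huU hz1 hu1 hne (Subgroup.Normal.conj_mem inferInstance u huU s) with
      h | h | h | h
    · exact absurd (conj_eq_one_iff.1 h) hu1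
    · refine absurd ?_ hne
      rw [mul_inv_eq_iff_eq_mul, ← mem_center_iff.1 hzc s] at h
      exact mul_left_cancel h
    · exact absurd (hCmem s h) hs
    · exact h
  have hprod : ∀ s t : S, s ∉ C → t ∉ C → s⁻¹ * t ∈ C := fun s t hs ht => by
    refine hCmem _ ?_
    have h1 := hout t ht
    have h2 := hout s hs
    calc s⁻¹ * t * u * (s⁻¹ * t)⁻¹ = s⁻¹ * (t * u * t⁻¹) * s := by group
      _ = s⁻¹ * (s * u * s⁻¹) * s := by rw [h1, h2]
      _ = u := by group
  have hindex : C.index ≤ 2 := by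
    rw [Subgroup.index_eq_card]
    let f : S ⧸ C → Bool := fun q => decide (q.out ∈ C)
    have hf : Function.Injective f := by
      intro p q hpq
      rw [← QuotientGroup.out_eq' p, ← QuotientGroup.out_eq' q, QuotientGroup.eq]
      simp only [f, decide_eq_decide] at hpq
      by_cases hp : p.out ∈ C
      · exact mul_mem (inv_mem hp) (hpq.1 hp)
      · exact hprod _ _ hp (mt hpq.2 hp)
    refine (Nat.card_le_card_of_injective f hf).trans ?_
    simp
  set R : Subgroup S := ⁅C, C⁆ with hRdef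
  haveI hRn : R.Normal := Subgroup.commutator_normal C C
  set π := QuotientGroup.mk' R with hπdef
  have hker : π.ker = R := QuotientGroup.ker_mk' R
  have hSR : Nat.card S ≤ 16 * Nat.card R := by
    rw [← Subgroup.card_mul_index C, hcf.card_eq, ← hRdef]
    nlinarith [hindex, Nat.zero_le (Nat.card R)]
  have hSq : Nat.card (S ⧸ R) ≤ 16 := by
    have h1 := Subgroup.card_eq_card_quotient_mul_card_subgroup R
    rw [h1] at hSR
    exact Nat.le_of_mul_le_mul_right hSR Nat.card_pos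
  intro H N hN
  by_cases hcov : C ≤ H ⊔ R
  · have hHC : H ⊓ C = C := by
      refine hcf.eq_of_sup inf_le_right fun c hc => ?_
      obtain ⟨x, hx, r, hr, rfl⟩ := Subgroup.mem_sup_of_normal_right.1 (hcov hc)
      exact mul_mem_sup ⟨hx, (mul_mem_cancel_right (hcf.comm_le hr)).1 hc⟩ hr
    have hRN : R ≤ N := hcf.comm_le_of_sqIn hN (inf_eq_right.1 hHC)
    calc Nat.card H ≤ Nat.card S := Subgroup.card_le_card_group H
      _ ≤ 16 * Nat.card R := hSR
      _ ≤ 16 * Nat.card N := Nat.mul_le_mul_left _ (card_le_of_le hRN)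
  have hQ : IsPGroup 2 (S ⧸ R) := hS.to_quotient R
  have hH8 : Nat.card (H.map π) ≤ 8 := by
    have hne' : H.map π ≠ ⊤ := fun he => hcov <| by
      have h1 : (H.map π).comap π = ⊤ := by rw [he, Subgroup.comap_top]
      rw [Subgroup.comap_map_eq, hker] at h1
      rw [h1]; exact le_top
    have h1 := two_mul_card_le (le_top : H.map π ≤ ⊤) hne'
    rw [Subgroup.card_top] at h1
    omega
  have hN1 : 1 ≤ Nat.card (N.map π) := Nat.card_pos
  have hNR : SqIn (H ⊓ R) (N ⊓ R) := hN.inf R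
  have hcommT : ∀ x ∈ H ⊓ R, ∀ y ∈ H ⊓ R, x * y = y * x := fun x hx y hy => hcf.commR hx.2 hy.2
  have hTV : ∀ V : Subgroup S, V ≤ H ⊓ R → (∀ v ∈ V, v * v = 1) → V ≤ R ⊓ B := fun V hV hV2 v hv =>
    ⟨(hV hv).2, (hcf.mem_iff (hV hv).2).1 (hV2 v hv)⟩
  by_cases hrank : Nat.card ↥(R ⊓ B) < 4
  · have hm : Nat.card ↥(R ⊓ B) ≤ 2 := by
      obtain ⟨k, hk⟩ := card_pow hS (R ⊓ B)
      rw [hk] at hrank ⊢
      have hk1 : k ≤ 1 := by
        by_contra hc
        have : 2 ^ 2 ≤ 2 ^ k := Nat.pow_le_pow_right two_pos (by omega)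
        omega
      exact Nat.pow_le_pow_right two_pos hk1
    refine (card_bound π 8 2 ?_ ?_).trans (le_of_eq rfl)
    · exact hH8.trans (Nat.le_mul_of_pos_right _ hN1)
    · rw [hker]
      exact card_le_four_of_squares hNR hcommT fun V hV hV2 => (card_le_of_le (hTV V hV hV2)).trans hm
  have hΩ : R ⊓ B = U := hcf.omega_eq (by rw [← hRdef]; omega)
  have hT4 : Nat.card ↥(H ⊓ R) ≤ 4 * Nat.card ↥(N ⊓ R) :=
    card_le_four_of_squares hNR hcommT fun V hV hV2 =>
      (card_le_of_le (hTV V hV hV2)).trans (by rw [hΩ, hU4])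
  by_cases hX : Nat.card (H.map π) ≤ 4 * Nat.card (N.map π)
  · exact (card_bound π 4 4 hX (by rw [hker]; exact hT4)).trans (le_of_eq rfl)
  by_cases hT2 : Nat.card ↥(H ⊓ R) ≤ 2 * Nat.card ↥(N ⊓ R)
  · exact (card_bound π 8 2 (hH8.trans (Nat.le_mul_of_pos_right _ hN1)) (by rw [hker]; exact hT2)).trans
      (le_of_eq rfl)
  exfalso
  have hNbar : Nat.card (N.map π) = 1 := by omega
  have hX8 : Nat.card (H.map π) = 8 := by
    obtain ⟨k, hk⟩ := card_pow hQ (H.map π)
    rw [hk] at hX hH8 ⊢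
    have hk3 : k = 3 := by
      rcases Nat.lt_trichotomy k 3 with h | h | h
      · have : 2 ^ k ≤ 2 ^ 2 := Nat.pow_le_pow_right two_pos (by omega)
        omega
      · exact h
      · have : 2 ^ 4 ≤ 2 ^ k := Nat.pow_le_pow_right two_pos h
        omega
    rw [hk3]; norm_num
  have hNle : N ≤ R := fun x hx => by
    rw [← hker, MonoidHom.mem_ker]
    have : π x ∈ N.map π := mem_map_of_mem π hx
    rwa [Subgroup.card_eq_one.1 hNbar, mem_bot] at this
  set T : Subgroup S := H ⊓ R with hTdef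
  have hNT : N ≤ T := le_inf hN.le hNle
  have hNR' : N ⊓ R = N := inf_eq_left.2 hNle
  rw [hNR'] at hT2 hT4 hNR
  have hTcard : Nat.card T = 4 * Nat.card N := by
    obtain ⟨t, ht⟩ := card_pow hS T
    obtain ⟨k, hk⟩ := card_pow hS N
    rw [ht, hk] at hT2 hT4 ⊢
    have h1 : k + 2 ≤ t := by
      by_contra hc
      have : 2 ^ t ≤ 2 ^ (k + 1) := Nat.pow_le_pow_right two_pos (by omega)
      rw [pow_succ] at this
      omega
    have h2 : 2 ^ (k + 2) ≤ 2 ^ t := Nat.pow_le_pow_right two_pos h1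
    rw [pow_add] at h2
    norm_num at h2
    omega
  have hHcard : Nat.card H = 8 * Nat.card T := by
    rw [← card_map_mul π H, hker, hX8]
  -- squaring on `T` has kernel `U` and image `N`
  let sqT : T →* S :=
    { toFun := fun x => (x : S) * x
      map_one' := by simp
      map_mul' := fun x y => by
        push_cast
        rw [show (x : S) * y * ((x : S) * y) = x * ((y : S) * x) * y by group, ← hcommT _ x.2 _ y.2]
        group }
  have hsplit : Nat.card sqT.ker * Nat.card sqT.range = Nat.card T := by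
    rw [← Subgroup.index_ker]; exact Subgroup.card_mul_index _
  have hrle : sqT.range ≤ N := by rintro _ ⟨x, rfl⟩; exact hNR.sq x.2
  have hkle : sqT.ker.map T.subtype ≤ U := by
    rintro _ ⟨x, hx, rfl⟩
    exact hΩ ▸ (⟨x.2.2, (hcf.mem_iff x.2.2).1 hx⟩ : (x : S) ∈ R ⊓ B)
  have hkc : Nat.card sqT.ker ≤ 4 := by
    rw [← hU4]
    exact (Nat.card_congr (Subgroup.equivMapOfInjective _ T.subtype Subtype.val_injective).toEquiv).trans_le
      (card_le_of_le hkle)
  have hUT : U ≤ T := by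
    have h1 : 4 ≤ Nat.card sqT.ker := by
      by_contra hc
      have h2 := card_le_of_le hrle
      have h3 : 0 < Nat.card N := Nat.card_pos
      have h4 : Nat.card sqT.ker * Nat.card sqT.range ≤ 3 * Nat.card N := Nat.mul_le_mul (by omega) h2
      omega
    have h2 : sqT.ker.map T.subtype = U := Subgroup.eq_of_le_of_card_ge hkle (by
      rw [hU4, ← Nat.card_congr (Subgroup.equivMapOfInjective _ T.subtype Subtype.val_injective).toEquiv]
      exact h1)
    rw [← h2]; exact map_subtype_le _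
  -- the part inside `C`
  set Y : Subgroup S := H ⊓ C with hYdef
  have hTY : T ≤ Y := inf_le_inf_left H hcf.comm_le
  have hHC : ¬ H ≤ C := fun hle => hcov <| by
    have h1 : H.map π = C.map π := by
      refine Subgroup.eq_of_le_of_card_ge (map_mono hle) ?_
      have h2 := card_map_mul π C
      rw [hker, inf_eq_right.2 hcf.comm_le, hcf.card_eq, ← hRdef] at h2
      rw [hX8]
      exact (Nat.eq_of_mul_eq_mul_right Nat.card_pos h2).le
    have h3 : (C.map π).comap π = (H.map π).comap π := by rw [h1]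
    rw [Subgroup.comap_map_eq, Subgroup.comap_map_eq, hker] at h3
    exact le_sup_left.trans h3.le
  obtain ⟨h₀, hh₀, hh₀C⟩ := SetLike.not_le_iff_exists.1 hHC
  have hYcard : Nat.card Y = 4 * Nat.card T := by
    have h1 := card_le_two_mul_inf hindex H
    have h2 := two_mul_card_le_of_not_mem (inf_le_left : H ⊓ C ≤ H) hh₀ (fun hc => hh₀C hc.2)
    rw [← hYdef] at h1 h2
    omega
  obtain ⟨a, ha, ha'⟩ := hcf.exists_outside
  have haC : a ∈ C := hBleC ha
  have haa : a * a = 1 := hB2 a ha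
  have hainv : a⁻¹ = a := inv_eq_of_mul_eq_one_right haa
  have hinvR : ∀ r ∈ R, a * r * a = r⁻¹ := fun r hr => by
    have := hcf.inv ha ha' hr
    rwa [hainv] at this
  by_cases haX : ∃ r ∈ R, a * r ∈ H
  · obtain ⟨r, hr, har⟩ := haX
    obtain ⟨w, hw, hwa⟩ := (hcf.surj ha ha').2 r hr
    have hc8 : Nat.card ↥(Y ⊓ centralizer ({a * r} : Set S)) ≤ 8 := by
      have hle : Y ⊓ centralizer ({a * r} : Set S) ≤ B.map (MulAut.conj w).toMonoidHom := by
        rintro y ⟨hy, hy'⟩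
        have hy'' := mem_centralizer_singleton_iff.1 hy'
        rw [← hwa] at hy''
        refine ⟨w⁻¹ * y * w, hcf.cent ha ha' (mul_mem (mul_mem (inv_mem hw) hy.2) hw) ?_, by simp; group⟩
        calc w⁻¹ * y * w * a = w⁻¹ * (y * (w * a * w⁻¹)) * w := by group
          _ = w⁻¹ * ((w * a * w⁻¹) * y) * w := by rw [hy'']
          _ = a * (w⁻¹ * y * w) := by group
      refine (card_le_of_le hle).trans (le_of_eq ?_)
      rw [← hB8]
      exact (Nat.card_congr (Subgroup.equivMapOfInjective B (MulAut.conj w).toMonoidHom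
        (MulAut.conj w).injective).toEquiv).symm
    have h1 := card_le_of_commutators (fun y (hy : y ∈ Y) => hN.comm hy.1 har) hc8
    have : 0 < Nat.card N := Nat.card_pos
    omega
  push Not at haX
  set L : Subgroup S := Y ⊔ R with hLdef
  have hLC : L ≤ C := sup_le inf_le_right hcf.comm_le
  have haL : a ∉ L := by
    intro hc
    obtain ⟨y, hy, r, hr, hyr⟩ := Subgroup.mem_sup_of_normal_right.1 hc
    exact haX r⁻¹ (inv_mem hr) (by rw [← hyr, mul_inv_cancel_right]; exact hy.1)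
  have hLi : (L.subgroupOf C).index = 2 := by
    have hLmap : Nat.card (L.map π) = 4 := by
      have h1 : L.map π = Y.map π := by
        rw [hLdef, Subgroup.map_sup, show R.map π = ⊥ by rw [Subgroup.map_eq_bot_iff, hker], sup_bot_eq]
      have h2 := card_map_mul π Y
      rw [hker, show Y ⊓ R = T from by
        rw [hYdef, hTdef, inf_assoc, inf_eq_right.2 hcf.comm_le], hYcard] at h2
      rw [h1]
      exact Nat.eq_of_mul_eq_mul_right Nat.card_pos h2
    have hLcard : Nat.card L = 4 * Nat.card R := by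
      rw [← card_map_mul π L, hLmap, hker, inf_eq_right.2 (le_sup_right : R ≤ L)]
    have h3 := Subgroup.card_mul_index (L.subgroupOf C)
    rw [Nat.card_congr (Subgroup.subgroupOfEquivOfLe hLC).toEquiv, hLcard, hcf.card_eq, ← hRdef] at h3
    have h5 : (4 * Nat.card R) * (L.subgroupOf C).index = (4 * Nat.card R) * 2 := by omega
    exact Nat.eq_of_mul_eq_mul_left (by have : 0 < Nat.card R := Nat.card_pos; omega) h5
  have hcover : ∀ c ∈ C, c ∈ L ∨ a * c ∈ L := by
    intro c hc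
    by_cases hcL : c ∈ L
    · exact Or.inl hcL
    · right
      exact (Subgroup.mul_mem_iff_of_index_two hLi (a := (⟨a, haC⟩ : C)) (b := ⟨c, hc⟩)).2
        (iff_of_false haL hcL)
  let ρ : S → S := fun y => a * y * a * y⁻¹
  have hρR : ∀ y ∈ Y, ρ y ∈ R := fun y hy => by
    have : ⁅a, y⁆ ∈ R := commutator_mem_commutator haC hy.2
    rwa [commutatorElement_def, hainv] at this
  -- the subgroup of squares of `R`
  let sqR : R →* S :=
    { toFun := fun x => (x : S) * x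
      map_one' := by simp
      map_mul' := fun x y => by
        push_cast
        rw [show (x : S) * y * ((x : S) * y) = x * ((y : S) * x) * y by group, ← hcf.commR x.2 y.2]
        group }
  set R₂ : Subgroup S := sqR.range with hR2def
  haveI hR2n : R₂.Normal := ⟨by
    rintro _ ⟨x, rfl⟩ g
    exact ⟨⟨g * x * g⁻¹, hRn.conj_mem x x.2 g⟩, by
      show g * x * g⁻¹ * (g * x * g⁻¹) = g * ((x : S) * x) * g⁻¹
      group⟩⟩
  have hR2R : R₂ ≤ R := by rintro _ ⟨x, rfl⟩; exact mul_mem x.2 x.2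
  have hNR2 : N ≤ R₂ := by
    have hrange : sqT.range = N := by
      refine Subgroup.eq_of_le_of_card_ge hrle ?_
      have h3 : Nat.card sqT.ker * Nat.card sqT.range ≤ 4 * Nat.card sqT.range := Nat.mul_le_mul_right _ hkc
      omega
    rw [← hrange]
    rintro _ ⟨x, rfl⟩
    exact ⟨⟨x, x.2.2⟩, rfl⟩
  have hnotd : ∀ y ∈ Y, ρ y ∈ R₂ → y ∈ T := by
    rintro y hy ⟨r, hr⟩
    have hr' : (r : S) * r = a * y * a * y⁻¹ := hr
    have hc : ((r : S) * y) * a = a * ((r : S) * y) := by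
      have h1 : a * ((r : S) * y) * a = (r : S) * y := by
        calc a * ((r : S) * y) * a = (a * r * a⁻¹) * (a * y * a * y⁻¹) * y := by group
          _ = (r : S)⁻¹ * ((r : S) * r) * y := by rw [hainv, hinvR r r.2, hr']
          _ = (r : S) * y := by group
      calc (r : S) * y * a = (a * ((r : S) * y) * a) * a := by rw [h1]
        _ = a * ((r : S) * y) * (a * a) := by group
        _ = a * ((r : S) * y) := by rw [haa, mul_one]
    have hB' := hcf.cent ha ha' (mul_mem (hcf.comm_le r.2) hy.2) hc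
    refine ⟨hy.1, ?_⟩
    have hUR : U ≤ R := hΩ ▸ inf_le_left
    by_cases hin : (r : S) * y ∈ U
    · exact (mul_mem_cancel_left r.2).1 (hUR hin)
    · exfalso
      have hi : (U.subgroupOf B).index = 2 := by
        have h5 := Subgroup.card_mul_index (U.subgroupOf B)
        rw [Nat.card_congr (Subgroup.subgroupOfEquivOfLe hUB).toEquiv, hU4, hB8] at h5
        omega
      have hau : a * ((r : S) * y) ∈ U :=
        (Subgroup.mul_mem_iff_of_index_two hi (a := (⟨a, ha⟩ : B)) (b := ⟨_, hB'⟩)).2 (iff_of_false ha' hin)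
      refine haX ((a * (r : S)⁻¹ * a) * (a * ((r : S) * y)))
        (mul_mem (by rw [hinvR _ (inv_mem r.2), inv_inv]; exact r.2) (hUR hau)) ?_
      rw [show a * (a * (r : S)⁻¹ * a * (a * ((r : S) * y))) = (a * a) * (r : S)⁻¹ * (a * a) * r * y by group, haa]
      simpa using hy.1
  set π₂ := QuotientGroup.mk' R₂ with hπ2
  have hker2 : π₂.ker = R₂ := QuotientGroup.ker_mk' R₂
  have hπ2one : ∀ x, π₂ x = 1 ↔ x ∈ R₂ := fun x => QuotientGroup.eq_one_iff x
  have hπsq : ∀ r ∈ R, π₂ r * π₂ r = 1 := fun r hr => by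
    rw [← map_mul, hπ2one]; exact ⟨⟨r, hr⟩, rfl⟩
  have hπN : ∀ x ∈ N, π₂ x = 1 := fun x hx => (hπ2one x).2 (hNR2 hx)
  have hπYsq : ∀ y ∈ Y, π₂ y * π₂ y = 1 := fun y hy => by rw [← map_mul]; exact hπN _ (hN.sq hy.1)
  have hπY : ∀ y ∈ Y, ∀ y' ∈ Y, π₂ y * π₂ y' = π₂ y' * π₂ y := fun y hy y' hy' => by
    have := hπN _ (hN.comm hy.1 hy'.1)
    rwa [map_mul, map_mul, map_mul, map_inv, map_inv, mul_inv_eq_one, mul_inv_eq_iff_eq_mul] at this
  have hπa : π₂ a * π₂ a = 1 := by rw [← map_mul, haa, map_one]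
  have hρy : ∀ y, π₂ a * π₂ y * π₂ a = π₂ (ρ y) * π₂ y := fun y => by
    rw [← map_mul, ← map_mul, ← map_mul]; congr 1
    show a * y * a = a * y * a * y⁻¹ * y
    group
  have hfix : ∀ y ∈ Y, π₂ y * π₂ (ρ y) = π₂ (ρ y) * π₂ y := fun y hy => by
    have h1 : (π₂ (ρ y) * π₂ y) * (π₂ (ρ y) * π₂ y) = 1 := by
      rw [← hρy, show π₂ a * π₂ y * π₂ a * (π₂ a * π₂ y * π₂ a)
          = π₂ a * (π₂ y * (π₂ a * π₂ a) * π₂ y) * π₂ a by group,
        hπa, mul_one, hπYsq y hy, mul_one, hπa]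
    have h2 : π₂ (ρ y) * (π₂ y * π₂ (ρ y)) * π₂ y = 1 := by rw [← h1]; group
    calc π₂ y * π₂ (ρ y)
        = (π₂ (ρ y) * π₂ (ρ y)) * (π₂ y * π₂ (ρ y)) * (π₂ y * π₂ y) := by
          rw [hπsq _ (hρR y hy), hπYsq y hy, one_mul, mul_one]
      _ = π₂ (ρ y) * (π₂ (ρ y) * (π₂ y * π₂ (ρ y)) * π₂ y) * π₂ y := by group
      _ = π₂ (ρ y) * π₂ y := by rw [h2, mul_one]
  have hρne : ∀ y ∈ Y, y ∉ T → π₂ (ρ y) ≠ 1 := fun y hy hyT hc => hyT (hnotd y hy ((hπ2one _).1 hc))
  -- two independent elements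
  obtain ⟨y₁, hy₁, hy₁T⟩ : ∃ y ∈ Y, y ∉ T := SetLike.not_le_iff_exists.1 fun hle => by
    have := card_le_of_le hle
    have : 0 < Nat.card T := Nat.card_pos
    omega
  have hTn : ∀ y ∈ Y, y ∈ normalizer (T : Set S) := fun y hy => by
    refine Subgroup.mem_normalizer_iff.2 fun t => ⟨fun ht => ⟨mul_mem (mul_mem hy.1 ht.1) (H.inv_mem hy.1), hRn.conj_mem t ht.2 y⟩, fun ht => ?_⟩
    have h2 : y⁻¹ * (y * t * y⁻¹) * y ∈ R := by simpa using hRn.conj_mem _ ht.2 y⁻¹
    refine ⟨?_, by rwa [show y⁻¹ * (y * t * y⁻¹) * y = t by group] at h2⟩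
    have h3 := mul_mem (mul_mem (H.inv_mem hy.1) ht.1) hy.1
    rwa [show y⁻¹ * (y * t * y⁻¹) * y = t by group] at h3
  have hgen : ∀ y₁ ∈ Y, y₁ ∉ T → Nat.card ↥(T ⊔ zpowers y₁) = 2 * Nat.card T := by
    intro y₁ hy₁ hy₁T
    have hle : zpowers y₁ ≤ normalizer (T : Set S) := zpowers_le.2 (hTn y₁ hy₁)
    have h1 := two_mul_card_le_of_not_mem (le_sup_left : T ≤ T ⊔ zpowers y₁) (mem_sup_right (mem_zpowers y₁)) hy₁T
    refine le_antisymm ?_ h1
    haveI : (T.subgroupOf (T ⊔ zpowers y₁)).Normal :=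
      Subgroup.normal_subgroupOf_of_le_normalizer (sup_le (Subgroup.le_normalizer) hle)
    let K := T ⊔ zpowers y₁
    have hcy : ∀ x : K, (x : S) ∈ T ∨ (x : S) * y₁ ∈ T := by
      have h2 : ∀ x ∈ T ⊔ zpowers y₁, x ∈ T ∨ x * y₁ ∈ T := by
        intro x hx
        rw [← SetLike.mem_coe, Subgroup.coe_mul_of_right_le_normalizer_left _ _ hle] at hx
        obtain ⟨t, ht, w, hw, rfl⟩ := Set.mem_mul.1 hx
        obtain ⟨i, rfl⟩ := mem_zpowers_iff.1 hw
        have hsq : y₁ * y₁ ∈ T := hNT (hN.sq hy₁.1)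
        rcases Int.even_or_odd i with ⟨l, rfl⟩ | ⟨l, rfl⟩
        · left; rw [← two_mul, zpow_mul, zpow_two]; exact mul_mem ht (zpow_mem hsq l)
        · right
          rw [mul_assoc, ← zpow_add_one, show 2 * l + 1 + 1 = 2 * (l + 1) by ring, zpow_mul, zpow_two]
          exact mul_mem ht (zpow_mem hsq _)
      exact fun x => h2 x x.2
    let f : K ⧸ T.subgroupOf K → Bool := fun q => decide ((q.out : S) ∈ T)
    have hf : Function.Injective f := by
      intro p q hpq
      rw [← QuotientGroup.out_eq' p, ← QuotientGroup.out_eq' q, QuotientGroup.eq]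
      simp only [f, decide_eq_decide] at hpq
      show (p.out : S)⁻¹ * (q.out : S) ∈ T
      by_cases hp : (p.out : S) ∈ T
      · exact mul_mem (inv_mem hp) (hpq.1 hp)
      · have h3 := (hcy p.out).resolve_left hp
        have h4 := (hcy q.out).resolve_left (mt hpq.2 hp)
        have h5 := (Subgroup.mem_normalizer_iff.1 (hTn y₁ hy₁) _).1 (mul_mem (inv_mem h3) h4)
        rwa [show y₁ * ((((p.out : S)) * y₁)⁻¹ * ((q.out : S) * y₁)) * y₁⁻¹ = (p.out : S)⁻¹ * q.out by group] at h5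
    have h6 : Nat.card (K ⧸ T.subgroupOf K) ≤ 2 := (Nat.card_le_card_of_injective f hf).trans (by simp)
    rw [Subgroup.card_eq_card_quotient_mul_card_subgroup (T.subgroupOf K),
      Nat.card_congr (Subgroup.subgroupOfEquivOfLe (le_sup_left : T ≤ K)).toEquiv]
    exact Nat.mul_le_mul_right _ h6
  obtain ⟨y₂, hy₂, hy₂'⟩ : ∃ y ∈ Y, y ∉ T ⊔ zpowers y₁ := SetLike.not_le_iff_exists.1 fun hle => by
    have := card_le_of_le hle
    rw [hgen y₁ hy₁ hy₁T] at this
    have : 0 < Nat.card T := Nat.card_pos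
    omega
  have hy₂T : y₂ ∉ T := fun hc => hy₂' (mem_sup_left hc)
  have hy₃T : y₁ * y₂ ∉ T := fun hc => hy₂' (by
    rw [show y₂ = y₁⁻¹ * (y₁ * y₂) by group]
    exact mul_mem (mem_sup_right (inv_mem (mem_zpowers y₁))) (mem_sup_left hc))
  have hy₃ : y₁ * y₂ ∈ Y := mul_mem hy₁ hy₂
  -- `R / R₂` is the four group spanned by `ρ y₁` and `ρ y₂`
  have hRq : Nat.card (R.map π₂) = 4 := by
    have h1 := card_map_mul π₂ R
    rw [hker2, inf_eq_right.2 hR2R] at h1
    have h2 : Nat.card sqR.ker * Nat.card R₂ = Nat.card R := by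
      rw [hR2def, ← Subgroup.index_ker]; exact Subgroup.card_mul_index _
    have h3 : Nat.card sqR.ker = 4 := by
      have e : sqR.ker.map R.subtype = U := by
        ext x
        constructor
        · rintro ⟨r, hr, rfl⟩
          exact hΩ ▸ (⟨r.2, (hcf.mem_iff r.2).1 hr⟩ : (r : S) ∈ R ⊓ B)
        · intro hx
          have hx' : x ∈ R ⊓ B := hΩ.symm ▸ hx
          exact ⟨⟨x, hx'.1⟩, hU2 x hx, rfl⟩
      rw [← hU4, ← e]
      exact Nat.card_congr (Subgroup.equivMapOfInjective _ R.subtype Subtype.val_injective).toEquiv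
    rw [← h2, h3] at h1
    exact Nat.eq_of_mul_eq_mul_right Nat.card_pos h1
  have hRexp : ∀ v ∈ R.map π₂, v * v = 1 := by rintro _ ⟨r, hr, rfl⟩; exact hπsq r hr
  set p₁ := π₂ (ρ y₁) with hp1
  set p₂ := π₂ (ρ y₂) with hp2
  have hp1R : p₁ ∈ R.map π₂ := mem_map_of_mem π₂ (hρR y₁ hy₁)
  have hp2R : p₂ ∈ R.map π₂ := mem_map_of_mem π₂ (hρR y₂ hy₂)
  have hρ3 : π₂ (ρ (y₁ * y₂)) = p₁ * (π₂ y₁ * p₂ * (π₂ y₁)⁻¹) := by
    rw [hp1, hp2, ← map_inv, ← map_mul, ← map_mul, ← map_mul]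
    congr 1
    show a * (y₁ * y₂) * a * (y₁ * y₂)⁻¹ = a * y₁ * a * y₁⁻¹ * (y₁ * (a * y₂ * a * y₂⁻¹) * y₁⁻¹)
    rw [show a * y₁ * a * y₁⁻¹ * (y₁ * (a * y₂ * a * y₂⁻¹) * y₁⁻¹)
      = a * y₁ * (a * a) * y₂ * a * y₂⁻¹ * y₁⁻¹ by group, haa]
    group
  have hp12 : p₂ ≠ p₁ := fun he => by
    refine hρne _ hy₃ hy₃T ?_
    rw [hρ3, he, hfix y₁ hy₁, mul_inv_cancel_right, hRexp _ hp1R]
  have hy1p2 : π₂ y₁ * p₂ = p₂ * π₂ y₁ := by
    have hconjR : ∀ y r, r ∈ R → π₂ y * π₂ r * (π₂ y)⁻¹ ∈ R.map π₂ := fun y r hr => by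
      rw [← map_inv, ← map_mul, ← map_mul]
      exact mem_map_of_mem π₂ (hRn.conj_mem r hr y)
    have h1 := hconjR y₁ (ρ y₂) (hρR y₂ hy₂)
    have h2 := hconjR y₂ (ρ y₁) (hρR y₁ hy₁)
    rw [← hp2] at h1
    rw [← hp1] at h2
    rcases four_cases hRq hRexp hp1R hp2R (hρne y₁ hy₁ hy₁T) (hρne y₂ hy₂ hy₂T) hp12 h1 with h | h | h | h
    · exact absurd (conj_eq_one_iff.1 h) (hρne y₂ hy₂ hy₂T)
    · exfalso
      rw [mul_inv_eq_iff_eq_mul, ← hfix y₁ hy₁] at h
      exact hp12 (mul_left_cancel h)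
    · rw [mul_inv_eq_iff_eq_mul] at h; exact h
    · -- both commutators are equal, so this one is trivial
      exfalso
      have hA : (p₁ * π₂ y₁) * (p₂ * π₂ y₂) = (p₂ * π₂ y₂) * (p₁ * π₂ y₁) := by
        rw [hp1, hp2, ← hρy, ← hρy,
          show π₂ a * π₂ y₁ * π₂ a * (π₂ a * π₂ y₂ * π₂ a) = π₂ a * (π₂ y₁ * (π₂ a * π₂ a) * π₂ y₂) * π₂ a by group,
          show π₂ a * π₂ y₂ * π₂ a * (π₂ a * π₂ y₁ * π₂ a) = π₂ a * (π₂ y₂ * (π₂ a * π₂ a) * π₂ y₁) * π₂ a by group,
          hπa, mul_one, mul_one, hπY y₁ hy₁ y₂ hy₂]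
      have hB' : p₁ * (π₂ y₁ * p₂ * (π₂ y₁)⁻¹) = p₂ * (π₂ y₂ * p₁ * (π₂ y₂)⁻¹) := by
        have e1 : (p₁ * π₂ y₁) * (p₂ * π₂ y₂) = p₁ * (π₂ y₁ * p₂ * (π₂ y₁)⁻¹) * (π₂ y₁ * π₂ y₂) := by group
        have e2 : (p₂ * π₂ y₂) * (p₁ * π₂ y₁) = p₂ * (π₂ y₂ * p₁ * (π₂ y₂)⁻¹) * (π₂ y₂ * π₂ y₁) := by group
        rw [e1, e2, hπY y₂ hy₂ y₁ hy₁] at hA
        exact mul_right_cancel hA
      rw [h, comm_of_sq_one hRexp hp2R hp1R, ← mul_assoc, hRexp _ hp1R, one_mul] at hB'
      have e3 : π₂ y₂ * p₁ * (π₂ y₂)⁻¹ = 1 := mul_left_cancel (hB'.symm.trans (mul_one _).symm)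
      exact hρne y₁ hy₁ hy₁T (conj_eq_one_iff.1 e3)
  have hρ3' : π₂ (ρ (y₁ * y₂)) = p₁ * p₂ := by rw [hρ3, hy1p2, mul_inv_cancel_right]
  have hy2p1 : π₂ y₂ * p₁ = p₁ * π₂ y₂ := by
    have h0 := hfix _ hy₃
    rw [hρ3', map_mul] at h0
    have e1 : π₂ y₁ * π₂ y₂ * (p₁ * p₂) = π₂ y₁ * (π₂ y₂ * p₁) * p₂ := by group
    have e2 : p₁ * p₂ * (π₂ y₁ * π₂ y₂) = π₂ y₁ * (p₁ * π₂ y₂) * p₂ := by
      calc p₁ * p₂ * (π₂ y₁ * π₂ y₂) = p₁ * (p₂ * π₂ y₁) * π₂ y₂ := by group
        _ = p₁ * (π₂ y₁ * p₂) * π₂ y₂ := by rw [hy1p2]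
        _ = (p₁ * π₂ y₁) * (p₂ * π₂ y₂) := by group
        _ = (π₂ y₁ * p₁) * (π₂ y₂ * p₂) := by rw [hfix y₁ hy₁, hfix y₂ hy₂]
        _ = π₂ y₁ * (p₁ * π₂ y₂) * p₂ := by group
    rw [e1, e2] at h0
    exact mul_left_cancel (mul_right_cancel h0)
  have hspan2 : R.map π₂ = zpowers p₁ ⊔ zpowers p₂ := by
    refine le_antisymm ?_ (sup_le (zpowers_le.2 hp1R) (zpowers_le.2 hp2R))
    intro v hv
    rcases four_cases hRq hRexp hp1R hp2R (hρne y₁ hy₁ hy₁T) (hρne y₂ hy₂ hy₂T) hp12 hv with rfl | rfl | rfl | rfl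
    · exact one_mem _
    · exact mem_sup_left (mem_zpowers _)
    · exact mem_sup_right (mem_zpowers _)
    · exact mul_mem (mem_sup_right (mem_zpowers _)) (mem_sup_left (mem_zpowers _))
  have hcentQ : ∀ y ∈ Y, ∀ r ∈ R, π₂ y * π₂ r = π₂ r * π₂ y := by
    set K : Subgroup S := (centralizer ((R.map π₂ : Subgroup (S ⧸ R₂)) : Set (S ⧸ R₂))).comap π₂ with hKdef
    have hK : ∀ y, (π₂ y * p₁ = p₁ * π₂ y) → (π₂ y * p₂ = p₂ * π₂ y) → y ∈ K := by
      intro y h1 h2
      refine mem_centralizer_iff.2 fun v hv => ?_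
      rw [hspan2] at hv
      have hle : zpowers p₁ ⊔ zpowers p₂ ≤ centralizer ({π₂ y} : Set (S ⧸ R₂)) :=
        sup_le (zpowers_le.2 (mem_centralizer_singleton_iff.2 h1.symm))
          (zpowers_le.2 (mem_centralizer_singleton_iff.2 h2.symm))
      exact mem_centralizer_singleton_iff.1 (hle hv)
    have hTK : T ≤ K := fun t ht => mem_centralizer_iff.2 fun v hv =>
      comm_of_sq_one hRexp hv (mem_map_of_mem π₂ ht.2)
    have h1K : y₁ ∈ K := hK _ (hfix y₁ hy₁) hy1p2
    have h2K : y₂ ∈ K := hK _ hy2p1 (hfix y₂ hy₂)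
    have hYK : Y ≤ K := by
      have hle : T ⊔ zpowers y₁ ≤ Y ⊓ K := sup_le (le_inf hTY hTK) (zpowers_le.2 ⟨hy₁, h1K⟩)
      have h1 := two_mul_card_le_of_not_mem hle ⟨hy₂, h2K⟩ hy₂'
      rw [hgen y₁ hy₁ hy₁T] at h1
      exact inf_eq_left.1 (Subgroup.eq_of_le_of_card_ge inf_le_left (by omega))
    exact fun y hy r hr => (mem_centralizer_iff.1 (hYK hy) _ (mem_map_of_mem π₂ hr)).symm
  -- the outer element
  have hLH : ∀ x ∈ L, h₀⁻¹ * x * h₀ ∈ L := by
    intro x hx
    obtain ⟨y, hy, r, hr, rfl⟩ := Subgroup.mem_sup_of_normal_right.1 hx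
    rw [show h₀⁻¹ * (y * r) * h₀ = (h₀⁻¹ * y * h₀) * (h₀⁻¹ * r * h₀⁻¹⁻¹) by group]
    refine mul_mem_sup ⟨mul_mem (mul_mem (H.inv_mem hh₀) hy.1) hh₀, ?_⟩ (hRn.conj_mem r hr h₀⁻¹)
    simpa using hCn.conj_mem y hy.2 h₀⁻¹
  obtain ⟨r₁, hr₁, har₁⟩ : ∃ r ∈ R, h₀ * a * h₀⁻¹ = a * r := by
    have hc : h₀ * a * h₀⁻¹ ∈ C := hCn.conj_mem a haC h₀
    rcases hcover _ hc with hc' | hc'
    · exfalso
      have := hLH _ hc'
      rw [show h₀⁻¹ * (h₀ * a * h₀⁻¹) * h₀ = a by group] at this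
      exact haL this
    · obtain ⟨y, hy, r, hr, hyr⟩ := Subgroup.mem_sup_of_normal_right.1 hc'
      have e1 : h₀ * a * h₀⁻¹ = a * (y * r) := by rw [hyr, ← mul_assoc, haa, one_mul]
      have hcent : ∀ x ∈ R, y * x = x * y := by
        intro x hx
        have h1 : (a * (y * r)) * x * (a * (y * r))⁻¹ = x⁻¹ := by
          rw [← e1, show h₀ * a * h₀⁻¹ * x * (h₀ * a * h₀⁻¹)⁻¹ = h₀ * (a * (h₀⁻¹ * x * h₀⁻¹⁻¹) * a⁻¹) * h₀⁻¹ by group,
            hcf.inv ha ha' (hRn.conj_mem x hx h₀⁻¹)]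
          group
        have h2 : y * x * y⁻¹ = x := by
          calc y * x * y⁻¹ = y * (r * x * r⁻¹) * y⁻¹ := by rw [hcf.commR hr hx, mul_inv_cancel_right]
            _ = a⁻¹ * ((a * (y * r)) * x * (a * (y * r))⁻¹) * a := by group
            _ = a * x⁻¹ * a := by rw [h1, hainv]
            _ = x := by rw [hinvR _ (inv_mem hx), inv_inv]
        rwa [mul_inv_eq_iff_eq_mul] at h2
      have hyT : y ∈ T := by
        refine hnotd y hy ?_
        have hρq : ρ y * (y * y) = 1 := by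
          have h3 : (a * (y * r)) * (a * (y * r)) = 1 := by
            rw [← e1, show h₀ * a * h₀⁻¹ * (h₀ * a * h₀⁻¹) = h₀ * (a * a) * h₀⁻¹ by group, haa]; group
          rw [← h3]
          calc ρ y * (y * y) = a * y * (a * y) := by show a * y * a * y⁻¹ * (y * y) = _; group
            _ = a * y * ((a * y) * (r⁻¹ * r)) := by group
            _ = a * y * (a * ((y * r⁻¹) * r)) := by group
            _ = a * y * (a * ((r⁻¹ * y) * r)) := by rw [hcent _ (inv_mem hr)]
            _ = a * y * ((a * r⁻¹ * a) * (a * y * r)) := by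
              rw [show a * r⁻¹ * a * (a * y * r) = a * r⁻¹ * (a * a) * (y * r) by group, haa]; group
            _ = a * y * r * (a * (y * r)) := by rw [hinvR _ (inv_mem hr), inv_inv]; group
            _ = a * (y * r) * (a * (y * r)) := by group
        rw [eq_inv_of_mul_eq_one_left hρq]
        exact inv_mem (hNR2 (hN.sq hy.1))
      exact ⟨y * r, mul_mem hyT.2 hr, e1⟩
  obtain ⟨h₁, hh₁, hh₁C, t₀, ht₀, hh'⟩ : ∃ h₁ ∈ H, h₁ ∉ C ∧ ∃ t₀ ∈ R, (t₀ * h₁) * a = a * (t₀ * h₁) := by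
    obtain ⟨w, hw, hwa⟩ := (hcf.surj ha ha').2 r₁ hr₁
    obtain ⟨v, hv, hva⟩ : ∃ v ∈ L, v * a * v⁻¹ = h₀ * a * h₀⁻¹ := by
      rcases hcover w hw with hw' | hw'
      · exact ⟨w, hw', by rw [hwa, har₁]⟩
      · refine ⟨w * a, ?_, ?_⟩
        · have hn : (L.subgroupOf C).Normal := Subgroup.normal_of_index_eq_two hLi
          have := hn.conj_mem ⟨a * w, mul_mem haC hw⟩ hw' ⟨a, haC⟩
          have h5 : a * (a * w) * a⁻¹ ∈ L := this
          rwa [hainv, ← mul_assoc, haa, one_mul] at h5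
        · rw [har₁, ← hwa]; group
    obtain ⟨y, hy, t, ht, rfl⟩ := Subgroup.mem_sup_of_normal_right.1 hv
    refine ⟨y⁻¹ * h₀, mul_mem (H.inv_mem hy.1) hh₀, fun hc => hh₀C ((mul_mem_cancel_left (C.inv_mem hy.2)).1 hc),
      t⁻¹, inv_mem ht, ?_⟩
    calc t⁻¹ * (y⁻¹ * h₀) * a = (y * t)⁻¹ * (h₀ * a * h₀⁻¹) * h₀ := by group
      _ = (y * t)⁻¹ * (y * t * a * (y * t)⁻¹) * h₀ := by rw [hva]
      _ = a * (t⁻¹ * (y⁻¹ * h₀)) := by group
  set h' : S := t₀ * h₁ with hh'def
  have hh'C : h' ∉ C := fun hc => hh₁C ((mul_mem_cancel_left (hcf.comm_le ht₀)).1 hc)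
  let sv : S → S := fun y => h' * y * h'⁻¹ * y⁻¹
  have hsv : ∀ y ∈ Y, sv y ∈ R₂ := by
    intro y hy
    rw [← hπ2one]
    show π₂ (t₀ * h₁ * y * (t₀ * h₁)⁻¹ * y⁻¹) = 1
    have hk := hπN _ (hN.comm hh₁ hy.1)
    rw [show t₀ * h₁ * y * (t₀ * h₁)⁻¹ * y⁻¹ = t₀ * (h₁ * y * h₁⁻¹ * y⁻¹) * y * t₀⁻¹ * y⁻¹ by group,
      map_mul, map_mul, map_mul, map_mul, hk, mul_one, map_inv, map_inv, ← hcentQ y hy t₀ ht₀]
    group
  -- additive translation
  letI : CommGroup R := { (inferInstance : Group R) with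
    mul_comm := fun x y => Subtype.ext (hcf.commR x.2 y.2) }
  let cmap : S → (Additive R →+ Additive R) := fun g => MonoidHom.toAdditive
    { toFun := fun r : R => (⟨g * r * g⁻¹, hRn.conj_mem r r.2 g⟩ : R)
      map_one' := Subtype.ext (by simp)
      map_mul' := fun x y => Subtype.ext (by push_cast; group) }
  have hcm : ∀ (g : S) (r : Additive R), ((cmap g r).toMul : S) = g * (r.toMul : S) * g⁻¹ := fun g r => rfl
  have hdbl : ∀ r : R, (r : S) ∈ R₂ → IsDbl (Additive.ofMul r) := by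
    rintro r ⟨x, hx⟩
    exact ⟨Additive.ofMul x, Additive.toMul.injective (Subtype.ext (by
      rw [two_nsmul]; exact hx.symm))⟩
  have hdbl' : ∀ v : Additive R, IsDbl v → ((v.toMul : R) : S) ∈ R₂ := by
    rintro v ⟨w, rfl⟩
    rw [two_nsmul]
    exact ⟨w.toMul, rfl⟩
  let P : S → Additive R := fun x => if hx : x ∈ R then Additive.ofMul ⟨x, hx⟩ else 0
  have hP : ∀ x ∈ R, ((P x).toMul : S) = x := fun x hx => by simp [P, dif_pos hx]
  have hDat : ∀ y ∈ Y, y ∉ T →
      RankDatum (cmap h') (cmap y) (P (ρ y)) (P (y * y)) (P (sv y)) := by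
    intro y hy hyT
    have hqR : y * y ∈ R := hNle (hN.sq hy.1)
    have hsR : sv y ∈ R := hR2R (hsv y hy)
    have hρ := hρR y hy
    have hcon : a * y * a = ρ y * y := by show _ = a * y * a * y⁻¹ * y; group
    have e5 : h' * y * h'⁻¹ = sv y * y := by show _ = h' * y * h'⁻¹ * y⁻¹ * y; group
    constructor
    · have := hdbl ⟨_, hqR⟩ (hNR2 (hN.sq hy.1))
      simpa [P, dif_pos hqR] using this
    · have := hdbl ⟨_, hsR⟩ (hsv y hy)
      simpa [P, dif_pos hsR] using this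
    · apply Additive.toMul.injective; apply Subtype.ext
      rw [hcm, hP _ hqR]; group
    · apply Additive.toMul.injective; apply Subtype.ext
      simp only [toMul_add, two_nsmul, toMul_zero, Subgroup.coe_mul, Subgroup.coe_one, hcm, hP _ hqR, hP _ hρ]
      have h1 : (ρ y * y) * (ρ y * y) = (y * y)⁻¹ := by
        rw [← hcon, show a * y * a * (a * y * a) = a * (y * (a * a) * y) * a by group, haa, mul_one,
          hinvR _ hqR]
      have h2 : ρ y * (y * ρ y * y⁻¹) * (y * y) = (y * y)⁻¹ := by rw [← h1]; group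
      rw [hcf.commR (hRn.conj_mem _ hρ y) hρ, ← mul_assoc, h2, inv_mul_cancel]
    · apply Additive.toMul.injective; apply Subtype.ext
      simp only [toMul_sub, two_nsmul, toMul_add, Subgroup.coe_div, Subgroup.coe_mul, hcm, hP _ hρ, hP _ hsR]
      have h1 : a * (sv y * y) * a = (h' * ρ y * h'⁻¹) * (sv y * y) := by
        calc a * (sv y * y) * a = a * (h' * y * h'⁻¹) * a := by rw [e5]
          _ = (a * h') * y * (h'⁻¹ * a) := by group
          _ = (h' * a) * y * (a * h'⁻¹) := by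
            rw [hh', show h'⁻¹ * a = a * h'⁻¹ by
              rw [inv_mul_eq_iff_eq_mul, ← mul_assoc, hh', mul_inv_cancel_right]]
          _ = h' * (a * y * a) * h'⁻¹ := by group
          _ = h' * (ρ y * y) * h'⁻¹ := by rw [hcon]
          _ = h' * ρ y * h'⁻¹ * (h' * y * h'⁻¹) := by group
          _ = (h' * ρ y * h'⁻¹) * (sv y * y) := by rw [e5]
      have h2 : a * (sv y * y) * a = ((sv y)⁻¹ * ρ y) * y := by
        rw [← hinvR _ hsR, show a * sv y * a * ρ y * y = a * sv y * a * (ρ y * y) by group, ← hcon,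
          show a * sv y * a * (a * y * a) = a * sv y * (a * a) * y * a by group, haa]; group
      rw [h1] at h2
      have h3 : h' * ρ y * h'⁻¹ = (sv y)⁻¹ * ρ y * (sv y)⁻¹ := by
        calc h' * ρ y * h'⁻¹ = (h' * ρ y * h'⁻¹) * (sv y * y) * y⁻¹ * (sv y)⁻¹ := by group
          _ = (sv y)⁻¹ * ρ y * (sv y)⁻¹ := by rw [h2]; group
      rw [h3, hcf.commR (inv_mem hsR) hρ, div_eq_mul_inv, mul_inv_rev]
      simp only [sv]
      group
    · apply Additive.toMul.injective; apply Subtype.ext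
      simp only [toMul_add, Subgroup.coe_mul, hcm, hP _ hqR, hP _ hsR]
      rw [show h' * (y * y) * h'⁻¹ = (h' * y * h'⁻¹) * (h' * y * h'⁻¹) by group, e5,
        hcf.commR hqR (mul_mem hsR (hRn.conj_mem _ hsR y))]
      group
    · intro v
      have hmem : ((cmap y v - v).toMul : S) ∈ R₂ := by
        rw [toMul_sub, Subgroup.coe_div, hcm, div_eq_mul_inv, ← hπ2one, map_mul, map_mul, map_mul, map_inv,
          map_inv, hcentQ y hy _ (v.toMul).2]
        group
      exact hdbl (cmap y v - v).toMul hmem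
    · intro hc
      have := hdbl' _ hc
      rw [hP _ hρ] at this
      exact hyT (hnotd y hy this)
  have hspanA : ∀ x : Additive R, ∃ (i k : ℤ) (v : Additive R),
      x = i • P (ρ y₁) + k • P (ρ y₂) + (2 : ℕ) • v := by
    intro x
    have hx : π₂ (x.toMul : S) ∈ R.map π₂ := mem_map_of_mem π₂ (x.toMul).2
    obtain ⟨i, k, hik⟩ : ∃ i k : ℤ, π₂ (x.toMul : S) = p₁ ^ i * p₂ ^ k := by
      rcases four_cases hRq hRexp hp1R hp2R (hρne y₁ hy₁ hy₁T) (hρne y₂ hy₂ hy₂T) hp12 hx with h | h | h | h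
      · exact ⟨0, 0, by simp [h]⟩
      · exact ⟨1, 0, by simp [h]⟩
      · exact ⟨0, 1, by simp [h]⟩
      · exact ⟨1, 1, by rw [h, comm_of_sq_one hRexp hp2R hp1R]; simp⟩
    have hmem : ((x - (i • P (ρ y₁) + k • P (ρ y₂))).toMul : S) ∈ R₂ := by
      rw [← hπ2one, toMul_sub, toMul_add, toMul_zsmul, toMul_zsmul, Subgroup.coe_div, Subgroup.coe_mul,
        SubgroupClass.coe_zpow, SubgroupClass.coe_zpow, hP _ (hρR y₁ hy₁), hP _ (hρR y₂ hy₂), map_div,
        map_mul, map_zpow, map_zpow, hik, div_self']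
    obtain ⟨v, hv⟩ := hdbl _ hmem
    refine ⟨i, k, v, ?_⟩
    rw [← hv]
    show x = i • P (ρ y₁) + k • P (ρ y₂) + (x - (i • P (ρ y₁) + k • P (ρ y₂)))
    abel
  obtain ⟨n, hn⟩ := card_pow hS R
  have hUR : U ≤ R := hΩ ▸ inf_le_left
  have D1 := hDat y₁ hy₁ hy₁T
  have D2 := hDat y₂ hy₂ hy₂T
  have heta : ∀ (y : S), RankDatum (cmap h') (cmap y) (P (ρ y)) (P (y * y)) (P (sv y)) →
      ∃ v, cmap h' (P (ρ y)) - P (ρ y) = (4 : ℕ) • v := by
    intro y D
    obtain ⟨v, hv⟩ := D.sd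
    refine ⟨-v, ?_⟩
    rw [D.etar, hv, smul_neg, ← mul_smul]
    norm_num
  have hη2 : ∀ x, IsDbl (cmap h' x - x) := by
    intro x
    obtain ⟨i, k, v, rfl⟩ := hspanA x
    obtain ⟨v1, hv1⟩ := heta y₁ D1
    obtain ⟨v2, hv2⟩ := heta y₂ D2
    refine ⟨i • ((2 : ℕ) • v1) + k • ((2 : ℕ) • v2) + (cmap h' v - v), ?_⟩
    rw [map_add, map_add, map_zsmul, map_zsmul, map_nsmul, smul_add, smul_add, smul_comm (2 : ℕ) i,
      smul_comm (2 : ℕ) k, ← mul_smul, ← mul_smul, show 2 * 2 = 4 by norm_num, ← hv1, ← hv2, smul_sub,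
      smul_sub, smul_sub]
    abel
  have hη4 : ∀ x, ∃ v, cmap h' x - x = (4 : ℕ) • v := by
    intro x
    obtain ⟨i, k, v, rfl⟩ := hspanA x
    obtain ⟨v1, hv1⟩ := heta y₁ D1
    obtain ⟨v2, hv2⟩ := heta y₂ D2
    obtain ⟨w, hw⟩ := hη2 v
    refine ⟨i • v1 + k • v2 + w, ?_⟩
    rw [map_add, map_add, map_zsmul, map_zsmul, map_nsmul, smul_add, smul_add, smul_comm (4 : ℕ) i,
      smul_comm (4 : ℕ) k, ← hv1, ← hv2, show (4 : ℕ) = 2 * 2 by norm_num, mul_smul, ← hw, smul_sub,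
      smul_sub, smul_sub]
    abel
  refine rank_two_false ⟨n, fun x => ?_⟩ (P u) (P z) ?_ ?_ ?_ ?_ (cmap h') ?_ ?_ hη4
    D1 D2 (hDat _ hy₃ hy₃T) ?_ hspanA
  · rw [← hn]; exact card_nsmul_eq_zero'
  · apply Additive.toMul.injective; apply Subtype.ext
    simp only [toMul_add, toMul_zero, Subgroup.coe_mul, Subgroup.coe_one, hP _ (hUR huU)]
    exact hU2 u huU
  · apply Additive.toMul.injective; apply Subtype.ext
    simp only [toMul_add, toMul_zero, Subgroup.coe_mul, Subgroup.coe_one, hP _ (hUR hzU)]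
    exact hzz
  · intro hc
    apply hz1
    rw [← hP _ (hUR hzU), hc]; rfl
  · intro x hx
    have hx' : (x.toMul : S) * x.toMul = 1 := by
      have := congrArg (fun v : Additive R => ((v.toMul : R) : S)) hx
      simpa using this
    have hxU : (x.toMul : S) ∈ U := hΩ ▸ (⟨(x.toMul).2, (hcf.mem_iff (x.toMul).2).1 hx'⟩ : (x.toMul : S) ∈ R ⊓ B)
    rcases four_cases hU4 hU2 hzU huU hz1 hu1 hne hxU with h | h | h | h
    · left; apply Additive.toMul.injective; apply Subtype.ext; exact h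
    · right; left; apply Additive.toMul.injective; apply Subtype.ext; rw [hP _ (hUR hzU)]; exact h
    · right; right; left; apply Additive.toMul.injective; apply Subtype.ext; rw [hP _ (hUR huU)]; exact h
    · right; right; right; apply Additive.toMul.injective; apply Subtype.ext
      rw [toMul_add, Subgroup.coe_mul, hP _ (hUR huU), hP _ (hUR hzU)]; exact h
  · apply Additive.toMul.injective; apply Subtype.ext
    rw [hcm, toMul_add, Subgroup.coe_mul, hP _ (hUR huU), hP _ (hUR hzU), hout h' hh'C]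
  · apply Additive.toMul.injective; apply Subtype.ext
    rw [hcm, hP _ (hUR hzU), mem_center_iff.1 hzc h', mul_inv_cancel_right]
  · intro x
    apply Additive.toMul.injective; apply Subtype.ext
    rw [hcm, hcm, hcm]; group

end Cfsg.Lib.SelfCentEight
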