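/-
The configuration where a central four group is moved by an involution centralising an element
with centraliser of order sixteen: first consequences.
-/
import Cfsg.Agent.TwoFusion.EightInside

set_option autoImplicit false
set_option linter.style.haveILetI false
set_option linter.unusedSectionVars false

namespace Cfsg.Lib.SelfCentEight

open Subgroup

variable {S : Type*} [Group S] [Finite S]

/-- The commutator `x y x⁻¹ y⁻¹`. -/
def br (x y : S) : S := x * y * x⁻¹ * y⁻¹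

theorem br_mul_eq (x y : S) : br x y * y = x * y * x⁻¹ := by unfold br; group

theorem br_inv_swap (x y : S) : br y x = (br x y)⁻¹ := by unfold br; group

theorem br_eq_one {x y : S} : br x y = 1 ↔ x * y = y * x := by
  unfold br; rw [mul_inv_eq_one, mul_inv_eq_iff_eq_mul]

theorem map_br {Q : Type*} [Group Q] [Finite Q] (π : S →* Q) (x y : S) : br (π x) (π y) = π (br x y) := by
  simp [br]

/-- Elements commuting with `a` modulo `K` and normalising `K`. -/
theorem exists_fixed_outside (hS : IsPGroup 2 S) {K C : Subgroup S} [C.Normal] (hKC : K ≤ C) (hne : K ≠ C)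
    {a : S} (ha : a ∈ normalizer (K : Set S)) :
    ∃ d ∈ C, d ∉ K ∧ d ∈ normalizer (K : Set S) ∧ br a d ∈ K := by
  haveI := Fact.mk Nat.prime_two
  set Ng := normalizer (K : Set S) with hNg
  haveI hKn : (K.subgroupOf Ng).Normal := Subgroup.normal_in_normalizer
  set π := QuotientGroup.mk' (K.subgroupOf Ng)
  have hQ : IsPGroup 2 (Ng ⧸ K.subgroupOf Ng) := (hS.to_subgroup Ng).to_quotient _
  haveI hCn : (C.subgroupOf Ng).Normal := Subgroup.Normal.subgroupOf inferInstance Ng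
  haveI : ((C.subgroupOf Ng).map π).Normal := hCn.map π (QuotientGroup.mk'_surjective _)
  have hstep : ∃ x ∈ C, x ∈ Ng ∧ x ∉ K := by
    -- normaliser condition inside `C`
    have hC : IsPGroup 2 C := hS.to_subgroup C
    haveI : Group.IsNilpotent C := hC.isNilpotent
    have h1 : K.subgroupOf C < ⊤ := lt_top_iff_ne_top.2 fun h => hne (le_antisymm hKC (Subgroup.subgroupOf_eq_top.1 h))
    have h2 := Group.normalizerCondition_of_isNilpotent _ h1
    obtain ⟨x, hx, hx'⟩ := SetLike.exists_of_lt h2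
    refine ⟨x, x.2, ?_, hx'⟩
    rw [hNg, Subgroup.mem_normalizer_iff]
    intro k
    constructor
    · intro hk
      have := (Subgroup.mem_normalizer_iff.1 hx ⟨k, hKC hk⟩).1 hk
      exact this
    · intro hk
      have hkC : k ∈ C := by
        have := mul_mem (mul_mem (inv_mem x.2) (hKC hk)) x.2
        rwa [show (x : S)⁻¹ * ((x : S) * k * (x : S)⁻¹) * x = k by group] at this
      exact (Subgroup.mem_normalizer_iff.1 hx ⟨k, hkC⟩).2 hk
  obtain ⟨x, hxC, hxN, hxK⟩ := hstep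
  have hne' : (C.subgroupOf Ng).map π ≠ ⊥ := by
    intro h
    rw [Subgroup.map_eq_bot_iff, QuotientGroup.ker_mk'] at h
    exact hxK (h (x := ⟨x, hxN⟩) hxC)
  obtain ⟨q, ⟨d, hd, rfl⟩, hqc, hq⟩ := Cfsg.Lib.PGroups.exists_mem_center_of_normal_ne_bot hQ hne'
  refine ⟨d, hd, ?_, d.2, ?_⟩
  · intro hdK
    rw [(QuotientGroup.eq_one_iff d).2 hdK |> fun h => (show π d = 1 from h), orderOf_one] at hq
    omega
  · have h1 : br (π ⟨a, ha⟩) (π d) = 1 := br_eq_one.2 (mem_center_iff.1 hqc _)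
    rw [map_br] at h1
    have h2 : br (⟨a, ha⟩ : Ng) d ∈ K.subgroupOf Ng := (QuotientGroup.eq_one_iff _).1 h1
    exact h2

/-- The data of the configuration. -/
structure Chain (C U : Subgroup S) (z u a b c : S) : Prop where
  isP : IsPGroup 2 S
  index : C.index = 2
  cardU : Nat.card U = 4
  sqU : ∀ v ∈ U, v * v = 1
  leU : U ≤ C
  centralU : ∀ x ∈ C, ∀ v ∈ U, x * v = v * x
  hz : z ∈ U
  hu : u ∈ U
  z1 : z ≠ 1
  u1 : u ≠ 1
  uz : u ≠ z
  zc : z ∈ center S
  haC : a ∉ C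
  aa : a * a = 1
  hau : a * u * a = u * z
  hbC : b ∈ C
  bb : b * b = 1
  hbU : b ∉ U
  hab : a * b * a = b
  hcC : c ∈ C
  hcb : c * b = b * c
  hcmove : a * c * a * c⁻¹ * b⁻¹ ∈ U
  cardK : Nat.card ↥(C ⊓ centralizer ({b} : Set S)) = 16
  commK : ∀ x ∈ C ⊓ centralizer ({b} : Set S), ∀ y ∈ C ⊓ centralizer ({b} : Set S), x * y = y * x

/-- The subgroup of elements of `C` commuting with `b` modulo `U`. -/
def modCent (C U : Subgroup S) (b : S) (hcentral : ∀ x ∈ C, ∀ v ∈ U, x * v = v * x) : Subgroup S where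
  carrier := {x | x ∈ C ∧ br x b ∈ U}
  one_mem' := ⟨one_mem _, by simp [br, one_mem]⟩
  mul_mem' := by
    rintro x y ⟨hx, hx'⟩ ⟨hy, hy'⟩
    refine ⟨mul_mem hx hy, ?_⟩
    rw [show br (x * y) b = x * br y b * x⁻¹ * br x b by unfold br; group, hcentral x hx _ hy',
      mul_inv_cancel_right]
    exact mul_mem hy' hx'
  inv_mem' := by
    rintro x ⟨hx, hx'⟩
    refine ⟨inv_mem hx, ?_⟩
    rw [show br x⁻¹ b = x⁻¹ * (br x b)⁻¹ * x by unfold br; group,
      hcentral x⁻¹ (inv_mem hx) _ (inv_mem hx'), inv_mul_cancel_right]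
    exact inv_mem hx'

namespace Chain

variable {C U : Subgroup S} {z u a b c : S} (h : Chain C U z u a b c)

include h

/-- The centraliser of `b` in `C`. -/
theorem memK {x : S} : x ∈ C ⊓ centralizer ({b} : Set S) ↔ x ∈ C ∧ x * b = b * x :=
  ⟨fun hx => ⟨hx.1, mem_centralizer_singleton_iff.1 hx.2⟩,
    fun hx => ⟨hx.1, mem_centralizer_singleton_iff.2 hx.2⟩⟩

theorem normalC : C.Normal := Subgroup.normal_of_index_eq_two h.index

theorem ainv : a⁻¹ = a := inv_eq_of_mul_eq_one_right h.aa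

theorem conjC {x : S} (hx : x ∈ C) : a * x * a ∈ C := by
  have := h.normalC.conj_mem x hx a
  rwa [h.ainv] at this

theorem aa_conj (x : S) : a * (a * x * a) * a = x := by
  rw [show a * (a * x * a) * a = (a * a) * x * (a * a) by group, h.aa, one_mul, mul_one]

theorem aconj_mul (x y : S) : a * (x * y) * a = (a * x * a) * (a * y * a) := by
  rw [show a * x * a * (a * y * a) = a * x * (a * a) * y * a by group, h.aa, mul_one]
  group

theorem aconj_inv (x : S) : a * x⁻¹ * a = (a * x * a)⁻¹ := by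
  rw [mul_inv_rev, mul_inv_rev, h.ainv]; group

theorem aconj_br (x y : S) : a * br x y * a = br (a * x * a) (a * y * a) := by
  unfold br
  rw [h.aconj_mul, h.aconj_mul, h.aconj_mul, h.aconj_inv, h.aconj_inv]

theorem az : a * z * a = z := by
  rw [mem_center_iff.1 h.zc a, mul_assoc, h.aa, mul_one]

theorem cases4 {x : S} (hx : x ∈ U) : x = 1 ∨ x = z ∨ x = u ∨ x = u * z :=
  four_cases h.cardU h.sqU h.hz h.hu h.z1 h.u1 h.uz hx

theorem zz : z * z = 1 := h.sqU z h.hz

theorem uu : u * u = 1 := h.sqU u h.hu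

theorem aU {v : S} (hv : v ∈ U) : a * v * a ∈ U := by
  rcases h.cases4 hv with rfl | rfl | rfl | rfl
  · rw [mul_one, h.aa]; exact one_mem _
  · rw [h.az]; exact h.hz
  · rw [h.hau]; exact mul_mem h.hu h.hz
  · rw [h.aconj_mul, h.hau, h.az]; exact mul_mem (mul_mem h.hu h.hz) h.hz

/-- An element of `U` is fixed by `a` precisely when it lies in `⟨z⟩`. -/
theorem fixU {v : S} (hv : v ∈ U) (hf : a * v * a = v) : v = 1 ∨ v = z := by
  rcases h.cases4 hv with rfl | rfl | rfl | rfl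
  · exact Or.inl rfl
  · exact Or.inr rfl
  · rw [h.hau] at hf
    exact absurd (mul_left_cancel (hf.trans (mul_one v).symm)) h.z1
  · rw [h.aconj_mul, h.hau, h.az] at hf
    exact absurd (mul_left_cancel (hf.trans (mul_one _).symm)) h.z1

theorem moveU {v : S} (hv : v ∈ U) (hf : a * v * a = v * z) : v = u ∨ v = u * z := by
  rcases h.cases4 hv with rfl | rfl | rfl | rfl
  · rw [mul_one, h.aa, one_mul] at hf; exact absurd hf.symm h.z1
  · rw [h.az, h.zz] at hf; exact absurd hf h.z1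
  · exact Or.inl rfl
  · exact Or.inr rfl

theorem U_le_K : U ≤ C ⊓ centralizer ({b} : Set S) := fun v hv =>
  h.memK.2 ⟨h.leU hv, (h.centralU b h.hbC v hv).symm⟩

theorem bK : b ∈ C ⊓ centralizer ({b} : Set S) := h.memK.2 ⟨h.hbC, rfl⟩

theorem cK : c ∈ C ⊓ centralizer ({b} : Set S) := h.memK.2 ⟨h.hcC, h.hcb⟩

theorem aK {x : S} (hx : x ∈ C ⊓ centralizer ({b} : Set S)) : a * x * a ∈ C ⊓ centralizer ({b} : Set S) := by
  refine h.memK.2 ⟨h.conjC hx.1, ?_⟩
  conv_lhs => rw [← h.hab]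
  conv_rhs => rw [← h.hab]
  rw [← h.aconj_mul, ← h.aconj_mul, (h.memK.1 hx).2]

theorem aNormK : a ∈ normalizer ((C ⊓ centralizer ({b} : Set S) : Subgroup S) : Set S) := by
  refine Subgroup.mem_normalizer_iff.2 fun x => ?_
  rw [h.ainv]
  exact ⟨h.aK, fun hx => by have := h.aK hx; rwa [h.aa_conj] at this⟩

theorem bU_fix {k : S} (hk : k * b ∈ U) : a * k * a * k⁻¹ ∈ U := by
  have e : a * k * a * k⁻¹ = (a * (k * b) * a) * (k * b)⁻¹ := by
    rw [h.aconj_mul, h.hab, mul_inv_rev]; group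
  rw [e]
  exact mul_mem (h.aU hk) (inv_mem hk)

theorem c_move_notU : ¬ a * c * a * c⁻¹ ∈ U := fun hc => h.hbU (by
  have := mul_mem (inv_mem h.hcmove) hc
  rwa [show (a * c * a * c⁻¹ * b⁻¹)⁻¹ * (a * c * a * c⁻¹) = b by group] at this)

theorem c_notU : c ∉ U := fun hc => h.c_move_notU (mul_mem (h.aU hc) (inv_mem hc))

theorem cb_notU : c * b ∉ U := fun hc => h.c_move_notU (h.bU_fix hc)

theorem casesK {k : S} (hk : k ∈ C ⊓ centralizer ({b} : Set S)) :
    k ∈ U ∨ k * b ∈ U ∨ k * c⁻¹ ∈ U ∨ k * (c * b)⁻¹ ∈ U := by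
  classical
  set K := C ⊓ centralizer ({b} : Set S) with hK
  by_contra hc
  simp only [not_or] at hc
  obtain ⟨h1, h2, h3, h4⟩ := hc
  haveI hn : (U.subgroupOf K).Normal :=
    ⟨fun v hv g => by
      show (g : S) * v * (g : S)⁻¹ ∈ U
      rw [h.centralU g g.2.1 v hv, mul_inv_cancel_right]
      exact hv⟩
  let q : K → K ⧸ U.subgroupOf K := fun x => (x : K ⧸ U.subgroupOf K)
  have hq : ∀ x y : K, q x = q y → (x : S)⁻¹ * y ∈ U := fun x y e =>
    (QuotientGroup.eq.1 (show (x : K ⧸ U.subgroupOf K) = y from e) : x⁻¹ * y ∈ U.subgroupOf K)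
  have hne : ∀ x y : K, (y : S) * (x : S)⁻¹ ∉ U → q x ≠ q y := fun x y hxy e => hxy (by
    have h5 := hq x y e
    rwa [h.commK _ (inv_mem x.2) _ y.2] at h5)
  let s : Finset (K ⧸ U.subgroupOf K) :=
    {q 1, q ⟨b, h.bK⟩, q ⟨c, h.cK⟩, q ⟨c * b, mul_mem h.cK h.bK⟩, q ⟨k, hk⟩}
  have hcard : s.card = 5 := by
    have binv : b⁻¹ = b := inv_eq_of_mul_eq_one_right h.bb
    simp only [s]
    rw [Finset.card_insert_of_notMem, Finset.card_insert_of_notMem, Finset.card_insert_of_notMem,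
      Finset.card_insert_of_notMem, Finset.card_singleton]
    · simp only [Finset.mem_singleton]
      exact hne _ _ h4
    · simp only [Finset.mem_insert, Finset.mem_singleton, not_or]
      refine ⟨hne _ _ ?_, hne _ _ h3⟩
      show c * b * c⁻¹ ∉ U
      rw [h.hcb, mul_inv_cancel_right]; exact h.hbU
    · simp only [Finset.mem_insert, Finset.mem_singleton, not_or]
      refine ⟨hne _ _ ?_, hne _ _ ?_, hne _ _ ?_⟩
      · show c * b⁻¹ ∉ U; rw [binv]; exact h.cb_notU
      · show c * b * b⁻¹ ∉ U; rw [mul_inv_cancel_right]; exact h.c_notU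
      · show k * b⁻¹ ∉ U; rw [binv]; exact h2
    · simp only [Finset.mem_insert, Finset.mem_singleton, not_or]
      refine ⟨hne _ _ ?_, hne _ _ ?_, hne _ _ ?_, hne _ _ ?_⟩
      · show b * 1⁻¹ ∉ U; simpa using h.hbU
      · show c * 1⁻¹ ∉ U; simpa using h.c_notU
      · show c * b * 1⁻¹ ∉ U; simpa using h.cb_notU
      · show k * 1⁻¹ ∉ U; simpa using h1
  haveI := Fintype.ofFinite (K ⧸ U.subgroupOf K)
  have h5 := Finset.card_le_univ s
  have h6 := Subgroup.card_eq_card_quotient_mul_card_subgroup (U.subgroupOf K)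
  rw [Nat.card_congr (Subgroup.subgroupOfEquivOfLe h.U_le_K).toEquiv, h.cardU, Nat.card_eq_fintype_card (α := K ⧸ _)] at h6
  have h7 : Nat.card K = 16 := h.cardK
  omega

/-- The elements of `K` fixed by `a` modulo `U` lie in `U ∪ b U`. -/
theorem fixK {k : S} (hk : k ∈ C ⊓ centralizer ({b} : Set S)) (hf : a * k * a * k⁻¹ ∈ U) :
    k ∈ U ∨ k * b ∈ U := by
  rcases h.casesK hk with h1 | h1 | h1 | h1
  · exact Or.inl h1
  · exact Or.inr h1
  · exfalso
    refine h.c_move_notU ?_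
    have hv : a * (k * c⁻¹) * a * (k * c⁻¹)⁻¹ ∈ U := mul_mem (h.aU h1) (inv_mem h1)
    have e : a * c * a * c⁻¹ = (a * (k * c⁻¹) * a * (k * c⁻¹)⁻¹)⁻¹ * (a * k * a * k⁻¹) := by
      have hac := h.aK h.cK
      have hak := h.aK hk
      rw [h.aconj_mul, h.aconj_inv]
      rw [show (a * k * a * (a * c * a)⁻¹ * (k * c⁻¹)⁻¹)⁻¹ * (a * k * a * k⁻¹)
        = k * (c⁻¹ * ((a * c * a) * k⁻¹)) by group, h.commK _ hac _ (inv_mem hk),
        show k * (c⁻¹ * (k⁻¹ * (a * c * a))) = k * (c⁻¹ * k⁻¹) * (a * c * a) by group,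
        h.commK _ (inv_mem h.cK) _ (inv_mem hk), mul_inv_cancel_left, h.commK _ (inv_mem h.cK) _ hac]
    rw [e]
    exact mul_mem (inv_mem hv) hf
  · exfalso
    refine h.c_move_notU ?_
    set v := k * (c * b)⁻¹ with hv
    have e0 : k = v * (c * b) := by rw [hv, inv_mul_cancel_right]
    have hvC := h.U_le_K h1
    clear_value v
    rw [e0, h.aconj_mul, h.aconj_mul, h.hab] at hf
    have e : a * c * a * c⁻¹ = (a * v * a)⁻¹ * ((a * v * a * ((a * c * a) * b)) * (v * (c * b))⁻¹) * v := by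
      rw [mul_inv_rev, mul_inv_rev]
      group
    rw [e]
    exact mul_mem (mul_mem (inv_mem (h.aU h1)) hf) h1

/-- The elements of `K` fixed by `a`. -/
theorem fixK' {k : S} (hk : k ∈ C ⊓ centralizer ({b} : Set S)) (hf : a * k * a = k) :
    (k = 1 ∨ k = z) ∨ (k = b ∨ k = z * b) := by
  rcases h.fixK hk (by rw [hf, mul_inv_cancel]; exact one_mem _) with h1 | h1
  · exact Or.inl (h.fixU h1 hf)
  · right
    have h2 : a * (k * b) * a = k * b := by rw [h.aconj_mul, hf, h.hab]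
    have e : k = k * b * b := by rw [mul_assoc, h.bb, mul_one]
    rcases h.fixU h1 h2 with h3 | h3
    · left; rw [e, h3, one_mul]
    · right; rw [e, h3]

/-- The map `x ↦ [x, b]` on the modular centraliser. -/
theorem br_mem_of {x : S} (hx : x ∈ modCent C U b h.centralU) : br x b ∈ U := hx.2

theorem br_mul {x y : S} (hx : x ∈ C) (hy : br y b ∈ U) : br (x * y) b = br y b * br x b := by
  rw [show br (x * y) b = x * br y b * x⁻¹ * br x b by unfold br; group, h.centralU x hx _ hy,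
    mul_inv_cancel_right]

theorem mem_K_iff_br {x : S} (hx : x ∈ C) : x ∈ C ⊓ centralizer ({b} : Set S) ↔ br x b = 1 := by
  rw [h.memK, br_eq_one]
  exact ⟨fun h1 => h1.2, fun h1 => ⟨hx, h1⟩⟩

theorem K_le_X : C ⊓ centralizer ({b} : Set S) ≤ modCent C U b h.centralU := fun x hx =>
  ⟨hx.1, by rw [(h.mem_K_iff_br hx.1).1 hx]; exact one_mem _⟩

theorem aX {x : S} (hx : x ∈ modCent C U b h.centralU) : a * x * a ∈ modCent C U b h.centralU := by
  refine ⟨h.conjC hx.1, ?_⟩
  have := h.aU hx.2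
  rwa [h.aconj_br, h.hab] at this

/-- `[x, b]` determines `x` modulo `K`. -/
theorem eq_br {x y : S} (hx : x ∈ modCent C U b h.centralU) (hy : y ∈ modCent C U b h.centralU)
    (he : br x b = br y b) : y⁻¹ * x ∈ C ⊓ centralizer ({b} : Set S) := by
  rw [h.mem_K_iff_br (mul_mem (inv_mem hy.1) hx.1), h.br_mul (inv_mem hy.1) hx.2, he,
    ← h.br_mul (inv_mem hy.1) hy.2, inv_mul_cancel]
  simp [br]

/-- An element of the modular centraliser normalises `K`. -/
theorem X_norm {x k : S} (hx : x ∈ modCent C U b h.centralU) (hk : k ∈ C ⊓ centralizer ({b} : Set S)) :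
    x * k * x⁻¹ ∈ C ⊓ centralizer ({b} : Set S) := by
  refine h.memK.2 ⟨mul_mem (mul_mem hx.1 hk.1) (inv_mem hx.1), ?_⟩
  have hkC := (h.memK.1 hk).2
  have hv : br x⁻¹ b ∈ U := (inv_mem hx).2
  have e : x⁻¹ * b * x = br x⁻¹ b * b := by unfold br; group
  calc x * k * x⁻¹ * b = x * (k * (x⁻¹ * b * x)) * x⁻¹ := by group
    _ = x * (k * (br x⁻¹ b * b)) * x⁻¹ := by rw [e]
    _ = x * ((br x⁻¹ b * b) * k) * x⁻¹ := by
        congr 2
        rw [← mul_assoc, h.centralU k hk.1 _ hv, mul_assoc, hkC, mul_assoc]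
    _ = x * ((x⁻¹ * b * x) * k) * x⁻¹ := by rw [e]
    _ = b * (x * k * x⁻¹) := by group

end Chain

end Cfsg.Lib.SelfCentEight
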