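/-
The first element outside the centraliser of `b`, and the modular centraliser.
-/
import Cfsg.Agent.TwoFusion.EightChainBasic

set_option autoImplicit false
set_option linter.style.haveILetI false
set_option linter.unusedSectionVars false

namespace Cfsg.Lib.SelfCentEight

open Subgroup

variable {S : Type*} [Group S] [Finite S]

/-- A chain configuration together with a first outer element `d`. -/
structure ChainD (C U : Subgroup S) (z u a b c d : S) : Prop where
  chain : Chain C U z u a b c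
  hdC : d ∈ C
  hdb : br d b = z
  hdc : br d c = u
  hda : a * d * a * d⁻¹ ∈ U
  hcc : c * c = 1 ∨ c * c = z

theorem Chain.exists_chainD {C U : Subgroup S} {z u a b c : S} (h : Chain C U z u a b c)
    (hne : C ⊓ centralizer ({b} : Set S) ≠ C) : ∃ c' d, ChainD C U z u a b c' d := by
  classical
  haveI := h.normalC
  set K := C ⊓ centralizer ({b} : Set S) with hK
  obtain ⟨d, hdC, hdK, hdN, hda⟩ := exists_fixed_outside h.isP (inf_le_left : K ≤ C) hne h.aNormK
  have hk1 : a * d * a * d⁻¹ ∈ K := by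
    have : br a d ∈ K := hda
    unfold br at this
    rwa [h.ainv] at this
  set k₁ := a * d * a * d⁻¹ with hk1def
  have hb' : d * b * d⁻¹ ∈ K := (Subgroup.mem_normalizer_iff.1 hdN b).1 h.bK
  have hc' : d * c * d⁻¹ ∈ K := (Subgroup.mem_normalizer_iff.1 hdN c).1 h.cK
  have hada : a * d * a = k₁ * d := by rw [hk1def]; group
  have hconj : ∀ y : S, y ∈ K → d * y * d⁻¹ ∈ K → (a * (d * y * d⁻¹) * a) = d * (a * y * a) * d⁻¹ := by
    intro y hy hy'
    rw [h.aconj_mul, h.aconj_mul, h.aconj_inv, hada]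
    have h1 : d * (a * y * a) * d⁻¹ ∈ K := (Subgroup.mem_normalizer_iff.1 hdN _).1 (h.aK hy)
    calc k₁ * d * (a * y * a) * (k₁ * d)⁻¹ = k₁ * (d * (a * y * a) * d⁻¹) * k₁⁻¹ := by group
      _ = d * (a * y * a) * d⁻¹ := by rw [h.commK _ hk1 _ h1, mul_inv_cancel_right]
  -- the action of `d` on `b`
  have hdb : d * b * d⁻¹ = z * b := by
    rcases h.fixK' hb' (by rw [hconj b h.bK hb', h.hab]) with (h1 | h1) | (h1 | h1)
    · rw [conj_eq_one_iff] at h1
      exact absurd (h1 ▸ one_mem U) h.hbU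
    · exfalso
      rw [mul_inv_eq_iff_eq_mul, ← mem_center_iff.1 h.zc d] at h1
      exact h.hbU (mul_left_cancel h1 ▸ h.hz)
    · exfalso
      rw [mul_inv_eq_iff_eq_mul] at h1
      exact hdK (h.memK.2 ⟨hdC, h1⟩)
    · exact h1
  have hdbr : br d b = z := by
    show d * b * d⁻¹ * b⁻¹ = z
    rw [hdb, mul_inv_cancel_right]
  -- the action of `d` on `c`
  set e := br d c with he
  have heK : e ∈ K := by
    show d * c * d⁻¹ * c⁻¹ ∈ K
    exact mul_mem hc' (inv_mem h.cK)
  obtain ⟨w, hw, hac⟩ : ∃ w ∈ U, a * c * a = w * (b * c) :=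
    ⟨_, h.hcmove, by group⟩
  have hwd : d * w * d⁻¹ = w := by rw [h.centralU d hdC w hw, mul_inv_cancel_right]
  have hez : a * e * a = e * z := by
    have e1 : a * (d * c * d⁻¹) * a = d * (a * c * a) * d⁻¹ := hconj c h.cK hc'
    have e2 : d * c * d⁻¹ = e * c := (br_mul_eq d c).symm
    rw [hac, show d * (w * (b * c)) * d⁻¹ = (d * w * d⁻¹) * ((d * b * d⁻¹) * (d * c * d⁻¹)) by group, hwd, hdb, e2,
      h.aconj_mul, hac] at e1
    have hwK := h.U_le_K hw
    have hzK := h.U_le_K h.hz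
    calc a * e * a = (a * e * a) * (w * (b * c)) * (w * (b * c))⁻¹ := by group
      _ = w * (z * b * (e * c)) * (w * (b * c))⁻¹ := by rw [e1]
      _ = (w * (z * ((b * e) * b⁻¹))) * w⁻¹ := by
          have : c * c⁻¹ = 1 := mul_inv_cancel c
          group
      _ = w * (z * e) * w⁻¹ := by rw [h.commK _ h.bK _ heK, mul_inv_cancel_right]
      _ = e * z := by
          rw [h.commK _ hwK _ (mul_mem hzK heK), mul_inv_cancel_right, h.commK _ hzK _ heK]
  have hd2 : d * d ∈ K := by
    refine h.memK.2 ⟨mul_mem hdC hdC, ?_⟩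
    have h1 : d * d * b * (d * d)⁻¹ = b := by
      rw [show d * d * b * (d * d)⁻¹ = d * (d * b * d⁻¹) * d⁻¹ by group, hdb,
        show d * (z * b) * d⁻¹ = (d * z * d⁻¹) * (d * b * d⁻¹) by group, mem_center_iff.1 h.zc d,
        mul_inv_cancel_right, hdb, ← mul_assoc, h.zz, one_mul]
    rwa [mul_inv_eq_iff_eq_mul] at h1
  have hee : e * (d * e * d⁻¹) = 1 := by
    have h1 : (d * d) * c * (d * d)⁻¹ = c := by rw [h.commK _ hd2 _ h.cK, mul_inv_cancel_right]
    have h2 : d * e * d⁻¹ * e * c = c := by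
      rw [show d * e * d⁻¹ * e * c = d * e * c * d⁻¹ by rw [he]; unfold br; group,
        show d * e * c * d⁻¹ = (d * d) * c * (d * d)⁻¹ by rw [he]; unfold br; group, h1]
    rw [h.commK _ heK _ ((Subgroup.mem_normalizer_iff.1 hdN _).1 heK)]
    exact mul_right_cancel (h2.trans (one_mul c).symm)
  have heU : e = u ∨ e = u * z := by
    have hzK := h.U_le_K h.hz
    rcases h.fixK heK (by
      rw [hez, h.commK _ heK _ hzK, mul_inv_cancel_right]; exact h.hz) with h1 | h1
    · exact h.moveU h1 hez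
    · exfalso
      have hv' : a * (e * b) * a = (e * b) * z := by
        rw [h.aconj_mul, hez, h.hab, mul_assoc, mul_assoc, mem_center_iff.1 h.zc b]
      have hvd : d * (e * b) * d⁻¹ = e * b := by rw [h.centralU d hdC _ h1, mul_inv_cancel_right]
      have h4 : d * e * d⁻¹ = e * z := by
        rw [show d * (e * b) * d⁻¹ = (d * e * d⁻¹) * (d * b * d⁻¹) by group, hdb] at hvd
        calc d * e * d⁻¹ = (d * e * d⁻¹) * (z * b) * (z * b)⁻¹ := by group
          _ = e * b * (z * b)⁻¹ := by rw [hvd]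
          _ = e * z⁻¹ := by group
          _ = e * z := by rw [inv_eq_of_mul_eq_one_right h.zz]
      rw [h4, ← mul_assoc] at hee
      have h5 : e * e = 1 := by
        have h6 : (e * b) * (e * b) = 1 := h.sqU _ h1
        rw [show e * b * (e * b) = e * (b * e) * b by group, h.commK _ h.bK _ heK,
          show e * (e * b) * b = e * e * (b * b) by group, h.bb, mul_one] at h6
        exact h6
      rw [h5, one_mul] at hee
      exact h.z1 hee
  obtain ⟨c', hc'h, hdc⟩ : ∃ c', Chain C U z u a b c' ∧ br d c' = u := by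
    rcases heU with h1 | h1
    · exact ⟨c, h, h1⟩
    · refine ⟨c * b, { h with hcC := mul_mem h.hcC h.hbC, hcb := ?_, hcmove := ?_ }, ?_⟩
      · rw [h.hcb, mul_assoc, h.hcb]
      · rw [h.aconj_mul, h.hab, show a * c * a * b * (c * b)⁻¹ * b⁻¹ = a * c * a * c⁻¹ * b⁻¹ by group]
        exact h.hcmove
      · show d * (c * b) * d⁻¹ * (c * b)⁻¹ = u
        rw [show d * (c * b) * d⁻¹ * (c * b)⁻¹ = br d c * (c * br d b * c⁻¹) by unfold br; group,
          hdbr, mem_center_iff.1 h.zc c, mul_inv_cancel_right, ← he, h1, mul_assoc, h.zz, mul_one]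
  clear hc' hee hez heK heU
  obtain ⟨w', hw', hac'⟩ : ∃ w ∈ U, a * c' * a = w * (b * c') := ⟨_, hc'h.hcmove, by group⟩
  -- `c²` lies in `⟨z⟩`
  have hcc : c' * c' = 1 ∨ c' * c' = z := by
    have hf : a * (c' * c') * a = c' * c' := by
      have hwK := h.U_le_K hw'
      rw [h.aconj_mul, hac', show w' * (b * c') * (w' * (b * c')) = w' * ((b * c') * w') * (b * c') by group,
        h.commK _ (mul_mem h.bK hc'h.cK) _ hwK, ← mul_assoc, ← mul_assoc, h.sqU _ hw', one_mul,
        show b * c' * b * c' = b * (c' * b) * c' by group, hc'h.hcb, ← mul_assoc, h.bb, one_mul]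
    rcases hc'h.fixK' (mul_mem hc'h.cK hc'h.cK) hf with h1 | h1
    · exact h1
    · exfalso
      have hzz : d * (c' * c') * d⁻¹ = c' * c' := by
        rw [show d * (c' * c') * d⁻¹ = (d * c' * d⁻¹) * (d * c' * d⁻¹) by group, ← br_mul_eq, hdc,
          show u * c' * (u * c') = u * (c' * u) * c' by group, h.centralU c' hc'h.hcC u h.hu,
          ← mul_assoc, h.uu, one_mul]
      rcases h1 with h1 | h1
      · rw [h1, hdb] at hzz
        exact h.z1 (mul_right_cancel (hzz.trans (one_mul b).symm))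
      · rw [h1, show d * (z * b) * d⁻¹ = (d * z * d⁻¹) * (d * b * d⁻¹) by group, mem_center_iff.1 h.zc d,
          mul_inv_cancel_right, hdb, ← mul_assoc, h.zz, one_mul] at hzz
        exact h.z1 (mul_right_cancel (hzz.symm.trans (one_mul b).symm))
  -- adjust `d`
  have hinv : a * k₁ * a = k₁⁻¹ := by
    have h1 : a * (k₁ * d) * a = d := by rw [← hada, h.aa_conj]
    rw [h.aconj_mul, hada] at h1
    exact eq_inv_of_mul_eq_one_left (mul_right_cancel ((mul_assoc _ _ _).trans (h1.trans (one_mul d).symm)))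
  have hkD : k₁ ∈ U ∨ k₁ * b ∈ U := by
    refine hc'h.fixK hk1 ?_
    rw [hinv]
    have hsq : k₁ * k₁ ∈ U := by
      have hccU : c' * c' ∈ U := by rcases hcc with h3 | h3 <;> rw [h3]; exacts [one_mem _, h.hz]
      have key : ∀ v x : S, v ∈ U → x ∈ K → x * x ∈ U → (v * x) * (v * x) ∈ U := by
        intro v x hv hx hx2
        rw [show v * x * (v * x) = v * (x * v) * x by group, h.centralU x hx.1 v hv, ← mul_assoc, h.sqU v hv,
          one_mul]
        exact hx2
      rcases hc'h.casesK hk1 with h2 | h2 | h2 | h2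
      · rw [h.sqU _ h2]; exact one_mem _
      · rw [show k₁ = k₁ * b * b by rw [mul_assoc, h.bb, mul_one]]
        exact key _ b h2 h.bK (by rw [h.bb]; exact one_mem _)
      · rw [show k₁ = k₁ * c'⁻¹ * c' by group]
        exact key _ c' h2 hc'h.cK hccU
      · rw [show k₁ = k₁ * (c' * b)⁻¹ * (c' * b) by group]
        refine key _ _ h2 (mul_mem hc'h.cK h.bK) ?_
        rw [show c' * b * (c' * b) = c' * (b * c') * b by group, ← hc'h.hcb,
          show c' * (c' * b) * b = c' * c' * (b * b) by group, h.bb, mul_one]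
        exact hccU
    rw [← mul_inv_rev]
    exact inv_mem hsq
  rcases hkD with h1 | h1
  · exact ⟨c', d, hc'h, hdC, hdbr, hdc, h1, hcc⟩
  · refine ⟨c', d * c', hc'h, mul_mem hdC hc'h.hcC, ?_, ?_, ?_, hcc⟩
    · rw [h.br_mul hdC (by rw [(h.mem_K_iff_br hc'h.hcC).1 hc'h.cK]; exact one_mem _),
        (h.mem_K_iff_br hc'h.hcC).1 hc'h.cK, one_mul, hdbr]
    · show d * c' * c' * (d * c')⁻¹ * c'⁻¹ = u
      rw [show d * c' * c' * (d * c')⁻¹ * c'⁻¹ = br d c' by unfold br; group]
      exact hdc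
    · rw [h.aconj_mul, hada, hac',
        show k₁ * d * (w' * (b * c')) * (d * c')⁻¹ = k₁ * ((d * w' * d⁻¹) * (d * b * d⁻¹)) by group,
        h.centralU d hdC w' hw', mul_inv_cancel_right, hdb, ← h.commK _ (mul_mem (h.U_le_K h.hz) h.bK) _ (h.U_le_K hw'),
        show k₁ * (z * b * w') = k₁ * (z * b) * w' by group, ← mem_center_iff.1 h.zc b,
        show k₁ * (b * z) * w' = k₁ * b * z * w' by group]
      exact mul_mem (mul_mem h1 h.hz) hw'

namespace ChainD

variable {C U : Subgroup S} {z u a b c d : S} (h : ChainD C U z u a b c d)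

include h

theorem ccU : c * c ∈ U := by
  rcases h.hcc with h1 | h1 <;> rw [h1]
  exacts [one_mem _, h.chain.hz]

theorem dX : d ∈ modCent C U b h.chain.centralU := ⟨h.hdC, by rw [h.hdb]; exact h.chain.hz⟩

theorem d_notK : d ∉ C ⊓ centralizer ({b} : Set S) := fun hc => h.chain.z1 (by
  rw [← h.hdb]; exact (h.chain.mem_K_iff_br h.hdC).1 hc)

/-- The elements of `K` commuting with `d` lie in `U`. -/
theorem cent_d {k : S} (hk : k ∈ C ⊓ centralizer ({b} : Set S)) (hc : d * k = k * d) : k ∈ U := by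
  have hc' := h.chain
  rcases hc'.casesK hk with h1 | h1 | h1 | h1
  · exact h1
  · exfalso
    have h2 : d * (k * b) = (k * b) * d := hc'.centralU d h.hdC _ h1
    rw [← mul_assoc, hc, mul_assoc, mul_assoc] at h2
    exact hc'.z1 (h.hdb ▸ br_eq_one.2 (mul_left_cancel h2))
  · exfalso
    have h2 := hc'.centralU d h.hdC _ h1
    rw [← mul_assoc, hc, mul_assoc, mul_assoc] at h2
    have h3 : d * c⁻¹ = c⁻¹ * d := mul_left_cancel h2
    refine hc'.u1 (h.hdc ▸ br_eq_one.2 ?_)
    calc d * c = c * (c⁻¹ * d) * c := by group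
      _ = c * (d * c⁻¹) * c := by rw [h3]
      _ = c * d := by group
  · exfalso
    have h2 := hc'.centralU d h.hdC _ h1
    rw [← mul_assoc, hc, mul_assoc, mul_assoc] at h2
    have h3 : d * (c * b)⁻¹ = (c * b)⁻¹ * d := mul_left_cancel h2
    have h4 : br d (c * b) = 1 := br_eq_one.2 (by
      calc d * (c * b) = (c * b) * ((c * b)⁻¹ * d) * (c * b) := by group
        _ = (c * b) * (d * (c * b)⁻¹) * (c * b) := by rw [h3]
        _ = (c * b) * d := by group)
    rw [show br d (c * b) = br d c * (c * br d b * c⁻¹) by unfold br; group, h.hdc, h.hdb,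
      mem_center_iff.1 hc'.zc c, mul_inv_cancel_right] at h4
    exact hc'.uz (mul_right_cancel (h4.trans hc'.zz.symm))

theorem dd : d * d ∈ U := by
  have hc' := h.chain
  refine h.cent_d ((hc'.mem_K_iff_br (mul_mem h.hdC h.hdC)).2 ?_) (mul_assoc d d d).symm
  rw [hc'.br_mul h.hdC h.dX.2, h.hdb, hc'.zz]

/-- The modular centraliser centralises `K` modulo `U`. -/
theorem XK {x k : S} (hx : x ∈ modCent C U b h.chain.centralU)
    (hk : k ∈ C ⊓ centralizer ({b} : Set S)) : br x k ∈ U := by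
  have hc' := h.chain
  -- first the element `c`
  have hxc : br x c ∈ U := by
    set e := br x c with he
    have heK : e ∈ C ⊓ centralizer ({b} : Set S) := mul_mem (hc'.X_norm hx hc'.cK) (inv_mem hc'.cK)
    have hcom : br d x ∈ C ⊓ centralizer ({b} : Set S) := by
      have hdx : x⁻¹ * d⁻¹ * x * d ∈ modCent C U b hc'.centralU :=
        mul_mem (mul_mem (mul_mem (inv_mem hx) (inv_mem h.dX)) hx) h.dX
      have h1 : br (d * x) b = br (x * d) b := by
        rw [hc'.br_mul h.hdC hx.2, hc'.br_mul hx.1 h.dX.2]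
        exact (hc'.centralU _ (hc'.leU hx.2) _ h.dX.2).symm ▸ rfl
      have h2 := hc'.eq_br (mul_mem h.dX hx) (mul_mem hx h.dX) h1
      have h3 := hc'.X_norm (mul_mem hx h.dX) h2
      rwa [show x * d * ((x * d)⁻¹ * (d * x)) * (x * d)⁻¹ = br d x by unfold br; group] at h3
    refine h.cent_d heK ?_
    have h2 : br d x * (x * (d * c * d⁻¹) * x⁻¹) * (br d x)⁻¹ = d * (x * c * x⁻¹) * d⁻¹ := by
      unfold br; group
    have hmem : x * (d * c * d⁻¹) * x⁻¹ ∈ C ⊓ centralizer ({b} : Set S) :=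
      hc'.X_norm hx (hc'.X_norm h.dX hc'.cK)
    rw [hc'.commK _ hcom _ hmem, mul_inv_cancel_right, ← br_mul_eq d c, h.hdc, ← br_mul_eq x c, ← he,
      show x * (u * c) * x⁻¹ = (x * u * x⁻¹) * (x * c * x⁻¹) by group, hc'.centralU x hx.1 u hc'.hu,
      mul_inv_cancel_right, ← br_mul_eq x c, ← he, show d * (e * c) * d⁻¹ = (d * e * d⁻¹) * (d * c * d⁻¹) by group,
      ← br_mul_eq d c, h.hdc, ← mul_assoc, ← mul_assoc, hc'.commK _ (hc'.U_le_K hc'.hu) _ heK] at h2
    have h3 : e = d * e * d⁻¹ := mul_right_cancel (mul_right_cancel h2)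
    conv_rhs => rw [h3]
    group
  have hxb : br x b ∈ U := hx.2
  have key : ∀ k₁ k₂, k₁ ∈ C → br x k₁ ∈ U → br x k₂ ∈ U → br x (k₁ * k₂) ∈ U := fun k₁ k₂ hk₁ h1 h2 => by
    rw [show br x (k₁ * k₂) = br x k₁ * (k₁ * br x k₂ * k₁⁻¹) by unfold br; group,
      hc'.centralU k₁ hk₁ _ h2, mul_inv_cancel_right]
    exact mul_mem h1 h2
  have hU : ∀ v ∈ U, br x v ∈ U := fun v hv => by
    rw [br_eq_one.2 (hc'.centralU x hx.1 v hv)]; exact one_mem _
  rcases hc'.casesK hk with h1 | h1 | h1 | h1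
  · exact hU k h1
  · rw [show k = k * b * b by rw [mul_assoc, hc'.bb, mul_one]]
    exact key _ _ (hc'.leU h1) (hU _ h1) hxb
  · rw [show k = k * c⁻¹ * c by group]
    exact key _ _ (hc'.leU h1) (hU _ h1) hxc
  · rw [show k = k * (c * b)⁻¹ * (c * b) by group]
    exact key _ _ (hc'.leU h1) (hU _ h1) (key _ _ hc'.hcC hxc hxb)

/-- `X` maps into `U` with kernel `K`. -/
theorem cases_z {x : S} (hx : x ∈ modCent C U b h.chain.centralU) (h1 : br x b = z) :
    d⁻¹ * x ∈ C ⊓ centralizer ({b} : Set S) :=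
  h.chain.eq_br hx h.dX (by rw [h1, h.hdb])

end ChainD

end Cfsg.Lib.SelfCentEight
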