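/-
The bound for a chain configuration in which every element centralises `b` modulo `U`.
-/
import Cfsg.Agent.TwoFusion.EightChainFirst

set_option autoImplicit false
set_option linter.style.haveILetI false
set_option linter.unusedSectionVars false

namespace Cfsg.Lib.SelfCentEight

open Subgroup

variable {S : Type*} [Group S] [Finite S]

/-- The three bounds carried through the induction. -/
def ChainBound (U : Subgroup S) : Prop :=
  ∀ H N : Subgroup S, SqIn H N →
    (H ⊓ U = ⊥ → Nat.card H ≤ 4 * Nat.card N) ∧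
    (¬ U ≤ H → Nat.card H ≤ 8 * Nat.card N) ∧
    Nat.card H ≤ 16 * Nat.card N

namespace Chain

variable {C U : Subgroup S} {z u a b c : S} (h : Chain C U z u a b c)

include h

theorem mem_or (s : S) : s ∈ C ∨ s * a ∈ C := by
  by_cases hs : s ∈ C
  · exact Or.inl hs
  · exact Or.inr ((Subgroup.mul_mem_iff_of_index_two h.index).2 (iff_of_false hs h.haC))

theorem normalU : U.Normal := ⟨fun v hv s => by
  rcases h.mem_or s with hs | hs
  · rw [h.centralU s hs v hv, mul_inv_cancel_right]; exact hv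
  · have e : s * v * s⁻¹ = (s * a) * (a * v * a) * (s * a)⁻¹ := by
      rw [show (s * a) * (a * v * a) * (s * a)⁻¹ = s * (a * a) * v * (a * a⁻¹) * s⁻¹ by group, h.aa,
        mul_inv_cancel]
      group
    rw [e, h.centralU _ hs _ (h.aU hv), mul_inv_cancel_right]
    exact h.aU hv⟩

/-- `x ↦ [x, b]` as a homomorphism. -/
def brHom : modCent C U b h.centralU →* S where
  toFun x := br (x : S) b
  map_one' := by simp [br]
  map_mul' x y := by
    show br ((x : S) * y) b = br (x : S) b * br (y : S) b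
    rw [h.br_mul x.2.1 y.2.2, h.centralU _ (h.leU y.2.2) _ x.2.2]

theorem card_split {Y : Subgroup S} (hY : Y ≤ modCent C U b h.centralU) :
    ∃ R : Subgroup S, R ≤ U ∧ (∀ w ∈ R, ∃ y ∈ Y, br y b = w) ∧ (∀ y ∈ Y, br y b ∈ R) ∧
      Nat.card ↥(Y ⊓ (C ⊓ centralizer ({b} : Set S))) * Nat.card R = Nat.card Y := by
  let f : Y →* S := h.brHom.comp (Subgroup.inclusion hY)
  refine ⟨f.range, ?_, ?_, fun y hy => ⟨⟨y, hy⟩, rfl⟩, ?_⟩
  · rintro _ ⟨y, rfl⟩; exact (hY y.2).2
  · rintro _ ⟨y, rfl⟩; exact ⟨y, y.2, rfl⟩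
  · have h1 : f.ker = (Y ⊓ (C ⊓ centralizer ({b} : Set S))).subgroupOf Y := by
      ext y
      rw [MonoidHom.mem_ker, Subgroup.mem_subgroupOf]
      exact ⟨fun e => ⟨y.2, (h.mem_K_iff_br (hY y.2).1).2 e⟩,
        fun e => (h.mem_K_iff_br (hY y.2).1).1 e.2⟩
    rw [← Nat.card_congr (Subgroup.subgroupOfEquivOfLe
      (inf_le_left : Y ⊓ (C ⊓ centralizer ({b} : Set S)) ≤ Y)).toEquiv, ← h1, ← Subgroup.index_ker]
    exact Subgroup.card_mul_index _

theorem card_X_le : Nat.card (modCent C U b h.centralU) ≤ 64 := by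
  obtain ⟨R, hR, -, -, hc⟩ := h.card_split le_rfl
  rw [inf_eq_right.2 h.K_le_X, h.cardK] at hc
  have := card_le_of_le hR
  rw [h.cardU] at this
  omega

/-- Commutators only depend on the classes modulo `U`. -/
theorem br_congr {y y' v v' : S} (hy : y ∈ C) (hy' : y' ∈ C) (hv : v ∈ U) (hv' : v' ∈ U) :
    br (v * y) (v' * y') = br y y' := by
  have c1 := h.centralU _ (mul_mem (mul_mem hy (h.leU hv')) hy') v hv
  unfold br
  have e1 : v * y * (v' * y') * (v * y)⁻¹ = y * (v' * y') * y⁻¹ := by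
    calc v * y * (v' * y') * (v * y)⁻¹ = v * (y * (v' * y') * y⁻¹) * v⁻¹ := by group
      _ = (y * (v' * y') * y⁻¹) * v * v⁻¹ := by
          rw [h.centralU _ (mul_mem (mul_mem hy (mul_mem (h.leU hv') hy')) (inv_mem hy)) v hv]
      _ = y * (v' * y') * y⁻¹ := mul_inv_cancel_right _ _
  rw [e1, show y * (v' * y') * y⁻¹ = (y * v' * y⁻¹) * (y * y' * y⁻¹) by group, h.centralU y hy v' hv',
    mul_inv_cancel_right, mul_inv_rev, ← mul_assoc,
    show v' * (y * y' * y⁻¹) * y'⁻¹ = v' * (y * y' * y⁻¹ * y'⁻¹) by group,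
    ← h.centralU _ (mul_mem (mul_mem (mul_mem hy hy') (inv_mem hy)) (inv_mem hy')) v' hv', mul_inv_cancel_right]

theorem exists_lift {Y : Subgroup S} {p q : S} (hY : Y ≤ C)
    (hp : p ∈ Y ⊔ U) (hq : q ∈ Y ⊔ U) : ∃ y ∈ Y, ∃ y' ∈ Y, br y y' = br p q := by
  haveI := h.normalU
  obtain ⟨y, hy, v, hv, rfl⟩ := Subgroup.mem_sup_of_normal_right.1 hp
  obtain ⟨y', hy', v', hv', rfl⟩ := Subgroup.mem_sup_of_normal_right.1 hq
  refine ⟨y, hy, y', hy', ?_⟩
  rw [h.centralU y (hY hy) v hv, h.centralU y' (hY hy') v' hv', h.br_congr (hY hy) (hY hy') hv hv']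

theorem card_sup {Y : Subgroup S} : Nat.card ↥(Y ⊔ U) * Nat.card ↥(Y ⊓ U) = Nat.card Y * 4 := by
  haveI := h.normalU
  set π := QuotientGroup.mk' U with hπ
  have hk : π.ker = U := QuotientGroup.ker_mk' U
  have h1 := card_map_mul π Y
  have h2 := card_map_mul π (Y ⊔ U)
  rw [hk] at h1 h2
  rw [Subgroup.map_sup, show U.map π = ⊥ by rw [Subgroup.map_eq_bot_iff, hk], sup_bot_eq,
    inf_eq_right.2 (le_sup_right : U ≤ Y ⊔ U), h.cardU] at h2
  rw [← h2, ← h1]
  ring

theorem card_bU : Nat.card ↥(U ⊔ zpowers b) ≤ 8 := by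
  haveI := h.normalU
  set π := QuotientGroup.mk' U with hπ
  have hk : π.ker = U := QuotientGroup.ker_mk' U
  have h2 := card_map_mul π (U ⊔ zpowers b)
  rw [hk, Subgroup.map_sup, show U.map π = ⊥ by rw [Subgroup.map_eq_bot_iff, hk], bot_sup_eq,
    inf_eq_right.2 (le_sup_left : U ≤ U ⊔ zpowers b), h.cardU, MonoidHom.map_zpowers, Nat.card_zpowers] at h2
  have h3 : orderOf (π b) ≤ 2 := Nat.le_of_dvd two_pos (orderOf_dvd_of_pow_eq_one (by
    rw [pow_two, ← map_mul, h.bb, map_one]))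
  omega

/-- An outer element centralising `Y` modulo `U` forces `Y` to be small. -/
theorem fixed_small (hX : modCent C U b h.centralU = C)
    (hXK : ∀ x ∈ C, ∀ k ∈ C ⊓ centralizer ({b} : Set S), br x k ∈ U)
    {Y : Subgroup S} {g : S} (hY : Y ≤ C) (hg : g ∉ C) (hfix : ∀ y ∈ Y, g * y * g⁻¹ * y⁻¹ ∈ U) :
    Nat.card ↥(Y ⊔ U) ≤ 16 ∧ (Nat.card ↥(Y ⊔ U) = 16 → ∃ y ∈ Y, ∃ y' ∈ Y, br y y' = z) := by
  haveI := h.normalU
  have hxC : g * a ∈ C := (h.mem_or g).resolve_left hg
  set x := g * a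
  have hfix' : ∀ p ∈ Y ⊔ U, g * p * g⁻¹ * p⁻¹ ∈ U := by
    intro p hp
    obtain ⟨y, hy, v, hv, rfl⟩ := Subgroup.mem_sup_of_normal_right.1 hp
    rw [show g * (y * v) * g⁻¹ * (y * v)⁻¹ = (g * y * g⁻¹ * y⁻¹) * (y * ((g * v * g⁻¹) * v⁻¹) * y⁻¹) by group]
    exact mul_mem (hfix y hy) (h.normalU.conj_mem _ (mul_mem (h.normalU.conj_mem v hv g) (inv_mem hv)) y)
  have hgp : ∀ p : S, g * p * g⁻¹ = x * (a * p * a) * x⁻¹ := fun p => by
    show g * p * g⁻¹ = g * a * (a * p * a) * (g * a)⁻¹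
    rw [show g * a * (a * p * a) * (g * a)⁻¹ = g * (a * a) * p * (a * a⁻¹) * g⁻¹ by group, h.aa, mul_inv_cancel]
    group
  have hYC : Y ⊔ U ≤ C := sup_le hY h.leU
  obtain ⟨R, hRU, hRsurj, hRmem, hcard⟩ := h.card_split (Y := Y ⊔ U) (by rw [hX]; exact hYC)
  have hR2 : R ≤ zpowers z := by
    intro w hw
    obtain ⟨p, hp, rfl⟩ := hRsurj w hw
    have hpC := hYC hp
    have hpX : ∀ {q : S}, q ∈ C → br q b ∈ U := fun hq => ((hX.symm ▸ hq : _ ∈ modCent C U b h.centralU)).2
    obtain ⟨v, hv, hev⟩ : ∃ v ∈ U, g * p * g⁻¹ = v * p := ⟨_, hfix' p hp, by group⟩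
    have e1 : br (g * p * g⁻¹) b = br p b := by
      rw [hev, h.br_mul (h.leU hv) (hpX hpC), show br v b = 1 from br_eq_one.2 (h.centralU b h.hbC v hv).symm,
        mul_one]
    have e2 : br (g * p * g⁻¹) b = a * br p b * a := by
      rw [hgp]
      have hq := h.conjC hpC
      rw [h.br_mul (mul_mem hxC hq) (hpX (inv_mem hxC)), h.br_mul hxC (hpX hq),
        h.centralU _ (h.leU (hpX hq)) _ (hpX hxC), ← mul_assoc, ← h.br_mul hxC (hpX (inv_mem hxC)),
        mul_inv_cancel, show br (1 : S) b = 1 by simp [br], one_mul, h.aconj_br, h.hab]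
    rcases h.fixU (hpX hpC) (e2.symm.trans e1) with h1 | h1 <;> rw [h1]
    · exact one_mem _
    · exact mem_zpowers z
  have hR2' : Nat.card R ≤ 2 := (card_le_of_le hR2).trans (by
    rw [Nat.card_zpowers]
    exact Nat.le_of_dvd two_pos (orderOf_dvd_of_pow_eq_one (by rw [pow_two]; exact h.zz)))
  have hD : (Y ⊔ U) ⊓ (C ⊓ centralizer ({b} : Set S)) ≤ U ⊔ zpowers b := by
    rintro k ⟨hk, hkK⟩
    have h1 := hfix' k hk
    have hak := h.aK hkK
    rw [hgp, show x * (a * k * a) * x⁻¹ * k⁻¹ = br x (a * k * a) * (a * k * a * k⁻¹) by unfold br; group] at h1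
    have h2 := mul_mem (inv_mem (hXK x hxC _ hak)) h1
    rw [inv_mul_cancel_left] at h2
    rcases h.fixK hkK h2 with h3 | h3
    · exact mem_sup_left h3
    · rw [show k = k * b * b by rw [mul_assoc, h.bb, mul_one]]
      exact mul_mem (mem_sup_left h3) (mem_sup_right (mem_zpowers b))
  have hD8 := (card_le_of_le hD).trans h.card_bU
  have hle : Nat.card ↥(Y ⊔ U) ≤ 16 := by
    rw [← hcard]; exact (Nat.mul_le_mul hD8 hR2').trans (by norm_num)
  refine ⟨hle, fun h16 => ?_⟩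
  have h0 : 0 < Nat.card ↥((Y ⊔ U) ⊓ (C ⊓ centralizer ({b} : Set S))) := Nat.card_pos
  have hR : Nat.card R = 2 := by
    have h0' : 0 < Nat.card R := Nat.card_pos
    interval_cases hc : Nat.card R
    · rw [h16, mul_one] at hcard; omega
    · rfl
  rw [hR, h16] at hcard
  have hDeq : (Y ⊔ U) ⊓ (C ⊓ centralizer ({b} : Set S)) = U ⊔ zpowers b :=
    Subgroup.eq_of_le_of_card_ge hD (h.card_bU.trans (by omega))
  have hb : b ∈ Y ⊔ U := (hDeq.symm ▸ (mem_sup_right (mem_zpowers b)) : b ∈ (Y ⊔ U) ⊓ _).1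
  obtain ⟨p, hp, hpb⟩ : ∃ p ∈ Y ⊔ U, br p b = z := by
    obtain ⟨w, hw, hw1⟩ : ∃ w ∈ R, w ≠ 1 := by
      by_contra hc
      push Not at hc
      rw [show R = ⊥ from (Subgroup.eq_bot_iff_forall R).2 hc, Subgroup.card_bot] at hR
      omega
    obtain ⟨p, hp, rfl⟩ := hRsurj w hw
    refine ⟨p, hp, ?_⟩
    have h2 := hR2 hw
    obtain ⟨i, hi⟩ := mem_zpowers_iff.1 h2
    have hz2 : z ^ (2 : ℤ) = 1 := by rw [zpow_two]; exact h.zz
    rcases Int.even_or_odd i with ⟨l, rfl⟩ | ⟨l, rfl⟩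
    · rw [← two_mul, zpow_mul, hz2, one_zpow] at hi; exact absurd hi.symm hw1
    · rw [zpow_add, zpow_mul, hz2, one_zpow, one_mul, zpow_one] at hi; exact hi.symm
  obtain ⟨y, hy, y', hy', e⟩ := h.exists_lift hY hp hb
  exact ⟨y, hy, y', hy', e.trans hpb⟩

/-- The bound in a base configuration. -/
theorem base_bound (hX : modCent C U b h.centralU = C)
    (hXK : ∀ x ∈ C, ∀ k ∈ C ⊓ centralizer ({b} : Set S), br x k ∈ U)
    (hbig : ∀ Y : Subgroup S, Y ≤ C → 32 ≤ Nat.card ↥(Y ⊔ U) →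
      ∃ y ∈ Y, ∃ y' ∈ Y, br y y' = u ∨ br y y' = u * z)
    (hfull : ∀ Y : Subgroup S, Y ≤ C → Nat.card ↥(Y ⊔ U) = 64 →
      (∃ y ∈ Y, ∃ y' ∈ Y, br y y' = u) ∧ (∃ y ∈ Y, ∃ y' ∈ Y, br y y' = z)) :
    ChainBound U := by
  classical
  haveI := h.normalU
  haveI := h.normalC
  have hC64 : Nat.card C ≤ 64 := hX ▸ h.card_X_le
  intro H N hN
  set Y : Subgroup S := H ⊓ C with hYdef
  have hYU : Y ⊓ U = H ⊓ U := by rw [hYdef, inf_assoc, inf_eq_right.2 h.leU]
  have hcY := h.card_sup (Y := Y)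
  rw [hYU] at hcY
  have hH2 : Nat.card H ≤ 2 * Nat.card Y := card_le_two_mul_inf h.index.le H
  have hr : Nat.card ↥(H ⊓ U) ≤ 4 := h.cardU ▸ card_le_of_le inf_le_right
  have hy64 : Nat.card ↥(Y ⊔ U) ≤ 64 := (card_le_of_le (sup_le inf_le_right h.leU)).trans hC64
  have hN1 : 0 < Nat.card N := Nat.card_pos
  obtain ⟨e, he⟩ := card_pow h.isP (Y ⊔ U)
  have he6 : e ≤ 6 := by
    by_contra hc
    have : 2 ^ 7 ≤ 2 ^ e := Nat.pow_le_pow_right two_pos (by omega)
    omega
  have hy : Nat.card ↥(Y ⊔ U) ≤ 16 ∨ Nat.card ↥(Y ⊔ U) = 32 ∨ Nat.card ↥(Y ⊔ U) = 64 := by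
    rcases Nat.lt_or_ge e 5 with h1 | h1
    · left; rw [he]; exact (Nat.pow_le_pow_right two_pos (show e ≤ 4 by omega)).trans (by norm_num)
    · interval_cases e <;> omega
  have hcomN : ∀ y ∈ H, ∀ y' ∈ H, br y y' ∈ N := fun y hy y' hy' => hN.comm hy hy'
  have hwconj : ∀ g ∈ H, g ∉ C → ∀ w : S, w ∈ H → (w = u ∨ w = u * z) → z ∈ N := by
    intro g hg hgC w hw hw'
    have hga : g * a ∈ C := (h.mem_or g).resolve_left hgC
    have hwU : w ∈ U := by
      rcases hw' with rfl | rfl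
      exacts [h.hu, mul_mem h.hu h.hz]
    have haw : a * w * a = w * z := by
      rcases hw' with rfl | rfl
      · exact h.hau
      · rw [h.aconj_mul, h.hau, h.az]
    have e1 : g * w * g⁻¹ = w * z := by
      calc g * w * g⁻¹ = (g * a) * (a⁻¹ * w * a) * (g * a)⁻¹ := by group
        _ = (g * a) * (w * z) * (g * a)⁻¹ := by rw [h.ainv, haw]
        _ = w * z := by rw [h.centralU _ hga _ (mul_mem hwU h.hz), mul_inv_cancel_right]
    have h1 : br g w ∈ N := hcomN g hg w hw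
    unfold br at h1
    rw [e1, h.centralU w (h.leU hwU) z h.hz, mul_inv_cancel_right] at h1
    exact h1
  have hbigw : 32 ≤ Nat.card ↥(Y ⊔ U) → ∃ w ∈ N, w ∈ U ∧ (w = u ∨ w = u * z) := fun h32 => by
    obtain ⟨y, hy', y', hy'', hw⟩ := hbig Y inf_le_right h32
    refine ⟨_, hcomN y hy'.1 y' hy''.1, ?_, hw⟩
    rcases hw with hw | hw <;> rw [hw]
    exacts [h.hu, mul_mem h.hu h.hz]
  have hUle : ∀ w : S, (w = u ∨ w = u * z) → ∀ M : Subgroup S, w ∈ M → z ∈ M → U ≤ M := by
    intro w hw M hwM hzM v hv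
    have huM : u ∈ M := by
      rcases hw with rfl | rfl
      · exact hwM
      · have := mul_mem hwM hzM
        rwa [mul_assoc, h.zz, mul_one] at this
    rcases h.cases4 hv with rfl | rfl | rfl | rfl
    exacts [one_mem _, hzM, huM, mul_mem huM hzM]
  have hfullU : Nat.card ↥(Y ⊔ U) = 64 → U ≤ N := fun h64 => by
    obtain ⟨⟨y, hy1, y', hy2, e1⟩, ⟨x, hx1, x', hx2, e2⟩⟩ := hfull Y inf_le_right h64
    exact hUle u (Or.inl rfl) N (e1 ▸ hcomN y hy1.1 y' hy2.1) (e2 ▸ hcomN x hx1.1 x' hx2.1)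
  -- the configuration with an elementary abelian `H` and an outer element
  have helem : Nat.card N = 1 → ¬ H ≤ C → Nat.card ↥(Y ⊔ U) = 16 → False := by
    intro hN1' hHC h16
    obtain ⟨g, hg, hgC⟩ := SetLike.not_le_iff_exists.1 hHC
    have hone : ∀ w ∈ N, w = 1 := fun w hw => by
      rw [Subgroup.card_eq_one.1 hN1', mem_bot] at hw; exact hw
    obtain ⟨-, h2⟩ := h.fixed_small hX hXK (Y := Y) inf_le_right hgC (fun y hy' => by
      rw [show g * y * g⁻¹ * y⁻¹ = br g y from rfl, hone _ (hcomN g hg y hy'.1)]; exact one_mem _)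
    obtain ⟨y, hy1, y', hy2, e1⟩ := h2 h16
    exact h.z1 (e1 ▸ hone _ (hcomN y hy1.1 y' hy2.1))
  have hHeq : H ≤ C → Nat.card H = Nat.card Y := fun hle => by rw [hYdef, inf_eq_left.2 hle]
  refine ⟨fun hHU => ?_, fun hHU => ?_, ?_⟩
  · -- `H ∩ U = 1`
    rw [hHU, Subgroup.card_bot, mul_one] at hcY
    have hy16 : Nat.card ↥(Y ⊔ U) ≤ 16 := by
      by_contra hc
      obtain ⟨w, hwN, hwU, hw⟩ := hbigw (by omega)
      have : w ∈ H ⊓ U := ⟨hN.le hwN, hwU⟩
      rw [hHU, mem_bot] at this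
      rcases hw with rfl | rfl
      · exact h.u1 this
      · exact h.uz (eq_inv_of_mul_eq_one_left this |>.trans (inv_eq_of_mul_eq_one_right h.zz))
    by_contra hc
    by_cases hHC : H ≤ C
    · have := hHeq hHC; omega
    · refine helem (by omega) hHC ?_
      by_contra h16
      have hy8 : Nat.card ↥(Y ⊔ U) ≤ 8 := by
        rcases Nat.lt_or_ge e 4 with h1 | h1
        · rw [he]; exact (Nat.pow_le_pow_right two_pos (show e ≤ 3 by omega)).trans (by norm_num)
        · exfalso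
          interval_cases e <;> omega
      omega
  · -- `U ⊄ H`
    have hr2 : Nat.card ↥(H ⊓ U) ≤ 2 := by
      have := two_mul_card_le (inf_le_right : H ⊓ U ≤ U) (fun e => hHU (e ▸ inf_le_left))
      rw [h.cardU] at this
      omega
    by_cases hbig' : 32 ≤ Nat.card ↥(Y ⊔ U)
    · obtain ⟨w, hwN, hwU, hw⟩ := hbigw hbig'
      have hHC : H ≤ C := fun g hg => by_contra fun hgC => hHU
        (hUle w hw H (hN.le hwN) (hN.le (hwconj g hg hgC w (hN.le hwN) hw)))
      have hN2 : 2 ≤ Nat.card N := by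
        by_contra hc
        have hN' : Nat.card N = 1 := by omega
        rw [Subgroup.card_eq_one.1 hN', mem_bot] at hwN
        rcases hw with rfl | rfl
        · exact h.u1 hwN
        · exact h.uz ((eq_inv_of_mul_eq_one_left hwN).trans (inv_eq_of_mul_eq_one_right h.zz))
      rcases hy with hy | hy | hy
      · omega
      · rw [hy] at hcY; have := hHeq hHC; omega
      · exact absurd ((hfullU hy).trans hN.le) hHU
    · by_contra hc
      have hle : Nat.card ↥(Y ⊔ U) * Nat.card ↥(H ⊓ U) ≤ 16 * 2 :=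
        Nat.mul_le_mul (by rcases hy with h1 | h1 | h1 <;> omega) hr2
      have h16 : Nat.card ↥(Y ⊔ U) = 16 := by
        by_contra h16
        have hy8 : Nat.card ↥(Y ⊔ U) ≤ 8 := by
          rcases Nat.lt_or_ge e 4 with h1 | h1
          · rw [he]; exact (Nat.pow_le_pow_right two_pos (show e ≤ 3 by omega)).trans (by norm_num)
          · exfalso
            interval_cases e <;> omega
        have : Nat.card ↥(Y ⊔ U) * Nat.card ↥(H ⊓ U) ≤ 8 * 2 := Nat.mul_le_mul hy8 hr2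
        omega
      by_cases hHC : H ≤ C
      · have := hHeq hHC; omega
      · exact helem (by omega) hHC h16
  · -- the general bound
    have hle : ∀ m, Nat.card ↥(Y ⊔ U) ≤ m → Nat.card Y ≤ m := fun m hm => by
      have : Nat.card ↥(Y ⊔ U) * Nat.card ↥(H ⊓ U) ≤ m * 4 := Nat.mul_le_mul hm hr
      omega
    rcases hy with hy | hy | hy
    · by_contra hc
      have hY16 := hle 16 hy
      by_cases hHC : H ≤ C
      · have := hHeq hHC; omega
      · refine helem (by omega) hHC ?_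
        by_contra h16
        have hy8 : Nat.card ↥(Y ⊔ U) ≤ 8 := by
          rcases Nat.lt_or_ge e 4 with h1 | h1
          · rw [he]; exact (Nat.pow_le_pow_right two_pos (show e ≤ 3 by omega)).trans (by norm_num)
          · exfalso
            interval_cases e <;> omega
        have := hle 8 hy8
        omega
    · obtain ⟨w, hwN, hwU, hw⟩ := hbigw hy.ge
      have hY32 := hle 32 hy.le
      by_cases hHC : H ≤ C
      · have hN2 : 2 ≤ Nat.card N := by
          by_contra hc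
          have hN' : Nat.card N = 1 := by omega
          rw [Subgroup.card_eq_one.1 hN', mem_bot] at hwN
          rcases hw with rfl | rfl
          · exact h.u1 hwN
          · exact h.uz ((eq_inv_of_mul_eq_one_left hwN).trans (inv_eq_of_mul_eq_one_right h.zz))
        have := hHeq hHC; omega
      · obtain ⟨g, hg, hgC⟩ := SetLike.not_le_iff_exists.1 hHC
        have h4 := card_le_of_le (hUle w hw N hwN (hwconj g hg hgC w (hN.le hwN) hw))
        rw [h.cardU] at h4
        omega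
    · have hUN := hfullU hy
      have h4 := card_le_of_le hUN
      rw [h.cardU] at h4
      have hY64 := hle 64 hy.le
      by_contra hc
      obtain ⟨g, hg, hgC⟩ : ∃ g ∈ H, g ∉ C := SetLike.not_le_iff_exists.1 fun hle' => by
        have := hHeq hle'; omega
      have hNU : U = N := Subgroup.eq_of_le_of_card_ge hUN (by
        obtain ⟨k, hk⟩ := card_pow h.isP N
        rw [h.cardU, hk]
        have : k ≤ 2 := by
          by_contra hk'
          have : 2 ^ 3 ≤ 2 ^ k := Nat.pow_le_pow_right two_pos (by omega)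
          omega
        exact (Nat.pow_le_pow_right two_pos this).trans (by norm_num))
      obtain ⟨h1, -⟩ := h.fixed_small hX hXK (Y := Y) inf_le_right hgC (fun y hy' => by
        have := hcomN g hg y hy'.1
        rw [← hNU] at this
        exact this)
      omega

end Chain

theorem Chain.bound_of_eq {C U : Subgroup S} {z u a b c : S} (h : Chain C U z u a b c)
    (hK : C ⊓ centralizer ({b} : Set S) = C) : ChainBound U := by
  have hC16 : Nat.card C = 16 := hK ▸ h.cardK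
  have hsmall : ∀ Y : Subgroup S, Y ≤ C → Nat.card ↥(Y ⊔ U) ≤ 16 := fun Y hY =>
    (card_le_of_le (sup_le hY h.leU)).trans hC16.le
  refine h.base_bound (le_antisymm (fun x hx => hx.1) (fun x hx => h.K_le_X (hK.symm ▸ hx))) ?_ ?_ ?_
  · intro x hx k hk
    rw [br_eq_one.2 (h.commK _ (hK.symm ▸ hx) _ hk)]
    exact one_mem _
  · intro Y hY h32
    have := hsmall Y hY
    omega
  · intro Y hY h64
    have := hsmall Y hY
    omega

theorem ChainD.bound_of_X {C U : Subgroup S} {z u a b c d : S} (h : ChainD C U z u a b c d)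
    (hX : modCent C U b h.chain.centralU = C) : ChainBound U := by
  have hc := h.chain
  have hC64 : Nat.card C ≤ 64 := hX ▸ hc.card_X_le
  have hmem : ∀ {x}, x ∈ C → x ∈ modCent C U b hc.centralU := fun hx => hX.symm ▸ hx
  -- elements over `z`
  have hzc : ∀ x ∈ C, br x b = z → br x c = u := by
    intro x hx hx'
    have hk := h.cases_z (hmem hx) hx'
    rw [show x = d * (d⁻¹ * x) by group]
    set k := d⁻¹ * x
    rw [show br (d * k) c = d * br k c * d⁻¹ * br d c by unfold br; group,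
      br_eq_one.2 (hc.commK _ hk _ hc.cK), h.hdc]
    group
  refine hc.base_bound hX (fun x hx k hk => h.XK (hmem hx) hk) ?_ ?_
  · intro Y hY h32
    haveI := hc.normalU
    have hYC : Y ⊔ U ≤ C := sup_le hY hc.leU
    obtain ⟨R, hRU, hRsurj, hRmem, hcard⟩ := hc.card_split (Y := Y ⊔ U) (fun x hx => hmem (hYC hx))
    have hK16 : Nat.card ↥((Y ⊔ U) ⊓ (C ⊓ centralizer ({b} : Set S))) ≤ 16 :=
      hc.cardK ▸ card_le_of_le inf_le_right
    have hR4 : Nat.card R ≤ 4 := hc.cardU ▸ card_le_of_le hRU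
    have lift : ∀ p ∈ Y ⊔ U, ∀ q ∈ Y ⊔ U, (br p q = u ∨ br p q = u * z) →
        ∃ y ∈ Y, ∃ y' ∈ Y, br y y' = u ∨ br y y' = u * z := fun p hp q hq e => by
      obtain ⟨y, hy, y', hy', e'⟩ := hc.exists_lift hY hp hq
      exact ⟨y, hy, y', hy', e' ▸ e⟩
    by_cases hKY : C ⊓ centralizer ({b} : Set S) ≤ Y ⊔ U
    · obtain ⟨w, hw, hw1⟩ : ∃ w ∈ R, w ≠ 1 := by
        by_contra hne
        push Not at hne
        rw [show R = ⊥ from (Subgroup.eq_bot_iff_forall R).2 hne, Subgroup.card_bot, mul_one] at hcard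
        omega
      obtain ⟨p, hp, rfl⟩ := hRsurj w hw
      rcases hc.cases4 (hRU hw) with h1 | h1 | h1 | h1
      · exact absurd h1 hw1
      · exact lift p hp c (hKY hc.cK) (Or.inl (hzc p (hYC hp) h1))
      · exact lift p hp b (hKY hc.bK) (Or.inl h1)
      · exact lift p hp b (hKY hc.bK) (Or.inr h1)
    · have h8 : Nat.card ↥((Y ⊔ U) ⊓ (C ⊓ centralizer ({b} : Set S))) ≤ 8 := by
        have := two_mul_card_le (inf_le_right : (Y ⊔ U) ⊓ (C ⊓ centralizer ({b} : Set S)) ≤ _)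
          (fun e => hKY (e ▸ inf_le_left))
        rw [hc.cardK] at this
        omega
      have hmul := hcard
      have hR4' : Nat.card R = 4 := by
        by_contra hne
        have : Nat.card ↥((Y ⊔ U) ⊓ (C ⊓ centralizer ({b} : Set S))) * Nat.card R ≤ 8 * 3 :=
          Nat.mul_le_mul h8 (by omega)
        omega
      have hRU' : R = U := Subgroup.eq_of_le_of_card_ge hRU (by rw [hR4', hc.cardU])
      obtain ⟨p, hp, hpz⟩ := hRsurj z (hRU' ▸ hc.hz)
      obtain ⟨q, hq, hqu⟩ := hRsurj u (hRU' ▸ hc.hu)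
      have h8' : 8 ≤ Nat.card ↥((Y ⊔ U) ⊓ (C ⊓ centralizer ({b} : Set S))) := by
        rw [hR4'] at hcard; omega
      obtain ⟨k, hk, hkU⟩ : ∃ k ∈ (Y ⊔ U) ⊓ (C ⊓ centralizer ({b} : Set S)), k ∉ U :=
        SetLike.not_le_iff_exists.1 fun hle => by
          have := card_le_of_le hle
          rw [hc.cardU] at this
          omega
      have hbr : ∀ {x v : S}, x ∈ C → v ∈ U → ∀ w, w ∈ C → br x (v * w) = br x w := by
        intro x v hx hv w hw
        have := hc.br_congr hx hw (one_mem U) hv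
        rwa [one_mul] at this
      rcases hc.casesK hk.2 with h1 | h1 | h1 | h1
      · exact absurd h1 hkU
      · refine lift q hq k hk.1 (Or.inl ?_)
        rw [show k = k * b * b by rw [mul_assoc, hc.bb, mul_one], hbr (hYC hq) h1 b hc.hbC, hqu]
      · refine lift p hp k hk.1 (Or.inl ?_)
        rw [show k = k * c⁻¹ * c by group, hbr (hYC hp) h1 c hc.hcC, hzc p (hYC hp) hpz]
      · refine lift p hp k hk.1 (Or.inr ?_)
        rw [show k = k * (c * b)⁻¹ * (c * b) by group, hbr (hYC hp) h1 _ (mul_mem hc.hcC hc.hbC),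
          show br p (c * b) = br p c * (c * br p b * c⁻¹) by unfold br; group,
          hzc p (hYC hp) hpz, hpz, mem_center_iff.1 hc.zc c, mul_inv_cancel_right]
  · intro Y hY h64
    have hYC : Y ⊔ U = C := Subgroup.eq_of_le_of_card_ge (sup_le hY hc.leU) (by omega)
    obtain ⟨y, hy, y', hy', e1⟩ := hc.exists_lift hY (hYC.symm ▸ h.hdC) (hYC.symm ▸ hc.hcC)
    obtain ⟨x, hx, x', hx', e2⟩ := hc.exists_lift hY (hYC.symm ▸ h.hdC) (hYC.symm ▸ hc.hbC)
    exact ⟨⟨y, hy, y', hy', e1.trans h.hdc⟩, ⟨x, hx, x', hx', e2.trans h.hdb⟩⟩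

end Cfsg.Lib.SelfCentEight
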