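/-
The inductive step for chain configurations and the resulting bound.
-/
import Cfsg.Agent.TwoFusion.EightChainBase
import Cfsg.Agent.PGroups.NormalFour

set_option autoImplicit false
set_option linter.style.haveILetI false
set_option linter.unusedSectionVars false

namespace Cfsg.Lib.SelfCentEight

open Subgroup

universe w

variable {S : Type w} [Group S] [Finite S]

/-- Data for the inductive step. -/
structure Layer (C U : Subgroup S) (z u a b c d n : S) : Prop where
  chain : Chain C U z u a b c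
  hdX : d ∈ C ∧ br d b = z
  hnX : n ∈ C ∧ br n b = u
  hdd : d * d = z
  hnn : n * n = u ∨ n * n = u * z
  hdn : d * n = n * d
  hda : a * d * a * d⁻¹ ∈ U
  hna : a * n * a * (n * d)⁻¹ ∈ U
  hXU : ∀ x ∈ C, br x b ∈ U → ∀ y ∈ C, br y b ∈ U → br x y ∈ U
  hCd : ∀ x ∈ C, br x d ∈ U
  hCn : ∀ x ∈ C, br x n ∈ U

set_option maxHeartbeats 1000000 in
theorem ChainD.exists_layer {C U : Subgroup S} {z u a b c d₁ : S} (h₁ : ChainD C U z u a b c d₁)
    (hne : modCent C U b h₁.chain.centralU ≠ C) : ∃ d n, Layer C U z u a b c d n := by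
  classical
  have hc := h₁.chain
  haveI := hc.normalU
  haveI := hc.normalC
  set X := modCent C U b hc.centralU with hXdef
  set K := C ⊓ centralizer ({b} : Set S) with hKdef
  set π := QuotientGroup.mk' U with hπdef
  have hπ1 : ∀ x, π x = 1 ↔ x ∈ U := fun x => QuotientGroup.eq_one_iff x
  have hπbr : ∀ x y, br x y ∈ U → π x * π y = π y * π x := fun x y hxy =>
    br_eq_one.1 (by rw [map_br, (hπ1 _).2 hxy])
  have haN : a ∈ normalizer (X : Set S) := by
    refine Subgroup.mem_normalizer_iff.2 fun x => ?_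
    rw [hc.ainv]
    exact ⟨hc.aX, fun hx => by have := hc.aX hx; rwa [hc.aa_conj] at this⟩
  obtain ⟨m, hmC, hmX, hmN, hma⟩ := exists_fixed_outside hc.isP (fun x (hx : x ∈ X) => hx.1) hne haN
  have hmconj : ∀ x ∈ X, m * x * m⁻¹ ∈ X := fun x hx => (Subgroup.mem_normalizer_iff.1 hmN x).1 hx
  set x' := m⁻¹ * (a * m * a) with hx'def
  have hama : a * m * a = m * x' := by rw [hx'def, mul_inv_cancel_left]
  have hx'X : x' ∈ X := by
    have h1 : br a m ∈ X := hma
    have h2 : m * x' * m⁻¹ ∈ X := by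
      have e : m * x' * m⁻¹ = br a m := by rw [hx'def]; unfold br; rw [hc.ainv]; group
      rw [e]; exact h1
    exact (Subgroup.mem_normalizer_iff.1 hmN x').2 h2
  have hmU : ∀ v ∈ U, m * v * m⁻¹ = v := fun v hv => by rw [hc.centralU m hmC v hv, mul_inv_cancel_right]
  have hacomm : ∀ x : S, x ∈ X → a * (m * x * m⁻¹) * a = m * (x' * (a * x * a) * x'⁻¹) * m⁻¹ := by
    intro x _
    rw [hc.aconj_mul, hc.aconj_mul, hc.aconj_inv, hama]
    group
  have hbX : b ∈ X := hc.K_le_X hc.bK
  have hcX : c ∈ X := hc.K_le_X hc.cK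
  set b' := m * b * m⁻¹ with hb'def
  have hb'X : b' ∈ X := hmconj b hbX
  have hfixb : a * b' * a * b'⁻¹ ∈ U := by
    rw [hb'def, hacomm b hbX, hc.hab,
      show m * (x' * b * x'⁻¹) * m⁻¹ * (m * b * m⁻¹)⁻¹ = m * (br x' b) * m⁻¹ by unfold br; group,
      hmU _ hx'X.2]
    exact hx'X.2
  have hb'b' : b' * b' = 1 := by
    rw [hb'def, show m * b * m⁻¹ * (m * b * m⁻¹) = m * (b * b) * m⁻¹ by group, hc.bb]; group
  have hb'K : b' ∉ K := by
    intro hK
    rcases hc.fixK hK hfixb with h1 | h1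
    · apply hc.hbU
      have := hc.normalU.conj_mem _ h1 m⁻¹
      rwa [hb'def, show m⁻¹ * (m * b * m⁻¹) * m⁻¹⁻¹ = b by group] at this
    · apply hmX
      refine ⟨hmC, ?_⟩
      rw [show br m b = b' * b⁻¹ from rfl, inv_eq_of_mul_eq_one_right hc.bb]
      exact h1
  -- elements fixed modulo `U`
  have hfixed : ∀ x ∈ X, a * x * a * x⁻¹ ∈ U → br x b = 1 ∨ br x b = z := by
    intro x hx hf
    refine hc.fixU hx.2 ?_
    rw [hc.aconj_br, hc.hab]
    have e : a * x * a = (a * x * a * x⁻¹) * x := by group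
    rw [e, hc.br_mul (hc.leU hf) hx.2,
      show br (a * x * a * x⁻¹) b = 1 from br_eq_one.2 (hc.centralU b hc.hbC _ hf).symm, mul_one]
  have hb'z : br b' b = z := by
    rcases hfixed b' hb'X hfixb with h1 | h1
    · exact absurd ((hc.mem_K_iff_br hb'X.1).2 h1) hb'K
    · exact h1
  have hdk : ∀ x ∈ X, br x b = z → a * x * a * x⁻¹ ∈ U → (d₁⁻¹ * x) ∈ U ∨ (d₁⁻¹ * x) * b ∈ U := by
    intro x hx hxz hf
    have hk := h₁.cases_z hx hxz
    refine hc.fixK hk ?_
    set k := d₁⁻¹ * x with hkdef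
    have e : a * x * a * x⁻¹ = (a * d₁ * a * d₁⁻¹) * (d₁ * (a * k * a * k⁻¹) * d₁⁻¹) := by
      rw [show x = d₁ * k by rw [hkdef, mul_inv_cancel_left], hc.aconj_mul]
      group
    rw [e] at hf
    have h2 := mul_mem (inv_mem h₁.hda) hf
    rw [inv_mul_cancel_left] at h2
    have h3 := hc.normalU.conj_mem _ h2 d₁⁻¹
    rwa [show d₁⁻¹ * (d₁ * (a * k * a * k⁻¹) * d₁⁻¹) * d₁⁻¹⁻¹ = a * k * a * k⁻¹ by group] at h3
  -- the new `d`
  set d := b' * b with hddef
  clear_value d
  have hdX : d ∈ X := hddef ▸ mul_mem hb'X hbX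
  have hbr_bb : br b b = 1 := br_eq_one.2 rfl
  have hdz : br d b = z := by
    rw [hddef, hc.br_mul hb'X.1 (by rw [hbr_bb]; exact one_mem _), hbr_bb, one_mul, hb'z]
  have hdd : d * d = z := by
    have e : b * d⁻¹ * b⁻¹ = d := by
      rw [hddef, mul_inv_rev, inv_eq_of_mul_eq_one_right hc.bb, inv_eq_of_mul_eq_one_right hb'b',
        show b * (b * b') * b = (b * b) * b' * b by group, hc.bb, one_mul]
    rw [← hdz]
    show d * d = d * b * d⁻¹ * b⁻¹
    rw [show d * b * d⁻¹ * b⁻¹ = d * (b * d⁻¹ * b⁻¹) by group, e]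
  have hda : a * d * a * d⁻¹ ∈ U := by
    rw [hddef, hc.aconj_mul, hc.hab, show a * b' * a * b * (b' * b)⁻¹ = a * b' * a * b'⁻¹ by group]
    exact hfixb
  have hd1d : d₁⁻¹ * d ∈ K := h₁.cases_z hdX hdz
  have hdc : br d c = u := by
    rw [show d = d₁ * (d₁⁻¹ * d) by group]
    set k := d₁⁻¹ * d
    rw [show br (d₁ * k) c = d₁ * br k c * d₁⁻¹ * br d₁ c by unfold br; group,
      br_eq_one.2 (hc.commK _ hd1d _ hc.cK), h₁.hdc]
    group
  have h : ChainD C U z u a b c d := ⟨hc, hdX.1, hdz, hdc, hda, h₁.hcc⟩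
  have hXK : ∀ {x k : S}, x ∈ X → k ∈ K → br x k ∈ U := fun hx hk => h.XK hx hk
  -- the element `n`
  set n := br m c with hndef
  have hnX : n ∈ X := mul_mem (hmconj c hcX) (inv_mem hcX)
  obtain ⟨w, hw, hac⟩ : ∃ w ∈ U, a * c * a = w * (b * c) := ⟨_, hc.hcmove, by group⟩
  have hmc : m * c * m⁻¹ = n * c := (br_mul_eq m c).symm
  have hmb : m * b * m⁻¹ = d * b := by rw [hddef, mul_assoc b', hc.bb, mul_one]
  have hna : a * n * a * (n * d)⁻¹ ∈ U := by
    have hwbcK : w * (b * c) ∈ K := mul_mem (hc.U_le_K hw) (mul_mem hc.bK hc.cK)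
    have h1 := hXK hx'X hwbcK
    have e : a * n * a = br x' (w * (b * c)) * (w * (d * b * (n * c)) * (w * (b * c))⁻¹) := by
      rw [hndef, show br m c = m * c * m⁻¹ * c⁻¹ from rfl, hc.aconj_mul, hc.aconj_inv, hacomm c hcX, hac]
      rw [show x' * (w * (b * c)) * x'⁻¹ = br x' (w * (b * c)) * (w * (b * c)) by unfold br; group,
        show m * (br x' (w * (b * c)) * (w * (b * c))) * m⁻¹
          = (m * br x' (w * (b * c)) * m⁻¹) * ((m * w * m⁻¹) * ((m * b * m⁻¹) * (m * c * m⁻¹))) by group,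
        hmU _ h1, hmU _ hw, hmb, hmc]
      group
    rw [← hπ1, map_mul, map_inv, mul_inv_eq_one, e]
    have e1 : π b * π n = π n * π b := (hπbr _ _ hnX.2).symm
    have e2 : π d * π n = π d * (π b * π n * (π b)⁻¹) := by rw [e1, mul_inv_cancel_right]
    simp only [map_mul, map_inv, (hπ1 _).2 h1, (hπ1 _).2 hw, one_mul]
    rw [show π d * π b * (π n * π c) * (π b * π c)⁻¹ = π d * (π b * π n * (π b)⁻¹) by group, ← e2]
    -- `d` and `n` may fail to commute only inside `K`
    exact hπbr d n (by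
      -- all commutators inside `X` lie in `U`
      have hnu : br n b = u ∨ br n b = u * z := by
        have e3 : a * n * a = (br x' (w * (b * c))) * (w * (d * b * (n * c)) * (w * (b * c))⁻¹) := e
        have hmem1 : br x' (w * (b * c)) ∈ C := hc.leU h1
        have hbn : π (a * n * a) = π d * π n := by
          rw [e3]
          simp only [map_mul, map_inv, (hπ1 _).2 h1, (hπ1 _).2 hw, one_mul]
          rw [show π d * π b * (π n * π c) * (π b * π c)⁻¹ = π d * (π b * π n * (π b)⁻¹) by group, ← e2]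
        have hv : a * n * a * (d * n)⁻¹ ∈ U := by
          rw [← hπ1, map_mul, map_inv, hbn, ← map_mul π d n, mul_inv_cancel]
        refine hc.moveU hnX.2 ?_
        rw [hc.aconj_br, hc.hab, show a * n * a = (a * n * a * (d * n)⁻¹) * (d * n) by group,
          hc.br_mul (hc.leU hv) (mul_mem hdX hnX).2,
          show br (a * n * a * (d * n)⁻¹) b = 1 from br_eq_one.2 (hc.centralU b hc.hbC _ hv).symm, mul_one,
          hc.br_mul hdX.1 hnX.2, hdz]
      -- decomposition of `X`
      have hdec : ∀ D : Subgroup X, K.subgroupOf X ≤ D → (⟨d, hdX⟩ : X) ∈ D → (⟨n, hnX⟩ : X) ∈ D → D = ⊤ := by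
        intro D hK hd hn
        rw [eq_top_iff]
        intro x _
        have hcase : ∀ g : X, g ∈ D → br (x : S) b = br (g : S) b → x ∈ D := fun g hg he => by
          have h5 : g⁻¹ * x ∈ D := hK (show ((g : S))⁻¹ * (x : S) ∈ K from hc.eq_br x.2 g.2 he)
          have := D.mul_mem hg h5
          rwa [mul_inv_cancel_left] at this
        have hdn : br (d * n) b = br n b * z := by rw [hc.br_mul hdX.1 hnX.2, hdz]
        rcases hc.cases4 x.2.2 with h5 | h5 | h5 | h5
        · exact hK ((hc.mem_K_iff_br x.2.1).2 h5)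
        · exact hcase _ hd (h5.trans hdz.symm)
        · rcases hnu with h6 | h6
          · exact hcase _ hn (h5.trans h6.symm)
          · refine hcase _ (D.mul_mem hd hn) (h5.trans ?_)
            show u = br (d * n) b
            rw [hdn, h6, mul_assoc, hc.zz, mul_one]
        · rcases hnu with h6 | h6
          · refine hcase _ (D.mul_mem hd hn) (h5.trans ?_)
            show u * z = br (d * n) b
            rw [hdn, h6]
          · exact hcase _ hn (h5.trans h6.symm)
      set k := br d n with hkdef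
      have hkK : k ∈ K := by
        have h4 : br (d * n) b = br (n * d) b := by
          rw [hc.br_mul hdX.1 hnX.2, hc.br_mul hnX.1 hdX.2, hdz,
            hc.centralU _ (hc.leU hnX.2) _ hc.hz]
        have h5 := hc.X_norm (mul_mem hnX hdX) (hc.eq_br (mul_mem hdX hnX) (mul_mem hnX hdX) h4)
        rwa [show n * d * ((n * d)⁻¹ * (d * n)) * (n * d)⁻¹ = k by rw [hkdef]; unfold br; group] at h5
      have hkfix : a * k * a * k⁻¹ ∈ U := by
        rw [← hπ1, map_mul, map_inv, mul_inv_eq_one, hkdef, hc.aconj_br, ← map_br, ← map_br]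
        have e5 : π (a * d * a) = π d := by
          have := (hπ1 _).2 hda
          rwa [map_mul, map_inv, mul_inv_eq_one] at this
        have e6 : π (a * n * a) = π d * π n := by
          rw [e]
          simp only [map_mul, map_inv, (hπ1 _).2 h1, (hπ1 _).2 hw, one_mul]
          rw [show π d * π b * (π n * π c) * (π b * π c)⁻¹ = π d * (π b * π n * (π b)⁻¹) by group, ← e2]
        rw [e5, e6, show br (π d) (π d * π n) = π d * br (π d) (π n) * (π d)⁻¹ by unfold br; group]
        have := hπbr _ _ (hXK hdX hkK)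
        rw [map_br, this, mul_inv_cancel_right]
      rcases hc.fixK hkK hkfix with hkU | hkb
      · exact hkU
      · exfalso
        -- then `m` would fix `b` modulo `U`
        set D : Subgroup S := U ⊔ zpowers b with hDdef
        have hkD : k ∈ D := by
          rw [show k = k * b * b by rw [mul_assoc, hc.bb, mul_one]]
          exact mul_mem (mem_sup_left hkb) (mem_sup_right (mem_zpowers b))
        have hDK : D ≤ K := sup_le hc.U_le_K (zpowers_le.2 hc.bK)
        haveI hDn : (D.subgroupOf X).Normal := by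
          constructor
          intro y hy x
          show (x : S) * y * (x : S)⁻¹ ∈ D
          rw [show (x : S) * (y : S) * (x : S)⁻¹ = br (x : S) y * y by unfold br; group]
          exact mul_mem (mem_sup_left (hXK x.2 (hDK hy))) hy
        set q := QuotientGroup.mk' (D.subgroupOf X)
        have hq1 : ∀ x y : X, br (x : S) y ∈ D → q x * q y = q y * q x := fun x y hxy =>
          br_eq_one.1 (by rw [map_br]; exact (QuotientGroup.eq_one_iff _).2 (show br (x : S) y ∈ D from hxy))
        have hcen : ∀ g : X, (∀ k' : X, (k' : S) ∈ K → br (g : S) k' ∈ D) → br (g : S) d ∈ D →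
            br (g : S) n ∈ D → ∀ x : X, q g * q x = q x * q g := by
          intro g hgK hgd hgn x
          have htop := hdec ((centralizer ({q g} : Set _)).comap q)
            (fun k' hk' => mem_centralizer_singleton_iff.2 (hq1 g k' (hgK k' hk')).symm)
            (mem_centralizer_singleton_iff.2 (hq1 g _ hgd).symm)
            (mem_centralizer_singleton_iff.2 (hq1 g _ hgn).symm)
          have hx : x ∈ (centralizer ({q g} : Set _)).comap q := htop ▸ mem_top x
          exact (mem_centralizer_singleton_iff.1 hx).symm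
        have hKD : ∀ x : X, ∀ k' : X, (k' : S) ∈ K → br (x : S) k' ∈ D := fun x k' hk' =>
          mem_sup_left (hXK x.2 hk')
        have hd' := hcen ⟨d, hdX⟩ (hKD _) (by rw [show br d d = 1 from br_eq_one.2 rfl]; exact one_mem _) hkD
        have hn' := hcen ⟨n, hnX⟩ (hKD _) (by rw [br_inv_swap d n]; exact inv_mem hkD)
          (by rw [show br n n = 1 from br_eq_one.2 rfl]; exact one_mem _)
        have hall : ∀ x y : X, q x * q y = q y * q x := by
          intro x y
          have htop := hdec ((centralizer ({q y} : Set _)).comap q)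
            (fun k' hk' => mem_centralizer_singleton_iff.2 (by
              rw [hq1 k' y (by rw [br_inv_swap (y : S) k']; exact inv_mem (hKD y k' hk'))]))
            (mem_centralizer_singleton_iff.2 (hd' y)) (mem_centralizer_singleton_iff.2 (hn' y))
          have hx : x ∈ (centralizer ({q y} : Set _)).comap q := htop ▸ mem_top x
          exact mem_centralizer_singleton_iff.1 hx
        have hmk : m * k * m⁻¹ ∈ D := by
          rw [show m * k * m⁻¹ = br (m * d * m⁻¹) (m * n * m⁻¹) by rw [hkdef]; unfold br; group]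
          have h5 := br_eq_one.2 (hall ⟨_, hmconj d hdX⟩ ⟨_, hmconj n hnX⟩)
          rw [map_br] at h5
          have h6 : br (⟨_, hmconj d hdX⟩ : X) ⟨_, hmconj n hnX⟩ ∈ D.subgroupOf X :=
            (QuotientGroup.eq_one_iff _).1 h5
          exact h6
        apply hb'K
        apply hDK
        have e7 : b' = ((m * (k * b) * m⁻¹)⁻¹ * (m * k * m⁻¹))⁻¹ := by rw [hb'def]; group
        rw [e7, hmU _ hkb]
        exact inv_mem (mul_mem (inv_mem (mem_sup_left hkb)) hmk))
  -- commutators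
  have hnu : br n b = u ∨ br n b = u * z := by
    refine hc.moveU hnX.2 ?_
    rw [hc.aconj_br, hc.hab, show a * n * a = (a * n * a * (n * d)⁻¹) * (n * d) by group,
      hc.br_mul (hc.leU hna) (mul_mem hnX hdX).2,
      show br (a * n * a * (n * d)⁻¹) b = 1 from br_eq_one.2 (hc.centralU b hc.hbC _ hna).symm, mul_one,
      hc.br_mul hnX.1 hdX.2, hdz, hc.centralU _ (hc.leU hnX.2) _ hc.hz]
  set k := br d n with hkdef
  have hkU : k ∈ U := by
    have hkK : k ∈ K := by
      have h4 : br (d * n) b = br (n * d) b := by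
        rw [hc.br_mul hdX.1 hnX.2, hc.br_mul hnX.1 hdX.2, hdz, hc.centralU _ (hc.leU hnX.2) _ hc.hz]
      have h5 := hc.X_norm (mul_mem hnX hdX) (hc.eq_br (mul_mem hdX hnX) (mul_mem hnX hdX) h4)
      rwa [show n * d * ((n * d)⁻¹ * (d * n)) * (n * d)⁻¹ = k by rw [hkdef]; unfold br; group] at h5
    -- read off from the shape of `a n a`
    have h5 : π (a * n * a) = π n * π d := by
      have := (hπ1 _).2 hna
      rwa [map_mul, map_inv, mul_inv_eq_one, map_mul] at this
    have h1 := hXK hx'X (mul_mem (hc.U_le_K hw) (mul_mem hc.bK hc.cK))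
    have e : a * n * a = br x' (w * (b * c)) * (w * (d * b * (n * c)) * (w * (b * c))⁻¹) := by
      rw [hndef, show br m c = m * c * m⁻¹ * c⁻¹ from rfl, hc.aconj_mul, hc.aconj_inv, hacomm c hcX, hac]
      rw [show x' * (w * (b * c)) * x'⁻¹ = br x' (w * (b * c)) * (w * (b * c)) by unfold br; group,
        show m * (br x' (w * (b * c)) * (w * (b * c))) * m⁻¹
          = (m * br x' (w * (b * c)) * m⁻¹) * ((m * w * m⁻¹) * ((m * b * m⁻¹) * (m * c * m⁻¹))) by group,
        hmU _ h1, hmU _ hw, hmb, hmc]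
      group
    rw [e] at h5
    simp only [map_mul, map_inv, (hπ1 _).2 h1, (hπ1 _).2 hw, one_mul] at h5
    rw [show π d * π b * (π n * π c) * (π b * π c)⁻¹ = π d * (π b * π n * (π b)⁻¹) by group,
      ← hπbr n b hnX.2, mul_inv_cancel_right] at h5
    rw [← hπ1, hkdef, ← map_br, br_eq_one]
    exact h5
  -- `m` on `d`
  set d' := m * d * m⁻¹ with hd'def
  have hd'X : d' ∈ X := hmconj d hdX
  have hd'fix : a * d' * a * d'⁻¹ ∈ U := by
    obtain ⟨v, hv, hev⟩ : ∃ v ∈ U, a * d * a = v * d := ⟨_, hda, by group⟩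
    rw [hd'def, hacomm d hdX, hev, show x' * (v * d) * x'⁻¹ = (x' * v * x'⁻¹) * (br x' d * d) by unfold br; group,
      hc.centralU x' hx'X.1 v hv, mul_inv_cancel_right]
    have hxd : br x' d ∈ U := by
      have h4 : br (x' * d) b = br (d * x') b := by
        rw [hc.br_mul hx'X.1 hdX.2, hc.br_mul hdX.1 hx'X.2, hdz]
        exact hc.centralU z (hc.leU hc.hz) _ hx'X.2 |>.trans rfl
      -- reduce to the generators
      rcases hc.cases4 hx'X.2 with h5 | h5 | h5 | h5
      · rw [br_inv_swap d x']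
        exact inv_mem (hXK hdX ((hc.mem_K_iff_br hx'X.1).2 h5))
      all_goals
        first
          | (have hk := hc.eq_br hx'X hdX (h5.trans hdz.symm)
             rw [show x' = d * (d⁻¹ * x') by group,
               show br (d * (d⁻¹ * x')) d = d * br (d⁻¹ * x') d * d⁻¹ by unfold br; group]
             refine hc.normalU.conj_mem _ ?_ d
             rw [br_inv_swap d]
             exact inv_mem (hXK hdX hk))
          | (obtain ⟨g, hg, hgb, hgd⟩ : ∃ g ∈ X, br g b = br x' b ∧ br g d ∈ U := by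
               have hnd : br n d ∈ U := by rw [br_inv_swap d n]; exact inv_mem hkU
               have hdnb : br (d * n) b = br n b * z := by rw [hc.br_mul hdX.1 hnX.2, hdz]
               have hdnd : br (d * n) d ∈ U := by
                 rw [show br (d * n) d = d * br n d * d⁻¹ by unfold br; group]
                 exact hc.normalU.conj_mem _ hnd d
               rcases hnu with h6 | h6
               · first
                   | exact ⟨n, hnX, h6.trans h5.symm, hnd⟩
                   | exact ⟨d * n, mul_mem hdX hnX, by rw [hdnb, h6, h5], hdnd⟩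
               · first
                   | exact ⟨n, hnX, h6.trans h5.symm, hnd⟩
                   | exact ⟨d * n, mul_mem hdX hnX, by rw [hdnb, h6, h5, mul_assoc, hc.zz, mul_one], hdnd⟩
             have hk := hc.eq_br hx'X hg hgb.symm
             rw [show x' = g * (g⁻¹ * x') by group,
               show br (g * (g⁻¹ * x')) d = g * br (g⁻¹ * x') d * g⁻¹ * br g d by unfold br; group]
             refine mul_mem (hc.normalU.conj_mem _ ?_ g) hgd
             rw [br_inv_swap d]
             exact inv_mem (hXK hdX hk))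
    rw [show m * (v * (br x' d * d)) * m⁻¹ * (m * d * m⁻¹)⁻¹ = (m * v * m⁻¹) * (m * br x' d * m⁻¹) by group,
      hmU v hv, hmU _ hxd]
    exact mul_mem hv hxd
  have hd'sq : d' * d' = z := by
    rw [hd'def, show m * d * m⁻¹ * (m * d * m⁻¹) = m * (d * d) * m⁻¹ by group, hdd, hmU z hc.hz]
  have hsqU : ∀ {g v : S}, g ∈ C → v ∈ U → (v * g) * (v * g) = g * g := fun {g v} hg hv => by
    rw [show v * g * (v * g) = v * (g * v) * g by group, hc.centralU g hg v hv, ← mul_assoc, hc.sqU v hv, one_mul]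
  have hd'd : d' * d⁻¹ ∈ U := by
    rcases hfixed d' hd'X hd'fix with h5 | h5
    · exfalso
      rcases hc.fixK ((hc.mem_K_iff_br hd'X.1).2 h5) hd'fix with h6 | h6
      · rw [hc.sqU _ h6] at hd'sq
        exact hc.z1 hd'sq.symm
      · rw [show d' = d' * b * b by rw [mul_assoc, hc.bb, mul_one], hsqU hc.hbC h6, hc.bb] at hd'sq
        exact hc.z1 hd'sq.symm
    · rcases hdk d' hd'X h5 hd'fix with h6 | h6 <;> rcases hdk d hdX hdz hda with h7 | h7
      · rw [show d' * d⁻¹ = d₁ * ((d₁⁻¹ * d') * (d₁⁻¹ * d)⁻¹) * d₁⁻¹ by group]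
        exact hc.normalU.conj_mem _ (mul_mem h6 (inv_mem h7)) d₁
      · exfalso
        have h8 : d' * (d * b)⁻¹ ∈ U := by
          rw [show d' * (d * b)⁻¹ = d₁ * ((d₁⁻¹ * d') * (d₁⁻¹ * d * b)⁻¹) * d₁⁻¹ by group]
          exact hc.normalU.conj_mem _ (mul_mem h6 (inv_mem h7)) d₁
        rw [show d' = d' * (d * b)⁻¹ * (d * b) by group, hsqU (mul_mem hdX.1 hc.hbC) h8, ← hmb] at hd'sq
        exact hc.z1 (hd'sq.symm.trans hb'b')
      · exfalso
        have h8 : d' * (d * b)⁻¹ ∈ U := by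
          have h9 : d₁⁻¹ * d' * b * (d₁⁻¹ * d)⁻¹ ∈ U := mul_mem h6 (inv_mem h7)
          have h10 := hc.normalU.conj_mem _ h9 d₁
          rw [show d₁ * (d₁⁻¹ * d' * b * (d₁⁻¹ * d)⁻¹) * d₁⁻¹ = d' * (b * d⁻¹) by group] at h10
          rwa [mul_inv_rev, inv_eq_of_mul_eq_one_right hc.bb]
        rw [show d' = d' * (d * b)⁻¹ * (d * b) by group, hsqU (mul_mem hdX.1 hc.hbC) h8, ← hmb] at hd'sq
        exact hc.z1 (hd'sq.symm.trans hb'b')
      · rw [show d' * d⁻¹ = d₁ * ((d₁⁻¹ * d' * b) * (d₁⁻¹ * d * b)⁻¹) * d₁⁻¹ by group]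
        exact hc.normalU.conj_mem _ (mul_mem h6 (inv_mem h7)) d₁
  have hπd' : π d' = π d := by
    have := (hπ1 _).2 hd'd
    rwa [map_mul, map_inv, mul_inv_eq_one] at this
  have hπdd : π d * π d = 1 := by rw [← map_mul, hdd, (hπ1 z).2 hc.hz]
  -- `m²` fixes `b` modulo `U`
  have hmm : m * m ∈ X := by
    refine ⟨mul_mem hmC hmC, ?_⟩
    rw [← hπ1, ← map_br, br_eq_one, ← mul_inv_eq_iff_eq_mul, ← map_inv, ← map_mul, ← map_mul,
      show m * m * b * (m * m)⁻¹ = m * (m * b * m⁻¹) * m⁻¹ by group, hmb,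
      show m * (d * b) * m⁻¹ = d' * (m * b * m⁻¹) by rw [hd'def]; group, hmb, map_mul π d' (d * b), hπd',
      map_mul π d b, ← mul_assoc, hπdd, one_mul]
  set n' := m * n * m⁻¹ with hn'def
  have hπn' : π n' = (π n)⁻¹ := by
    have h1 : br (m * m) c ∈ U := hXK hmm hc.cK
    rw [show br (m * m) c = m * (m * c * m⁻¹) * m⁻¹ * c⁻¹ by unfold br; group, hmc,
      show m * (n * c) * m⁻¹ * c⁻¹ = n' * ((m * c * m⁻¹) * c⁻¹) by rw [hn'def]; group, hmc,
      mul_inv_cancel_right] at h1
    exact eq_inv_of_mul_eq_one_left (by rw [← map_mul]; exact (hπ1 _).2 h1)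
  have hnn2 : n * n ∈ U := by
    refine h.cent_d ((hc.mem_K_iff_br (mul_mem hnX.1 hnX.1)).2 ?_) (br_eq_one.1 ?_)
    · rw [hc.br_mul hnX.1 hnX.2, hc.sqU _ hnX.2]
    · rw [show br d (n * n) = br d n * (n * br d n * n⁻¹) by unfold br; group, ← hkdef,
        hc.centralU n hnX.1 k hkU, mul_inv_cancel_right, hc.sqU k hkU]
  have hπnn : (π n)⁻¹ = π n := inv_eq_of_mul_eq_one_right (by rw [← map_mul]; exact (hπ1 _).2 hnn2)
  rw [hπnn] at hπn'
  have hn'n : n' * n⁻¹ ∈ U := by rw [← hπ1, map_mul, map_inv, hπn', mul_inv_cancel]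
  -- `d` and `n` commute and `[n, b] = u`
  have hinv : ∀ x y x₂ y₂ : S, x ∈ C → y ∈ C → br x y ∈ U → (m * x * m⁻¹) * x₂⁻¹ ∈ U →
      (m * y * m⁻¹) * y₂⁻¹ ∈ U → x₂ ∈ C → y₂ ∈ C → br x y = br x₂ y₂ := by
    intro x y x₂ y₂ _ _ hxy hx₂ hy₂ hx₂C hy₂C
    have := hc.br_congr hx₂C hy₂C hx₂ hy₂
    rw [inv_mul_cancel_right, inv_mul_cancel_right,
      show br (m * x * m⁻¹) (m * y * m⁻¹) = m * br x y * m⁻¹ by unfold br; group, hmU _ hxy] at this
    exact this
  have hdn : d * n = n * d := by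
    have h1 := hinv n b n (d * b) hnX.1 hc.hbC hnX.2 hn'n (by rw [hmb, mul_inv_cancel]; exact one_mem _)
      hnX.1 (mul_mem hdX.1 hc.hbC)
    rw [show br n (d * b) = br n d * (d * br n b * d⁻¹) by unfold br; group, hc.centralU d hdX.1 _ hnX.2,
      mul_inv_cancel_right] at h1
    exact (br_eq_one.1 (mul_right_cancel (h1.symm.trans (one_mul _).symm))).symm
  have hbr_cb : br c b = 1 := br_eq_one.2 hc.hcb
  have hnb : br n b = u := by
    have h1 := hinv c b (n * c) (d * b) hc.hcC hc.hbC (by rw [hbr_cb]; exact one_mem _)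
      (by rw [hmc, mul_inv_cancel]; exact one_mem _) (by rw [hmb, mul_inv_cancel]; exact one_mem _)
      (mul_mem hnX.1 hc.hcC) (mul_mem hdX.1 hc.hbC)
    rw [hbr_cb, show br (n * c) (d * b) = n * (br c d * (d * br c b * d⁻¹)) * n⁻¹ * (br n d * (d * br n b * d⁻¹))
      by unfold br; group, hbr_cb, br_eq_one.2 hdn.symm, hc.centralU d hdX.1 _ hnX.2, mul_inv_cancel_right,
      mul_one, mul_inv_cancel, mul_one, one_mul, br_inv_swap d c, hdc, inv_eq_of_mul_eq_one_right hc.uu,
      hc.centralU n hnX.1 u hc.hu, mul_inv_cancel_right] at h1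
    exact mul_left_cancel (h1.symm.trans hc.uu.symm)
  -- the square of `n`
  have hnn : n * n = u ∨ n * n = u * z := by
    have hsq : (n * c) * (n * c) = c * c := by
      rw [← hmc, show m * c * m⁻¹ * (m * c * m⁻¹) = m * (c * c) * m⁻¹ by group, hmU _ h₁.ccU]
    have hcn : c * n * c⁻¹ = n⁻¹ := by
      refine eq_inv_of_mul_eq_one_right (a := n) ?_
      calc n * (c * n * c⁻¹) = (n * c * (n * c)) * (c⁻¹ * c⁻¹) := by group
        _ = 1 := by rw [hsq]; group
    set e := br c n with he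
    have hee : e = (n * n)⁻¹ := by
      rw [he]; show c * n * c⁻¹ * n⁻¹ = _
      rw [hcn, mul_inv_rev]
    have heU : e ∈ U := by rw [hee]; exact inv_mem hnn2
    rw [show n * n = e by rw [← inv_inj, ← hee, inv_eq_of_mul_eq_one_right (hc.sqU e heU)]]
    refine hc.moveU heU ?_
    obtain ⟨v, hv, hev⟩ : ∃ v ∈ U, a * n * a = v * (n * d) := ⟨_, hna, by group⟩
    rw [he, hc.aconj_br, hac, hev, hc.br_congr (mul_mem hc.hbC hc.hcC) (mul_mem hnX.1 hdX.1) hw hv,
      show br (b * c) (n * d) = b * (br c n * (n * br c d * n⁻¹)) * b⁻¹ * (br b n * (n * br b d * n⁻¹)) by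
        unfold br; group,
      br_inv_swap d c, br_inv_swap n b, br_inv_swap d b, hdc, hnb, hdz, inv_eq_of_mul_eq_one_right hc.uu,
      inv_eq_of_mul_eq_one_right hc.zz, hc.centralU n hnX.1 u hc.hu, mul_inv_cancel_right,
      hc.centralU n hnX.1 z hc.hz, mul_inv_cancel_right, hc.centralU b hc.hbC _ (mul_mem heU hc.hu),
      mul_inv_cancel_right, ← he, show e * u * (u * z) = e * (u * u) * z by group, hc.uu, mul_one]
  -- commutators of the modular centraliser
  have hdn1 : br d n ∈ U := hkU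
  have hcentX : ∀ g : S, g ∈ X → br g d ∈ U → br g n ∈ U → ∀ y ∈ X, br g y ∈ U := by
    intro g hg hgd hgn y hy
    have hmul : ∀ p q, p ∈ C → br g p ∈ U → br g q ∈ U → br g (p * q) ∈ U := fun p q hp h1 h2 => by
      rw [show br g (p * q) = br g p * (p * br g q * p⁻¹) by unfold br; group, hc.centralU p hp _ h2,
        mul_inv_cancel_right]
      exact mul_mem h1 h2
    have hcase : ∀ p : S, p ∈ X → br g p ∈ U → br y b = br p b → br g y ∈ U := fun p hp hgp he => by
      rw [show y = p * (p⁻¹ * y) by group]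
      exact hmul _ _ hp.1 hgp (hXK hg (hc.eq_br hy hp he))
    rcases hc.cases4 hy.2 with h5 | h5 | h5 | h5
    · exact hXK hg ((hc.mem_K_iff_br hy.1).2 h5)
    · exact hcase d hdX hgd (h5.trans hdz.symm)
    · exact hcase n hnX hgn (h5.trans hnb.symm)
    · exact hcase (d * n) (mul_mem hdX hnX) (hmul _ _ hdX.1 hgd hgn)
        (h5.trans (by rw [hc.br_mul hdX.1 hnX.2, hdz, hnb]))
  have hXd : ∀ y ∈ X, br d y ∈ U := hcentX d hdX (by rw [br_eq_one.2 rfl]; exact one_mem _) hkU
  have hXn : ∀ y ∈ X, br n y ∈ U := hcentX n hnX (by rw [br_inv_swap d n]; exact inv_mem hkU)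
    (by rw [br_eq_one.2 rfl]; exact one_mem _)
  have hXX : ∀ x ∈ X, ∀ y ∈ X, br x y ∈ U := fun x hx =>
    hcentX x hx (by rw [br_inv_swap d x]; exact inv_mem (hXd x hx))
      (by rw [br_inv_swap n x]; exact inv_mem (hXn x hx))
  -- the subgroup `P`
  have hdnU : n * d ∉ U := fun hc' => by
    have h5 : br (n * d) b = 1 := br_eq_one.2 (hc.centralU b hc.hbC _ hc').symm
    rw [hc.br_mul hnX.1 hdX.2, hdz, hnb] at h5
    exact hc.uz ((eq_inv_of_mul_eq_one_right h5).trans (inv_eq_of_mul_eq_one_right hc.zz))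
  have hdU : d ∉ U := fun hc' => hc.z1 (hdd.symm.trans (hc.sqU d hc'))
  have hnU : n ∉ U := fun hc' => by
    rw [hc.sqU n hc'] at hnn
    rcases hnn with h5 | h5
    · exact hc.u1 h5.symm
    · exact hc.uz ((eq_inv_of_mul_eq_one_left h5.symm).trans (inv_eq_of_mul_eq_one_right hc.zz))
  have hπd1 : π d ≠ 1 := mt (hπ1 d).1 hdU
  have hπn1 : π n ≠ 1 := mt (hπ1 n).1 hnU
  have hπnd : π n ≠ π d := fun he => hdnU ((hπ1 _).1 (by rw [map_mul, he, hπdd]))
  have hπn2 : π n * π n = 1 := by rw [← map_mul]; exact (hπ1 _).2 hnn2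
  have hπcomm : π d * π n = π n * π d := by rw [← map_mul, ← map_mul, hdn]
  obtain ⟨hP4, hPsq⟩ := Cfsg.Lib.PGroups.card_closure_pair hπdd hπn2 hπd1 hπn1 hπnd hπcomm
  set Pb : Subgroup (S ⧸ U) := Subgroup.closure {π d, π n} with hPb
  set P : Subgroup S := Pb.comap π with hPdef
  have hdP : d ∈ P := subset_closure (Set.mem_insert _ _)
  have hnP : n ∈ P := subset_closure (Set.mem_insert_of_mem _ rfl)
  have hUP : ∀ v ∈ U, v ∈ P := fun v hv => show π v ∈ Pb by rw [(hπ1 v).2 hv]; exact one_mem _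
  have hPcases : ∀ g ∈ P, g ∈ U ∨ g * d⁻¹ ∈ U ∨ g * n⁻¹ ∈ U ∨ g * (n * d)⁻¹ ∈ U := by
    intro g hg
    rcases four_cases hP4 hPsq (subset_closure (Set.mem_insert _ _))
      (subset_closure (Set.mem_insert_of_mem _ rfl)) hπd1 hπn1 hπnd hg with h5 | h5 | h5 | h5
    · exact Or.inl ((hπ1 g).1 h5)
    · right; left; rw [← hπ1, map_mul, map_inv, h5, mul_inv_cancel]
    · right; right; left; rw [← hπ1, map_mul, map_inv, h5, mul_inv_cancel]
    · right; right; right; rw [← hπ1, map_mul, map_inv, h5, map_mul, mul_inv_cancel]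
  have hPX : ∀ g ∈ P, g ∈ X := by
    intro g hg
    have hUX : ∀ v ∈ U, v ∈ X := fun v hv => hc.K_le_X (hc.U_le_K hv)
    rcases hPcases g hg with h5 | h5 | h5 | h5
    · exact hUX g h5
    · rw [show g = g * d⁻¹ * d by group]; exact mul_mem (hUX _ h5) hdX
    · rw [show g = g * n⁻¹ * n by group]; exact mul_mem (hUX _ h5) hnX
    · rw [show g = g * (n * d)⁻¹ * (n * d) by group]; exact mul_mem (hUX _ h5) (mul_mem hnX hdX)
  have hsqnd : (n * d) * (n * d) = n * n * z := by
    rw [show n * d * (n * d) = n * (d * n) * d by group, hdn, ← hdd]; group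
  -- squares separate the classes
  have hclass : ∀ g g' : S, g ∈ P → g' ∈ P → g * g = g' * g' → g * g'⁻¹ ∈ U := by
    have hval : ∀ g ∈ P, (g ∈ U ∧ g * g = 1) ∨ (g * d⁻¹ ∈ U ∧ g * g = z) ∨ (g * n⁻¹ ∈ U ∧ g * g = n * n) ∨
        (g * (n * d)⁻¹ ∈ U ∧ g * g = n * n * z) := by
      intro g hg
      rcases hPcases g hg with h5 | h5 | h5 | h5
      · exact Or.inl ⟨h5, hc.sqU g h5⟩
      · refine Or.inr (Or.inl ⟨h5, ?_⟩)
        rw [show g = g * d⁻¹ * d by group, hsqU hdX.1 h5, hdd]
      · refine Or.inr (Or.inr (Or.inl ⟨h5, ?_⟩))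
        rw [show g = g * n⁻¹ * n by group, hsqU hnX.1 h5]
      · refine Or.inr (Or.inr (Or.inr ⟨h5, ?_⟩))
        rw [show g = g * (n * d)⁻¹ * (n * d) by group, hsqU (mul_mem hnX.1 hdX.1) h5, hsqnd]
    have h1ne : n * n ≠ 1 := by
      intro h5; rw [h5] at hnn
      rcases hnn with h6 | h6
      · exact hc.u1 h6.symm
      · exact hc.uz ((eq_inv_of_mul_eq_one_left h6.symm).trans (inv_eq_of_mul_eq_one_right hc.zz))
    have h2ne : n * n ≠ z := by
      intro h5; rw [h5] at hnn
      rcases hnn with h6 | h6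
      · exact hc.uz h6.symm
      · exact hc.u1 (mul_right_cancel (h6.symm.trans (one_mul z).symm))
    have h3ne : n * n * z ≠ 1 := fun h5 => h2ne
      ((eq_inv_of_mul_eq_one_left h5).trans (inv_eq_of_mul_eq_one_right hc.zz))
    have h4ne : n * n * z ≠ z := fun h5 => h1ne (mul_right_cancel (h5.trans (one_mul z).symm))
    have h5ne : n * n * z ≠ n * n := fun h5 => hc.z1 (mul_left_cancel (h5.trans (mul_one _).symm))
    intro g g' hg hg' heq
    rcases hval g hg with ⟨a1, b1⟩ | ⟨a1, b1⟩ | ⟨a1, b1⟩ | ⟨a1, b1⟩ <;>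
      rcases hval g' hg' with ⟨a2, b2⟩ | ⟨a2, b2⟩ | ⟨a2, b2⟩ | ⟨a2, b2⟩ <;> rw [b1, b2] at heq
    all_goals first
      | exact absurd heq hc.z1
      | exact absurd heq.symm hc.z1
      | exact absurd heq h1ne
      | exact absurd heq.symm h1ne
      | exact absurd heq h2ne
      | exact absurd heq.symm h2ne
      | exact absurd heq h3ne
      | exact absurd heq.symm h3ne
      | exact absurd heq h4ne
      | exact absurd heq.symm h4ne
      | exact absurd heq h5ne
      | exact absurd heq.symm h5ne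
      | exact mul_mem a1 (inv_mem a2)
      | (have h6 := mul_mem a1 (inv_mem a2)
         rwa [mul_inv_rev, inv_inv, ← mul_assoc, inv_mul_cancel_right] at h6)
      | (have h6 := mul_mem a1 (inv_mem a2)
         rwa [show g * (n * d)⁻¹ * (g' * (n * d)⁻¹)⁻¹ = g * g'⁻¹ by group] at h6)
  have hfixP : ∀ y ∈ C, y ∈ normalizer (P : Set S) → ∀ g ∈ P, br y g ∈ U := by
    intro y hy hyN g hg
    have hg2 : g * g ∈ U := by
      rw [← hπ1, map_mul]; exact hPsq _ hg
    refine hclass _ g ((Subgroup.mem_normalizer_iff.1 hyN g).1 hg) hg ?_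
    rw [show y * g * y⁻¹ * (y * g * y⁻¹) = y * (g * g) * y⁻¹ by group, hc.centralU y hy _ hg2, mul_inv_cancel_right]
  set M : Subgroup S := C ⊓ normalizer (P : Set S) with hMdef
  have hnormP : ∀ y : S, (∀ g ∈ P, y * g * y⁻¹ ∈ P) → y ∈ normalizer (P : Set S) := by
    intro y hy
    refine Subgroup.mem_normalizer_iff.2 fun g => ⟨hy g, fun hg => ?_⟩
    have hmap : P.map (MulAut.conj y).toMonoidHom = P := by
      refine Subgroup.eq_of_le_of_card_ge ?_ (le_of_eq ?_)
      · rintro _ ⟨g', hg', rfl⟩; exact hy g' hg'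
      · exact Nat.card_congr (Subgroup.equivMapOfInjective P (MulAut.conj y).toMonoidHom (MulAut.conj y).injective).toEquiv
    rw [← hmap] at hg
    obtain ⟨g', hg', he⟩ := hg
    have : y * g' * y⁻¹ = y * g * y⁻¹ := he
    rwa [← mul_left_cancel (mul_right_cancel this)]
  have hXM : ∀ x ∈ X, x ∈ M := fun x hx => ⟨hx.1, hnormP x fun g hg => by
    rw [← br_mul_eq]; exact mul_mem (hUP _ (hXX x hx g (hPX g hg))) hg⟩
  have hmM : m ∈ M := by
    refine ⟨hmC, hnormP m fun g hg => ?_⟩
    have hmd : m * d * m⁻¹ ∈ P := by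
      have := mul_mem (hUP _ hd'd) hdP
      rwa [inv_mul_cancel_right] at this
    have hmn : m * n * m⁻¹ ∈ P := by
      have := mul_mem (hUP _ hn'n) hnP
      rwa [inv_mul_cancel_right] at this
    have hconj : ∀ v x : S, v ∈ U → m * x * m⁻¹ ∈ P → m * (v * x) * m⁻¹ ∈ P := fun v x hv hx => by
      rw [show m * (v * x) * m⁻¹ = (m * v * m⁻¹) * (m * x * m⁻¹) by group, hmU v hv]
      exact mul_mem (hUP v hv) hx
    rcases hPcases g hg with h5 | h5 | h5 | h5
    · rw [hmU g h5]; exact hUP g h5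
    · rw [show g = g * d⁻¹ * d by group]; exact hconj _ _ h5 hmd
    · rw [show g = g * n⁻¹ * n by group]; exact hconj _ _ h5 hmn
    · rw [show g = g * (n * d)⁻¹ * (n * d) by group]
      refine hconj _ _ h5 ?_
      rw [show m * (n * d) * m⁻¹ = (m * n * m⁻¹) * (m * d * m⁻¹) by group]
      exact mul_mem hmn hmd
  have haP : ∀ g ∈ P, a * g * a ∈ P := by
    have had : a * d * a ∈ P := by
      have := mul_mem (hUP _ hda) hdP
      rwa [inv_mul_cancel_right] at this
    have han : a * n * a ∈ P := by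
      have := mul_mem (hUP _ hna) (mul_mem hnP hdP)
      rwa [inv_mul_cancel_right] at this
    intro g hg
    rcases hPcases g hg with h5 | h5 | h5 | h5
    · exact hUP _ (hc.aU h5)
    · rw [show g = g * d⁻¹ * d by group, hc.aconj_mul]; exact mul_mem (hUP _ (hc.aU h5)) had
    · rw [show g = g * n⁻¹ * n by group, hc.aconj_mul]; exact mul_mem (hUP _ (hc.aU h5)) han
    · rw [show g = g * (n * d)⁻¹ * (n * d) by group, hc.aconj_mul (g * (n * d)⁻¹) (n * d), hc.aconj_mul n d]
      exact mul_mem (hUP _ (hc.aU h5)) (mul_mem han had)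
  have haNP : a ∈ normalizer (P : Set S) := hnormP a fun g hg => by rw [hc.ainv]; exact haP g hg
  have hMC : M = C := by
    by_contra hMne
    have haM : a ∈ normalizer (M : Set S) := by
      refine Subgroup.mem_normalizer_iff.2 fun x => ?_
      constructor
      · rintro ⟨hx, hx'⟩
        exact ⟨hc.normalC.conj_mem x hx a, mul_mem (mul_mem haNP hx') ((normalizer (P : Set S)).inv_mem haNP)⟩
      · rintro ⟨hx, hx'⟩
        have e : x = a⁻¹ * (a * x * a⁻¹) * a := by group
        rw [e]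
        exact ⟨by have := hc.normalC.conj_mem _ hx a⁻¹; rwa [inv_inv] at this,
          mul_mem (mul_mem ((normalizer (P : Set S)).inv_mem haNP) hx') haNP⟩
    obtain ⟨x, hxC, hxM, hxN, -⟩ := exists_fixed_outside hc.isP (inf_le_left : M ≤ C) hMne haM
    apply hxM
    refine ⟨hxC, hnormP x fun g hg => ?_⟩
    set g' := x * g * x⁻¹ with hg'def
    have hg'M : ∀ y ∈ M, br y g' ∈ U := by
      intro y hy
      have hy' : x⁻¹ * y * x ∈ M := by
        have := (Subgroup.mem_normalizer_iff.1 (inv_mem hxN) y).1 hy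
        rwa [inv_inv] at this
      have h5 := hc.normalU.conj_mem _ (hfixP _ hy'.1 hy'.2 g hg) x
      rwa [show x * br (x⁻¹ * y * x) g * x⁻¹ = br y g' by rw [hg'def]; unfold br; group] at h5
    have hg'C : g' ∈ C := mul_mem (mul_mem hxC (hPX g hg).1) (inv_mem hxC)
    have hg'X : g' ∈ X := by
      refine ⟨hg'C, ?_⟩
      rw [br_inv_swap b g']
      exact inv_mem (hg'M b (hXM b hbX))
    obtain ⟨p, hpP, hk⟩ : ∃ p ∈ P, p⁻¹ * g' ∈ K := by
      rcases hc.cases4 hg'X.2 with h5 | h5 | h5 | h5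
      · exact ⟨1, one_mem _, by rw [inv_one, one_mul]; exact (hc.mem_K_iff_br hg'C).2 h5⟩
      · exact ⟨d, hdP, hc.eq_br hg'X hdX (h5.trans hdz.symm)⟩
      · exact ⟨n, hnP, hc.eq_br hg'X hnX (h5.trans hnb.symm)⟩
      · exact ⟨d * n, mul_mem hdP hnP, hc.eq_br hg'X (mul_mem hdX hnX)
          (h5.trans (by rw [hc.br_mul hdX.1 hnX.2, hdz, hnb]))⟩
    set kk := p⁻¹ * g' with hkkdef
    have hmk : br m kk ∈ U := by
      rw [hkkdef, show br m (p⁻¹ * g') = br m p⁻¹ * (p⁻¹ * br m g' * p⁻¹⁻¹) by unfold br; group]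
      exact mul_mem (hfixP m hmC hmM.2 _ (inv_mem hpP)) (hc.normalU.conj_mem _ (hg'M m hmM) _)
    have hbrm : ∀ v r : S, v ∈ U → br m (v * r) = br m r := fun v r hv => by
      rw [show br m (v * r) = br m v * (v * br m r * v⁻¹) by unfold br; group,
        br_eq_one.2 (hc.centralU m hmC v hv), one_mul]
      have hvc : ∀ y ∈ C, v * y * v⁻¹ = y := fun y hy => by rw [← hc.centralU y hy v hv, mul_inv_cancel_right]
      by_cases hr : br m r ∈ C
      · exact hvc _ hr
      · exact (hr (by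
          have := hc.normalC.conj_mem m hmC r
          have e : br m r = m * (r * m⁻¹ * r⁻¹) := by unfold br; group
          rw [e]
          refine mul_mem hmC ?_
          have h6 := inv_mem this
          rwa [show (r * m * r⁻¹)⁻¹ = r * m⁻¹ * r⁻¹ by group] at h6)).elim
    rcases hc.casesK hk with h5 | h5 | h5 | h5
    · show g' ∈ P
      rw [show g' = p * kk by rw [hkkdef, mul_inv_cancel_left]]
      exact mul_mem hpP (hUP _ h5)
    · exfalso
      rw [show kk = kk * b * b by rw [mul_assoc, hc.bb, mul_one], hbrm _ _ h5] at hmk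
      rw [show br m b = b' * b⁻¹ from rfl, inv_eq_of_mul_eq_one_right hc.bb] at hmk
      exact hdU (hddef ▸ hmk)
    · exfalso
      rw [show kk = kk * c⁻¹ * c by group, hbrm _ _ h5] at hmk
      exact hnU hmk
    · exfalso
      rw [show kk = kk * (c * b)⁻¹ * (c * b) by group, hbrm _ _ h5,
        show br m (c * b) = br m c * (c * br m b * c⁻¹) by unfold br; group, ← hndef,
        show br m b = b' * b⁻¹ from rfl, inv_eq_of_mul_eq_one_right hc.bb] at hmk
      have h6 := (hπ1 _).2 hmk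
      simp only [map_mul, map_inv] at h6
      have h7 : π c * π d * (π c)⁻¹ = π d := by
        rw [← hπbr d c (by rw [hdc]; exact hc.hu), mul_inv_cancel_right]
      rw [show π b' * π b = π d by rw [← map_mul, hddef], h7, ← map_mul] at h6
      exact hdnU ((hπ1 _).1 h6)
  refine ⟨d, n, hc, ⟨hdX.1, hdz⟩, ⟨hnX.1, hnb⟩, hdd, hnn, hdn, hda, hna, ?_, ?_, ?_⟩
  · exact fun x hx hxb y hy hyb => hXX x ⟨hx, hxb⟩ y ⟨hy, hyb⟩
  · intro x hx
    have hxM : x ∈ M := hMC.symm ▸ hx
    exact hfixP x hx hxM.2 d hdP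
  · intro x hx
    have hxM : x ∈ M := hMC.symm ▸ hx
    exact hfixP x hx hxM.2 n hnP

namespace Layer

variable {C U : Subgroup S} {z u a b c d n : S} (h : Layer C U z u a b c d n)

include h

theorem card_X : Nat.card (modCent C U b h.chain.centralU) = 64 := by
  have hc := h.chain
  obtain ⟨R, hR, -, hmem, hcard⟩ := hc.card_split (le_refl (modCent C U b hc.centralU))
  have hzR : z ∈ R := h.hdX.2 ▸ hmem d ⟨h.hdX.1, by rw [h.hdX.2]; exact hc.hz⟩
  have huR : u ∈ R := h.hnX.2 ▸ hmem n ⟨h.hnX.1, by rw [h.hnX.2]; exact hc.hu⟩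
  have hUR : U ≤ R := fun v hv => by
    rcases hc.cases4 hv with rfl | rfl | rfl | rfl
    exacts [one_mem _, hzR, huR, mul_mem huR hzR]
  rw [inf_eq_right.2 hc.K_le_X, hc.cardK, le_antisymm hR hUR, hc.cardU] at hcard
  omega

theorem dU : d ∉ U := fun hc => h.chain.z1 (h.hdd.symm.trans (h.chain.sqU d hc))

theorem nU : n ∉ U := fun hc' => by
  have hc := h.chain
  have h5 := hc.sqU n hc'
  rcases h.hnn with h6 | h6 <;> rw [h6] at h5
  · exact hc.u1 h5
  · exact hc.uz ((eq_inv_of_mul_eq_one_left h5).trans (inv_eq_of_mul_eq_one_right hc.zz))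

theorem ndU : n * d ∉ U := fun hc' => by
  have hc := h.chain
  have h5 : br (n * d) b = 1 := br_eq_one.2 (hc.centralU b hc.hbC _ hc').symm
  rw [hc.br_mul h.hnX.1 (by rw [h.hdX.2]; exact hc.hz), h.hdX.2, h.hnX.2] at h5
  exact hc.uz ((eq_inv_of_mul_eq_one_right h5).trans (inv_eq_of_mul_eq_one_right hc.zz))

end Layer

set_option maxHeartbeats 1000000 in
/-- The bound for every chain configuration. -/
theorem chain_bound : ∀ (k : ℕ) (S : Type w) [Group S] [Finite S] (C U : Subgroup S) (z u a b c : S),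
    Nat.card S = k → Chain C U z u a b c → ChainBound U := by
  intro k
  induction k using Nat.strong_induction_on with
  | _ k ih =>
  intro S _ _ C U z u a b c hk hc
  classical
  by_cases hK : C ⊓ centralizer ({b} : Set S) = C
  · exact hc.bound_of_eq hK
  obtain ⟨c', d₁, h₁⟩ := hc.exists_chainD hK
  by_cases hX : modCent C U b h₁.chain.centralU = C
  · exact h₁.bound_of_X hX
  obtain ⟨d, n, hl⟩ := h₁.exists_layer hX
  have hc' := hl.chain
  haveI := hc'.normalU
  set π := QuotientGroup.mk' U with hπdef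
  have hker : π.ker = U := QuotientGroup.ker_mk' U
  have hπ1 : ∀ x, π x = 1 ↔ x ∈ U := fun x => QuotientGroup.eq_one_iff x
  have hsurj : Function.Surjective π := QuotientGroup.mk'_surjective U
  have hdd1 : π d * π d = 1 := by rw [← map_mul, hl.hdd, (hπ1 z).2 hc'.hz]
  have hnn1 : π n * π n = 1 := by
    rw [← map_mul, hπ1]
    rcases hl.hnn with h5 | h5 <;> rw [h5]
    exacts [hc'.hu, mul_mem hc'.hu hc'.hz]
  have hd1 : π d ≠ 1 := mt (hπ1 d).1 hl.dU
  have hn1 : π n ≠ 1 := mt (hπ1 n).1 hl.nU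
  have hnd : π n ≠ π d := fun he => hl.ndU ((hπ1 _).1 (by rw [map_mul, he, hdd1]))
  have hcomm : π d * π n = π n * π d := by rw [← map_mul, ← map_mul, hl.hdn]
  obtain ⟨hP4, hPsq⟩ := Cfsg.Lib.PGroups.card_closure_pair hdd1 hnn1 hd1 hn1 hnd hcomm
  set U' : Subgroup (S ⧸ U) := Subgroup.closure {π d, π n} with hU'
  have hdU' : π d ∈ U' := subset_closure (Set.mem_insert _ _)
  have hnU' : π n ∈ U' := subset_closure (Set.mem_insert_of_mem _ rfl)
  have hbr1 : ∀ x y, br x y ∈ U → π x * π y = π y * π x := fun x y hxy =>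
    br_eq_one.1 (by rw [map_br, (hπ1 _).2 hxy])
  have hchain : Chain (C.map π) U' (π d) (π n) (π a) (π b) (π c') := by
    have hcentral : ∀ x ∈ C, ∀ v ∈ U', π x * v = v * π x := by
      intro x hx v hv
      have hle : U' ≤ centralizer ({π x} : Set (S ⧸ U)) := by
        rw [hU', closure_le]
        rintro _ (rfl | rfl)
        · exact mem_centralizer_singleton_iff.2 (hbr1 x d (hl.hCd x hx)).symm
        · exact mem_centralizer_singleton_iff.2 (hbr1 x n (hl.hCn x hx)).symm
      exact (mem_centralizer_singleton_iff.1 (hle hv)).symm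
    have hKeq : C.map π ⊓ centralizer ({π b} : Set (S ⧸ U)) = (modCent C U b hc'.centralU).map π := by
      ext q
      constructor
      · rintro ⟨⟨x, hx, rfl⟩, hq⟩
        refine ⟨x, ⟨hx, ?_⟩, rfl⟩
        rw [← hπ1, ← map_br, br_eq_one]
        exact mem_centralizer_singleton_iff.1 hq
      · rintro ⟨x, hx, rfl⟩
        exact ⟨mem_map_of_mem π hx.1, mem_centralizer_singleton_iff.2 (hbr1 x b hx.2)⟩
    refine
      { isP := hc'.isP.to_quotient U
        index := by rw [Subgroup.index_map_eq _ hsurj (by rw [hker]; exact hc'.leU), hc'.index]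
        cardU := hP4
        sqU := hPsq
        leU := ?_
        centralU := fun q hq v hv => by obtain ⟨x, hx, rfl⟩ := hq; exact hcentral x hx v hv
        hz := hdU'
        hu := hnU'
        z1 := hd1
        u1 := hn1
        uz := hnd
        zc := ?_
        haC := ?_
        aa := by rw [← map_mul, hc'.aa, map_one]
        hau := ?_
        hbC := mem_map_of_mem π hc'.hbC
        bb := by rw [← map_mul, hc'.bb, map_one]
        hbU := ?_
        hab := by rw [← map_mul, ← map_mul, hc'.hab]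
        hcC := mem_map_of_mem π hc'.hcC
        hcb := by rw [← map_mul, hc'.hcb, map_mul]
        hcmove := ?_
        cardK := ?_
        commK := ?_ }
    · rw [hU', closure_le]
      rintro _ (rfl | rfl)
      exacts [mem_map_of_mem π hl.hdX.1, mem_map_of_mem π hl.hnX.1]
    · refine mem_center_iff.2 fun q => ?_
      obtain ⟨s, rfl⟩ := hsurj q
      have had : π a * π d * π a = π d := by
        rw [← map_mul, ← map_mul]
        have h5 := (hπ1 _).2 hl.hda
        rwa [map_mul, map_inv, mul_inv_eq_one] at h5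
      have haa : π a * π a = 1 := by rw [← map_mul, hc'.aa, map_one]
      have had' : π a * π d = π d * π a := by
        calc π a * π d = (π a * π d * π a) * π a := by rw [mul_assoc _ (π a) (π a), haa, mul_one]
          _ = π d * π a := by rw [had]
      rcases hc'.mem_or s with hs | hs
      · exact hcentral s hs _ hdU'
      · have h5 := hcentral _ hs _ hdU'
        rw [map_mul, mul_assoc, had', ← mul_assoc, ← mul_assoc] at h5
        exact mul_right_cancel h5
    · intro hm
      obtain ⟨x, hx, he⟩ := hm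
      refine hc'.haC ?_
      have h5 : x⁻¹ * a ∈ U := QuotientGroup.eq.1 he
      have := mul_mem hx (hc'.leU h5)
      rwa [mul_inv_cancel_left] at this
    · rw [← map_mul, ← map_mul, ← map_mul]
      have h5 := (hπ1 _).2 hl.hna
      rwa [map_mul, map_inv, mul_inv_eq_one] at h5
    · intro hb
      have hv : br (π d) (π b) = 1 := br_eq_one.2 (hcentral b hc'.hbC _ hdU').symm
      rcases four_cases hP4 hPsq hdU' hnU' hd1 hn1 hnd hb with h5 | h5 | h5 | h5
      · exact hc'.hbU ((hπ1 b).1 h5)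
      all_goals
        have hbd : br n b = u := hl.hnX.2
        have hbz : br d b = z := hl.hdX.2
      · obtain ⟨v, hv', hev⟩ : ∃ v ∈ U, b = v * d :=
          ⟨b * d⁻¹, by rw [← hπ1, map_mul, map_inv, h5, mul_inv_cancel], by group⟩
        rw [hev] at hbz
        have := hc'.br_congr hl.hdX.1 hl.hdX.1 (one_mem U) hv'
        rw [one_mul, hbz, br_eq_one.2 rfl] at this
        exact hc'.z1 this
      · obtain ⟨v, hv', hev⟩ : ∃ v ∈ U, b = v * n :=
          ⟨b * n⁻¹, by rw [← hπ1, map_mul, map_inv, h5, mul_inv_cancel], by group⟩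
        rw [hev] at hbd
        have := hc'.br_congr hl.hnX.1 hl.hnX.1 (one_mem U) hv'
        rw [one_mul, hbd, br_eq_one.2 rfl] at this
        exact hc'.u1 this
      · obtain ⟨v, hv', hev⟩ : ∃ v ∈ U, b = v * (n * d) :=
          ⟨b * (n * d)⁻¹, by rw [← hπ1, map_mul, map_inv, h5, map_mul, mul_inv_cancel], by group⟩
        rw [hev] at hbz
        have := hc'.br_congr hl.hdX.1 (mul_mem hl.hnX.1 hl.hdX.1) (one_mem U) hv'
        rw [one_mul, hbz, show br d (n * d) = br d n * (n * br d d * n⁻¹) by unfold br; group,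
          br_eq_one.2 hl.hdn, br_eq_one.2 (rfl : d * d = d * d)] at this
        simp at this
        exact hc'.z1 this
    · rw [← map_inv, ← map_inv, ← map_mul, ← map_mul, ← map_mul, ← map_mul,
        (hπ1 _).2 hc'.hcmove]
      exact one_mem _
    · rw [hKeq]
      have h5 := card_map_mul π (modCent C U b hc'.centralU)
      rw [hker, inf_eq_right.2 (show U ≤ modCent C U b hc'.centralU from
        fun v hv => hc'.K_le_X (hc'.U_le_K hv)), hl.card_X, hc'.cardU] at h5
      omega
    · intro q hq q' hq'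
      rw [hKeq] at hq hq'
      obtain ⟨x, hx, rfl⟩ := hq
      obtain ⟨y, hy, rfl⟩ := hq'
      exact hbr1 x y (hl.hXU x hx.1 hx.2 y hy.1 hy.2)
  have hlt : Nat.card (S ⧸ U) < k := by
    rw [← hk, Subgroup.card_eq_card_quotient_mul_card_subgroup U, hc'.cardU]
    have : 0 < Nat.card (S ⧸ U) := Nat.card_pos
    omega
  have hIH := ih _ hlt (S ⧸ U) _ _ _ _ _ _ _ rfl hchain
  intro H N hN
  obtain ⟨g1, g2, g3⟩ := hIH (H.map π) (N.map π) (hN.map π)
  have hr4 : Nat.card ↥(H ⊓ U) ≤ 4 := hc'.cardU ▸ card_le_of_le inf_le_right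
  have hr2 : ¬ U ≤ H → Nat.card ↥(H ⊓ U) ≤ 2 := fun hU => by
    have := two_mul_card_le (inf_le_right : H ⊓ U ≤ U) (fun e => hU (e ▸ inf_le_left))
    rw [hc'.cardU] at this
    omega
  have hN1 : 1 ≤ Nat.card ↥(N ⊓ U) := Nat.card_pos
  have hCc : ∀ x : S, π x ∈ U' → x ∈ C := by
    intro x hx
    have h5 : π x ∈ C.map π := hchain.leU hx
    obtain ⟨y, hy, he⟩ := h5
    have h6 : y⁻¹ * x ∈ U := QuotientGroup.eq.1 he
    have := mul_mem hy (hc'.leU h6)
    rwa [mul_inv_cancel_left] at this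
  have hsq : ∀ x ∈ H, ∀ g : S, g ∈ C → π x = π g → g * g ∈ N := fun x hx g hg he => by
    have h6 : x * g⁻¹ ∈ U := by rw [← hπ1, map_mul, map_inv, he, mul_inv_cancel]
    have h7 : (x * g⁻¹ * g) * (x * g⁻¹ * g) = g * g := by
      rw [show x * g⁻¹ * g * (x * g⁻¹ * g) = (x * g⁻¹) * (g * (x * g⁻¹)) * g by group,
        hc'.centralU g hg _ h6, ← mul_assoc, hc'.sqU _ h6, one_mul]
    rw [← h7, inv_mul_cancel_right]
    exact hN.sq hx
  by_cases hfull : U' ≤ H.map π
  · obtain ⟨x, hx, hxd⟩ := hfull hdU'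
    obtain ⟨y, hy, hyn⟩ := hfull hnU'
    have hzN : z ∈ N := hl.hdd ▸ hsq x hx d hl.hdX.1 hxd
    have hnnN : n * n ∈ N := hsq y hy n hl.hnX.1 hyn
    have hUN : U ≤ N := by
      have huN : u ∈ N := by
        rcases hl.hnn with h5 | h5
        · exact h5 ▸ hnnN
        · have := mul_mem hnnN hzN
          rwa [h5, mul_assoc, hc'.zz, mul_one] at this
      intro v hv
      rcases hc'.cases4 hv with rfl | rfl | rfl | rfl
      exacts [one_mem _, hzN, huN, mul_mem huN hzN]
    have hUH : U ≤ H := hUN.trans hN.le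
    refine ⟨fun h5 => ?_, fun h5 => absurd hUH h5, ?_⟩
    · rw [inf_eq_right.2 hUH] at h5
      have h6 := hc'.cardU
      rw [h5, Subgroup.card_bot] at h6
      omega
    · refine (card_bound π 16 1 g3 ?_).trans (le_of_eq rfl)
      rw [hker, one_mul, inf_eq_right.2 hUH, inf_eq_right.2 hUN]
  have g2' := g2 hfull
  by_cases hmeet : H.map π ⊓ U' = ⊥
  · have g1' := g1 hmeet
    refine ⟨fun h5 => ?_, fun h5 => ?_, ?_⟩
    · refine (card_bound π 4 1 g1' ?_).trans (le_of_eq rfl)
      rw [hker, h5, Subgroup.card_bot]; omega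
    · refine (card_bound π 4 2 g1' ?_).trans (le_of_eq rfl)
      rw [hker]
      exact (hr2 h5).trans (Nat.le_mul_of_pos_right _ hN1)
    · refine (card_bound π 4 4 g1' ?_).trans (le_of_eq rfl)
      rw [hker]
      exact hr4.trans (Nat.le_mul_of_pos_right _ hN1)
  -- an element of `H` over a nontrivial element of `U'`
  obtain ⟨q, hq, hq1⟩ : ∃ q ∈ H.map π ⊓ U', q ≠ 1 := by
    by_contra hne
    push Not at hne
    exact hmeet ((Subgroup.eq_bot_iff_forall _).2 hne)
  obtain ⟨x, hx, rfl⟩ := hq.1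
  have hxU : ∃ v ∈ N ⊓ U, v ≠ 1 := by
    have key : ∀ g : S, g ∈ C → π x = π g → g * g ∈ U → g * g ≠ 1 → ∃ v ∈ N ⊓ U, v ≠ 1 :=
      fun g hg he h6 h7 => ⟨g * g, ⟨hsq x hx g hg he, h6⟩, h7⟩
    rcases four_cases hP4 hPsq hdU' hnU' hd1 hn1 hnd hq.2 with h5 | h5 | h5 | h5
    · exact absurd h5 hq1
    · exact key d hl.hdX.1 h5 (hl.hdd ▸ hc'.hz) (hl.hdd ▸ hc'.z1)
    · refine key n hl.hnX.1 h5 (by rw [← hπ1, map_mul]; exact hnn1) ?_
      intro h6
      rcases hl.hnn with h7 | h7 <;> rw [h7] at h6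
      · exact hc'.u1 h6
      · exact hc'.uz ((eq_inv_of_mul_eq_one_left h6).trans (inv_eq_of_mul_eq_one_right hc'.zz))
    · have hsqnd : (n * d) * (n * d) = n * n * z := by
        rw [show n * d * (n * d) = n * (d * n) * d by group, hl.hdn, ← hl.hdd]; group
      refine key (n * d) (mul_mem hl.hnX.1 hl.hdX.1) (by rw [h5, map_mul]) ?_ ?_
      · rw [hsqnd]
        rcases hl.hnn with h7 | h7 <;> rw [h7]
        exacts [mul_mem hc'.hu hc'.hz, mul_mem (mul_mem hc'.hu hc'.hz) hc'.hz]
      · rw [hsqnd]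
        intro h6
        rcases hl.hnn with h7 | h7 <;> rw [h7] at h6
        · exact hc'.uz ((eq_inv_of_mul_eq_one_left h6).trans (inv_eq_of_mul_eq_one_right hc'.zz))
        · rw [mul_assoc, hc'.zz, mul_one] at h6
          exact hc'.u1 h6
  obtain ⟨v, hv, hv1⟩ := hxU
  have hN2 : 2 ≤ Nat.card ↥(N ⊓ U) := by
    by_contra hc2
    have h5 : N ⊓ U = ⊥ := Subgroup.card_eq_one.1 (by omega)
    rw [h5, mem_bot] at hv
    exact hv1 hv
  have hHU : 2 ≤ Nat.card ↥(H ⊓ U) := hN2.trans (card_le_of_le (inf_le_inf_right U hN.le))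
  refine ⟨fun h5 => ?_, fun h5 => ?_, ?_⟩
  · rw [h5, Subgroup.card_bot] at hHU; omega
  · refine (card_bound π 8 1 g2' ?_).trans (le_of_eq rfl)
    rw [hker, one_mul]
    exact (hr2 h5).trans hN2
  · refine (card_bound π 8 2 g2' ?_).trans (le_of_eq rfl)
    rw [hker]
    omega

end Cfsg.Lib.SelfCentEight
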