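/-
Harada's lemma: a 2-group with a self-centralising elementary abelian subgroup of order eight
has sectional rank at most four.
-/
import Cfsg.Agent.TwoFusion.EightChainStep

set_option autoImplicit false
set_option linter.style.haveILetI false
set_option linter.unusedSectionVars false

namespace Cfsg.Lib.SelfCentEight

open Subgroup
open scoped commutatorElement

universe w

variable {S : Type w} [Group S] [Finite S]

theorem bound_main (hS : IsPGroup 2 S) (A : Subgroup S) (hA8 : Nat.card A = 8) (hA2 : ∀ x ∈ A, x * x = 1)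
    (hAC : ∀ s : S, (∀ x ∈ A, s * x = x * s) → s ∈ A) : Bound S := by
  classical
  haveI := Fact.mk Nat.prime_two
  have hcA : center S ≤ A := fun x hx => hAC x fun y _ => (mem_center_iff.1 hx y).symm
  -- a central four group
  by_cases hZ : 4 ≤ Nat.card (center S)
  · obtain ⟨k, hk⟩ := card_pow hS (center S)
    have hdvd : 2 ^ 2 ∣ Nat.card (center S) := by
      rw [hk] at hZ ⊢
      refine pow_dvd_pow 2 ?_
      by_contra hc
      have : 2 ^ k ≤ 2 ^ 1 := Nat.pow_le_pow_right two_pos (by omega)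
      omega
    obtain ⟨V, hV⟩ := Sylow.exists_subgroup_card_pow_prime 2 hdvd
    set U := V.map (center S).subtype with hU
    have hUc : U ≤ center S := map_subtype_le V
    haveI : U.Normal := ⟨fun v hv g => by
      rw [mem_center_iff.1 (hUc hv) g, mul_inv_cancel_right]; exact hv⟩
    refine bound_of_normal_four_le hS U A ?_ (hUc.trans hcA) hA8 hA2 hAC
    rw [hU, ← Nat.card_congr (Subgroup.equivMapOfInjective V _ Subtype.val_injective).toEquiv, hV]
    norm_num
  by_cases hN : ∃ V : Subgroup S, V.Normal ∧ Nat.card V = 4 ∧ V ≤ A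
  · obtain ⟨V, hVn, hV4, hVA⟩ := hN
    exact bound_of_normal_four_le hS V A hV4 hVA hA8 hA2 hAC
  push Not at hN
  obtain ⟨U, hUn, hUK⟩ := Cfsg.Lib.PGroups.exists_normal_four hS A hA8 hA2
  haveI := hUn
  have hU4 : Nat.card U = 4 := IsKleinFour.card_four
  have hU2 : ∀ v ∈ U, v * v = 1 := fun v hv =>
    congrArg Subtype.val (IsKleinFour.mul_self (⟨v, hv⟩ : U))
  obtain ⟨z, hzU, hzc, hzo⟩ := Cfsg.Lib.PGroups.exists_mem_center_of_normal_ne_bot hS (N := U)
    (fun h => by rw [h, card_bot] at hU4; omega)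
  have hz1 : z ≠ 1 := fun h => by rw [h, orderOf_one] at hzo; omega
  have hzz : z * z = 1 := hU2 z hzU
  obtain ⟨u, huU, hu1, huz⟩ : ∃ u ∈ U, u ≠ 1 ∧ u ≠ z := by
    by_contra hc
    push Not at hc
    have hle : U ≤ zpowers z := fun v hv => by
      rcases eq_or_ne v 1 with rfl | hv1
      · exact one_mem _
      · rw [hc v hv hv1]; exact mem_zpowers z
    have := card_le_of_le hle
    rw [Nat.card_zpowers, hzo, hU4] at this
    omega
  have huu : u * u = 1 := hU2 u huU
  have hucases : ∀ v ∈ U, v = 1 ∨ v = z ∨ v = u ∨ v = u * z := fun v hv =>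
    four_cases hU4 hU2 hzU huU hz1 hu1 huz hv
  set C : Subgroup S := centralizer (U : Set S) with hCdef
  have hCmem : ∀ s : S, s * u = u * s → s ∈ C := fun s hs => mem_centralizer_iff.2 fun v hv => by
    have hsz : z * s = s * z := (mem_center_iff.1 hzc s).symm
    rcases hucases v hv with rfl | rfl | rfl | rfl
    · simp
    · exact hsz
    · exact hs.symm
    · rw [mul_assoc, hsz, ← mul_assoc, ← hs, mul_assoc]
  have hCU : ∀ x ∈ C, ∀ v ∈ U, x * v = v * x := fun x hx v hv => (mem_centralizer_iff.1 hx v hv).symm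
  have hout : ∀ s : S, s ∉ C → s * u * s⁻¹ = u * z := fun s hs => by
    rcases hucases _ (hUn.conj_mem u huU s) with h | h | h | h
    · exact absurd (conj_eq_one_iff.1 h) hu1
    · refine absurd ?_ huz
      rw [mul_inv_eq_iff_eq_mul, ← mem_center_iff.1 hzc s] at h
      exact mul_left_cancel h
    · exact absurd (hCmem s (mul_inv_eq_iff_eq_mul.1 h)) hs
    · exact h
  have hCA : ¬ A ≤ C := fun hle => by
    have hUA : U ≤ A := fun v hv => hAC v fun x hx => (hCU x (hle hx) v hv).symm
    exact hN U hUn hU4 hUA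
  obtain ⟨a, haA, haC⟩ := SetLike.not_le_iff_exists.1 hCA
  have haa : a * a = 1 := hA2 a haA
  have hainv : a⁻¹ = a := inv_eq_of_mul_eq_one_right haa
  have hau : a * u * a = u * z := by
    have := hout a haC
    rwa [hainv] at this
  have hprod : ∀ s t : S, s ∉ C → t ∉ C → s⁻¹ * t ∈ C := fun s t hs ht => by
    refine hCmem _ (mul_inv_eq_iff_eq_mul.1 ?_)
    calc s⁻¹ * t * u * (s⁻¹ * t)⁻¹ = s⁻¹ * (t * u * t⁻¹) * s := by group
      _ = s⁻¹ * (s * u * s⁻¹) * s := by rw [hout t ht, hout s hs]
      _ = u := by group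
  have hindex : C.index = 2 := by
    refine Subgroup.index_eq_two_iff.2 ⟨a, fun s => ?_⟩
    by_cases hs : s ∈ C
    · refine Or.inr ⟨hs, fun hc => haC ?_⟩
      exact (mul_mem_cancel_left hs).1 hc
    · refine Or.inl ⟨?_, hs⟩
      have := hprod s⁻¹ a (fun hc => hs (by simpa using C.inv_mem hc)) haC
      rwa [inv_inv] at this
  haveI hCn : C.Normal := Subgroup.normal_of_index_eq_two hindex
  set A₀ : Subgroup S := A ⊓ C with hA0def
  have hA0 : Nat.card A₀ = 4 := by
    have h1 := card_le_two_mul_inf hindex.le A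
    have h2 := two_mul_card_le_of_not_mem (inf_le_left : A ⊓ C ≤ A) haA (fun hc => haC hc.2)
    rw [hA8] at h1 h2
    rw [← hA0def] at h1 h2
    omega
  have hA02 : ∀ x ∈ A₀, x * x = 1 := fun x hx => hA2 x hx.1
  have hzA0 : z ∈ A₀ := ⟨hcA hzc, mem_centralizer_iff.2 fun v _ => (mem_center_iff.1 hzc v)⟩
  obtain ⟨b, hb, hb1, hbz⟩ : ∃ b ∈ A₀, b ≠ 1 ∧ b ≠ z := by
    by_contra hc
    push Not at hc
    have hle : A₀ ≤ zpowers z := fun v hv => by
      rcases eq_or_ne v 1 with rfl | hv1
      · exact one_mem _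
      · rw [hc v hv hv1]; exact mem_zpowers z
    have := card_le_of_le hle
    rw [Nat.card_zpowers, hzo, hA0] at this
    omega
  have hbcases : ∀ v ∈ A₀, v = 1 ∨ v = z ∨ v = b ∨ v = b * z := fun v hv =>
    four_cases hA0 hA02 hzA0 hb hz1 hb1 hbz hv
  have hbU : b ∉ U := fun hbU => by
    refine hN U hUn hU4 fun v hv => ?_
    rcases four_cases hU4 hU2 hzU hbU hz1 hb1 hbz hv with rfl | rfl | rfl | rfl
    exacts [one_mem _, hcA hzc, hb.1, mul_mem hb.1 (hcA hzc)]
  set W : Subgroup S := centralizer (A₀ : Set S) with hWdef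
  have hWmem : ∀ s : S, s * b = b * s → s ∈ W := fun s hs => mem_centralizer_iff.2 fun v hv => by
    have hsz : z * s = s * z := (mem_center_iff.1 hzc s).symm
    rcases hbcases v hv with rfl | rfl | rfl | rfl
    · simp
    · exact hsz
    · exact hs.symm
    · rw [mul_assoc, hsz, ← mul_assoc, ← hs, mul_assoc]
  have hAW : A ≤ W := fun x hx => mem_centralizer_iff.2 fun v hv => comm_of_sq_one hA2 hv.1 hx
  have hcf : CentreFour W A A₀ := ⟨hS, inf_le_left, hAW, hA8, hA0, hA2,
    fun w hw v hv => (mem_centralizer_iff.1 hw v hv).symm, fun w _ hw => hAC w hw⟩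
  have haA0 : a ∉ A₀ := fun hc => haC hc.2
  have huW : u ∈ W := hWmem u (hCU b hb.2 u huU).symm
  set R : Subgroup S := ⁅W, W⁆ with hRdef
  have hzR : z ∈ R := by
    have h1 : ⁅a, u⁆ ∈ R := commutator_mem_commutator (hAW haA) huW
    rwa [commutatorElement_def, hainv, hau, show u * z * u⁻¹ = z by
      rw [mem_center_iff.1 hzc u]; group] at h1
  have hRC : R ≤ C := by
    refine Subgroup.commutator_le.2 fun g _ h _ => ?_
    rw [commutatorElement_def, Subgroup.mul_mem_iff_of_index_two hindex, Subgroup.mul_mem_iff_of_index_two hindex,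
      Subgroup.mul_mem_iff_of_index_two hindex, inv_mem_iff, inv_mem_iff]
    tauto
  have hroot : ∀ r ∈ R, r * r ≠ z := by
    intro r hr hrr
    have h1 : a * (u * r) * a = u * r := by
      have h2 := hcf.inv haA haA0 hr
      rw [hainv] at h2
      rw [show a * (u * r) * a = (a * u * a) * (a * r * a) by
        rw [show a * u * a * (a * r * a) = a * u * (a * a) * r * a by group, haa]; group, hau, h2, ← hrr]
      group
    have h3 : u * r ∈ A := hcf.cent haA haA0 (mul_mem huW (hcf.comm_le hr)) (by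
      calc u * r * a = a * (u * r) * a * a := by rw [h1]
        _ = a * (u * r) := by rw [mul_assoc _ a a, haa, mul_one])
    have h4 : u * r ∈ A₀ := ⟨h3, mul_mem (hCmem u rfl) (hRC hr)⟩
    have h5 := hcf.central _ (hcf.comm_le hr) _ h4
    have h6 : u * r = r * u := mul_right_cancel (h5.symm.trans (mul_assoc r u r).symm)
    have h7 := hA02 _ h4
    rw [show u * r * (u * r) = u * (r * u) * r by group, ← h6, ← mul_assoc u u r, huu, one_mul, hrr] at h7
    exact hz1 h7
  have hsqR : ∀ r ∈ R, r * r = 1 := by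
    intro r hr
    by_contra hne
    -- an involution of `R` which is a square
    obtain ⟨v, s, hs, rfl, hv1, hv2⟩ : ∃ v s : S, s ∈ R ∧ s * s = v ∧ v ≠ 1 ∧ v * v = 1 := by
      obtain ⟨k, hk⟩ := hS r
      have hex : ∃ k, r ^ 2 ^ k = 1 := ⟨k, hk⟩
      have h1 := Nat.find_spec hex
      have h2 : 2 ≤ Nat.find hex := by
        by_contra hc
        have h3 : r ^ 2 ^ 1 = 1 := orderOf_dvd_iff_pow_eq_one.1
          ((orderOf_dvd_of_pow_eq_one h1).trans (pow_dvd_pow 2 (by omega)))
        rw [pow_one, pow_two] at h3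
        exact hne h3
      refine ⟨_, r ^ 2 ^ (Nat.find hex - 2), pow_mem hr _, rfl, ?_, ?_⟩
      · rw [← pow_add, ← two_mul, ← pow_succ']
        have := Nat.find_min hex (show Nat.find hex - 2 + 1 < Nat.find hex by omega)
        exact this
      · rw [← pow_add, ← two_mul, ← pow_succ', ← pow_add, ← two_mul, ← pow_succ']
        rw [show Nat.find hex - 2 + 1 + 1 = Nat.find hex by omega]
        exact h1
    have hvR : s * s ∈ R := mul_mem hs hs
    have hvA : s * s ∈ A := (hcf.mem_iff hvR).1 hv2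
    have hvz : s * s ≠ z := hroot s hs
    have hzA : z ∈ A := hcA hzc
    have h4 : 4 ≤ Nat.card ↥(R ⊓ A) := by
      have h1 := two_mul_card_le_of_not_mem (H := zpowers z) (K := R ⊓ A) (zpowers_le.2 (⟨hzR, hzA⟩ : z ∈ R ⊓ A))
        (x := s * s) (⟨hvR, hvA⟩ : s * s ∈ R ⊓ A)
        (fun hc => by
          obtain ⟨i, hi⟩ := mem_zpowers_iff.1 hc
          have hz2 : z ^ (2 : ℤ) = 1 := by rw [zpow_two]; exact hzz
          rcases Int.even_or_odd i with ⟨l, rfl⟩ | ⟨l, rfl⟩
          · rw [← two_mul, zpow_mul, hz2, one_zpow] at hi; exact hv1 hi.symm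
          · rw [zpow_add, zpow_mul, hz2, one_zpow, one_mul, zpow_one] at hi; exact hvz hi.symm)
      rw [Nat.card_zpowers, hzo] at h1
      exact h1
    have hΩ : R ⊓ A = A₀ := hcf.omega_eq h4
    have hv0 : s * s ∈ A₀ := hΩ ▸ (⟨hvR, hvA⟩ : s * s ∈ R ⊓ A)
    -- the normaliser of `W` centralises `A₀`
    have hNW : normalizer (W : Set S) ≤ W := by
      intro g hg
      have hgW : ∀ x ∈ W, g * x * g⁻¹ ∈ W := fun x hx => (Subgroup.mem_normalizer_iff.1 hg x).1 hx
      have hgR : ∀ x ∈ R, g * x * g⁻¹ ∈ R := by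
        have h5 : R ≤ R.comap (MulAut.conj g).toMonoidHom := by
          refine Subgroup.commutator_le.2 fun x hx y hy => ?_
          show g * ⁅x, y⁆ * g⁻¹ ∈ R
          rw [show g * ⁅x, y⁆ * g⁻¹ = ⁅g * x * g⁻¹, g * y * g⁻¹⁆ by
            rw [commutatorElement_def, commutatorElement_def]; group]
          exact commutator_mem_commutator (hgW x hx) (hgW y hy)
        exact fun x hx => h5 hx
      set s' := g * s * g⁻¹ with hs'
      have hs'R : s' ∈ R := hgR s hs
      have hsq' : s' * s' = g * (s * s) * g⁻¹ := by rw [hs']; group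
      have hm : s' * s' ∈ A₀ := by
        rw [← hΩ]
        refine ⟨mul_mem hs'R hs'R, (hcf.mem_iff (mul_mem hs'R hs'R)).1 ?_⟩
        rw [hsq', show g * (s * s) * g⁻¹ * (g * (s * s) * g⁻¹) = g * (s * s * (s * s)) * g⁻¹ by group, hv2]; group
      have hne1 : s' * s' ≠ 1 := by rw [hsq']; exact fun h => hv1 (conj_eq_one_iff.1 h)
      have hfix : g * (s * s) = (s * s) * g := by
        rcases four_cases hA0 hA02 hzA0 hv0 hz1 hv1 hvz hm with h | h | h | h
        · exact absurd h hne1
        · exact absurd h (hroot s' hs'R)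
        · exact mul_inv_eq_iff_eq_mul.1 (hsq'.symm.trans h)
        · exfalso
          refine hroot (s * s') (mul_mem hs hs'R) ?_
          rw [show s * s' * (s * s') = s * (s' * s) * s' by group, hcf.commR hs'R hs,
            show s * (s * s') * s' = s * s * (s' * s') by group, h, ← mul_assoc, hv2, one_mul]
      refine mem_centralizer_iff.2 fun x hx => ?_
      have hgz : g * z = z * g := mem_center_iff.1 hzc g
      rcases four_cases hA0 hA02 hzA0 hv0 hz1 hv1 hvz hx with rfl | rfl | rfl | rfl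
      · simp
      · exact hgz.symm
      · exact hfix.symm
      · rw [mul_assoc, ← hgz, ← mul_assoc, ← hfix, mul_assoc]
    have hWtop : W = ⊤ := by
      by_contra hne'
      haveI : Group.IsNilpotent S := hS.isNilpotent
      have h1 := Group.normalizerCondition_of_isNilpotent W (lt_top_iff_ne_top.2 hne')
      exact (lt_irrefl W) (lt_of_lt_of_le h1 hNW)
    have hA0c : A₀ ≤ center S := fun x hx => mem_center_iff.2 fun g =>
      (mem_centralizer_iff.1 (show g ∈ W from hWtop ▸ mem_top g) x hx).symm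
    have := card_le_of_le hA0c
    omega
  have hRA : R ≤ A := fun r hr => (hcf.mem_iff hr).1 (hsqR r hr)
  have hR4 : Nat.card R ≤ 4 := by
    have := hcf.card_inf_le
    rwa [← hRdef, inf_eq_left.2 hRA] at this
  have hW : Nat.card W = 8 * Nat.card R := hcf.card_eq
  set K : Subgroup S := W ⊓ C with hKdef
  have hKW : Nat.card W = 2 * Nat.card K := by
    have h1 := card_le_two_mul_inf hindex.le W
    have h2 := two_mul_card_le_of_not_mem (inf_le_left : W ⊓ C ≤ W) (hAW haA) (fun hc => haC hc.2)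
    rw [← hKdef] at h1 h2
    omega
  have hKeq : C ⊓ centralizer ({b} : Set S) = K := by
    ext x
    constructor
    · rintro ⟨h1, h2⟩
      exact ⟨hWmem x (mem_centralizer_singleton_iff.1 h2), h1⟩
    · rintro ⟨h1, h2⟩
      exact ⟨h2, mem_centralizer_singleton_iff.2 (mem_centralizer_iff.1 h1 b hb).symm⟩
  set B : Subgroup S := A₀ ⊔ U with hBdef
  have hA0C : A₀ ≤ C := inf_le_right
  have hBform : ∀ x ∈ B, ∃ p ∈ A₀, ∃ q ∈ U, p * q = x := fun x hx => Subgroup.mem_sup_of_normal_right.1 hx
  have hBK : B ≤ K := sup_le (le_inf ((inf_le_left : A₀ ≤ A).trans hAW) hA0C) (fun v hv =>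
    ⟨hWmem v (hCU b hb.2 v hv).symm, mem_centralizer_iff.2 fun w hw => comm_of_sq_one hU2 hw hv⟩)
  have hB2 : ∀ x ∈ B, x * x = 1 := by
    intro x hx
    obtain ⟨p, hp, q, hq, rfl⟩ := hBform x hx
    rw [show p * q * (p * q) = p * (q * p) * q by group, ← hCU p (hA0C hp) q hq,
      show p * (p * q) * q = (p * p) * (q * q) by group, hA02 p hp, hU2 q hq, one_mul]
  have hB8 : Nat.card B = 8 := by
    have h1 := card_map_mul (QuotientGroup.mk' U) A₀
    have h2 := card_map_mul (QuotientGroup.mk' U) B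
    rw [QuotientGroup.ker_mk'] at h1 h2
    rw [hBdef, Subgroup.map_sup, show U.map (QuotientGroup.mk' U) = ⊥ by
      rw [Subgroup.map_eq_bot_iff, QuotientGroup.ker_mk'], sup_bot_eq, ← hBdef,
      inf_eq_right.2 (le_sup_right : U ≤ B), hU4] at h2
    have h3 : Nat.card ↥(A₀ ⊓ U) = 2 := by
      have h4 := two_mul_card_le_of_not_mem (inf_le_left : A₀ ⊓ U ≤ A₀) hb (fun hc => hbU hc.2)
      have h5 : zpowers z ≤ A₀ ⊓ U := zpowers_le.2 ⟨hzA0, hzU⟩
      have h6 := card_le_of_le h5
      rw [Nat.card_zpowers, hzo] at h6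
      rw [hA0] at h4
      omega
    rw [h3, hA0] at h1
    omega
  have hR2 : 2 ≤ Nat.card R := by
    have h1 := card_le_of_le (zpowers_le.2 hzR)
    rwa [Nat.card_zpowers, hzo] at h1
  rcases Nat.lt_or_ge (Nat.card R) 4 with hlt | hge
  · -- `R` has order two
    have hR : Nat.card R = 2 := by
      obtain ⟨k, hk⟩ := card_pow hS R
      rw [hk] at hlt hR2 ⊢
      have h1 : 1 ≤ k := by
        by_contra hc
        rw [show k = 0 by omega, pow_zero] at hR2
        omega
      have h2 : k < 2 := by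
        by_contra hc
        have : 2 ^ 2 ≤ 2 ^ k := Nat.pow_le_pow_right two_pos (by omega)
        omega
      rw [show k = 1 by omega, pow_one]
    have hK8 : B = K := Subgroup.eq_of_le_of_card_ge hBK (by omega)
    refine bound_of_normal_four_le hS U B hU4 le_sup_right hB8 hB2 fun s hs => ?_
    rw [hK8, ← hKeq]
    exact ⟨hCmem s (hs u (mem_sup_right huU)), mem_centralizer_singleton_iff.2 (hs b (mem_sup_left hb))⟩
  -- `R = A₀`
  have hRA0 : R = A₀ := by
    have h1 := hcf.omega_eq (by rw [← hRdef, inf_eq_left.2 hRA]; exact hge)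
    rwa [← hRdef, inf_eq_left.2 hRA] at h1
  have hK16 : Nat.card K = 16 := by omega
  obtain ⟨c, hcK, hcB⟩ : ∃ c ∈ K, c ∉ B := SetLike.not_le_iff_exists.1 fun hle => by
    have := card_le_of_le hle
    omega
  have hBi : (B.subgroupOf K).index = 2 := by
    have h1 := Subgroup.card_mul_index (B.subgroupOf K)
    rw [Nat.card_congr (Subgroup.subgroupOfEquivOfLe hBK).toEquiv, hB8, hK16] at h1
    omega
  have hcentB : ∀ x ∈ K, ∀ β ∈ B, x * β = β * x := by
    intro x hx β hβ
    obtain ⟨p, hp, q, hq, rfl⟩ := hBform β hβ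
    rw [← mul_assoc, hcf.central x hx.1 p hp, mul_assoc, hCU x hx.2 q hq, mul_assoc]
  have hKcomm : ∀ x ∈ K, ∀ y ∈ K, x * y = y * x := by
    intro x hx y hy
    by_cases hxB : x ∈ B
    · exact (hcentB y hy x hxB).symm
    by_cases hyB : y ∈ B
    · exact hcentB x hx y hyB
    have h1 : x * y ∈ B :=
      (Subgroup.mul_mem_iff_of_index_two hBi (a := (⟨x, hx⟩ : K)) (b := ⟨y, hy⟩)).2 (iff_of_false hxB hyB)
    have h2 := hcentB x hx _ h1
    rw [mul_assoc] at h2
    exact mul_left_cancel h2
  have hcm : a * c * a * c⁻¹ * b⁻¹ ∈ U := by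
    have h1 : a * c * a * c⁻¹ ∈ A₀ := by
      have h2 : ⁅a, c⁆ ∈ R := commutator_mem_commutator (hAW haA) hcK.1
      rw [commutatorElement_def, hainv] at h2
      rwa [← hRA0]
    have hcfix : ∀ x ∈ K, a * x * a = x → x ∈ A₀ := fun x hx he =>
      ⟨hcf.cent haA haA0 hx.1 (by
        calc x * a = a * x * a * a := by rw [he]
          _ = a * x := by rw [mul_assoc _ a a, haa, mul_one]), hx.2⟩
    rcases hbcases _ h1 with h | h | h | h
    · rw [mul_inv_eq_one] at h
      exact absurd (mem_sup_left (hcfix c hcK h)) hcB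
    · exfalso
      have h3 : a * c * a = z * c := mul_inv_eq_iff_eq_mul.1 h
      have hucK : u * c ∈ K := mul_mem (hBK (mem_sup_right huU)) hcK
      have h4 : a * (u * c) * a = u * c := by
        rw [show a * (u * c) * a = (a * u * a) * (a * c * a) by
          rw [show a * u * a * (a * c * a) = a * u * (a * a) * c * a by group, haa]; group, hau, h3,
          show u * z * (z * c) = u * (z * z) * c by group, hzz, mul_one]
      refine hcB ?_
      rw [show c = u⁻¹ * (u * c) by group]
      exact mul_mem (mem_sup_right (inv_mem huU)) (mem_sup_left (hcfix _ hucK h4))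
    · rw [h, mul_inv_cancel]; exact one_mem _
    · rw [h, mem_center_iff.1 hzc b, mul_inv_cancel_right]; exact hzU
  have hch : Chain C U z u a b c :=
    { isP := hS
      index := hindex
      cardU := hU4
      sqU := hU2
      leU := fun v hv => (hBK (mem_sup_right hv)).2
      centralU := hCU
      hz := hzU
      hu := huU
      z1 := hz1
      u1 := hu1
      uz := huz
      zc := hzc
      haC := haC
      aa := haa
      hau := hau
      hbC := hb.2
      bb := hA02 b hb
      hbU := hbU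
      hab := by rw [comm_of_sq_one hA2 haA hb.1, mul_assoc, haa, mul_one]
      hcC := hcK.2
      hcb := (mem_centralizer_iff.1 hcK.1 b hb).symm
      hcmove := hcm
      cardK := by rw [hKeq, hK16]
      commK := by rw [hKeq]; exact hKcomm }
  intro H N hHN
  exact (chain_bound _ S C U z u a b c rfl hch H N hHN).2.2

theorem sectional_main (hS : IsPGroup 2 S) (A : Subgroup S) (hA : Cfsg.IsElementaryAbelian 2 A)
    (hA8 : Nat.card A = 8) (hC : centralizer (A : Set S) = A) : Cfsg.SectionalPRankLE 2 4 S := by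
  refine sectional_of_bound hS (bound_main hS A hA8 (fun x hx => by simpa [pow_two] using hA.2 x hx) fun s hs => ?_)
  rw [← hC]
  exact mem_centralizer_iff.2 fun x hx => (hs x hx).symm

end Cfsg.Lib.SelfCentEight
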