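import Cfsg.Agent.InvolCalc.ZStarApps

/-!
A strongly closed 2-subgroup acting on a subgroup it meets trivially centralizes it.
-/

set_option autoImplicit false

namespace Cfsg.Lib.TwoFusion

open Subgroup Cfsg.Lib.ZStarApps

universe u

variable {G : Type u} [Group G] [Finite G]

/-- The inductive step, with the action seen inside the group `HA`. -/
theorem centralizes_of_complement {X : Type u} [Group X] [Finite X] (H A : Subgroup X) [H.Normal]
    (hgen : H ⊔ A = ⊤) (hdisj : A ⊓ H = ⊥) (T : Sylow 2 X) (hA : Cfsg.IsStronglyClosed A (T : Subgroup X))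
    (hAp : IsPGroup 2 A) (hO : Cfsg.oddCore H = ⊥) : A ≤ centralizer (H : Set X) := by
  haveI : Fact (Nat.Prime 2) := ⟨Nat.prime_two⟩
  set A₀ := A ⊓ centralizer (H : Set X) with hA₀
  have hAN : A ≤ normalizer (A₀ : Set X) := fun a ha => mem_normalizer_of_maps fun b hb => by
    refine mem_inf.mpr ⟨A.mul_mem (A.mul_mem ha hb.1) (A.inv_mem ha), mem_centralizer_iff.mpr ?_⟩
    intro h hh
    have h1 := mem_centralizer_iff.mp hb.2 _ ((inferInstance : H.Normal).conj_mem h hh a⁻¹)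
    calc h * (a * b * a⁻¹) = a * (a⁻¹ * h * a⁻¹⁻¹ * b) * a⁻¹ := by group
      _ = a * (b * (a⁻¹ * h * a⁻¹⁻¹)) * a⁻¹ := by rw [h1]
      _ = _ := by group
  have hHN : H ≤ normalizer (A₀ : Set X) := fun h hh => mem_normalizer_of_maps fun b hb => by
    rw [mem_centralizer_iff.mp hb.2 h hh, mul_inv_cancel_right]
    exact hb
  haveI : A₀.Normal := normalizer_eq_top_iff.mp (top_le_iff.mp (hgen ▸ sup_le hHN hAN))
  by_contra hne
  haveI : (A₀.subgroupOf A).Normal := inferInstance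
  haveI : Nontrivial (A ⧸ A₀.subgroupOf A) := by
    rw [← not_subsingleton_iff_nontrivial]
    intro hs
    refine hne fun a ha => ?_
    have h1 : (⟨a, ha⟩ : A) ∈ A₀.subgroupOf A :=
      (QuotientGroup.eq_one_iff _).mp (Subsingleton.elim _ _)
    exact (mem_inf.mp h1).2
  haveI : Nontrivial (center (A ⧸ A₀.subgroupOf A)) := (hAp.to_quotient _).center_nontrivial
  obtain ⟨⟨ab, hab⟩, hne1⟩ := exists_ne (1 : center (A ⧸ A₀.subgroupOf A))
  obtain ⟨⟨a, ha⟩, rfl⟩ := QuotientGroup.mk'_surjective _ ab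
  have haA₀ : a ∉ A₀ := fun h =>
    hne1 (Subtype.ext ((QuotientGroup.eq_one_iff _).mpr (mem_subgroupOf.mpr h)))
  have hcomm : ∀ x ∈ A, a⁻¹ * (x * a * x⁻¹) ∈ A₀ := fun x hx => by
    have h := mem_center_iff.mp hab (QuotientGroup.mk' (A₀.subgroupOf A) ⟨x, hx⟩)
    have h2 : QuotientGroup.mk' (A₀.subgroupOf A)
        (⟨a, ha⟩⁻¹ * (⟨x, hx⟩ * ⟨a, ha⟩ * ⟨x, hx⟩⁻¹)) = 1 := by
      rw [map_mul, map_mul, map_mul, map_inv, map_inv, h, mul_inv_cancel_right, inv_mul_cancel]
    exact mem_subgroupOf.mp ((QuotientGroup.eq_one_iff _).mp h2)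
  set π := QuotientGroup.mk' A₀
  have hI : Isolated2 (π a) := by
    refine ⟨T.mapSurjective (QuotientGroup.mk'_surjective A₀), ⟨a, hA.1 ha, rfl⟩, fun gb hgb => ?_⟩
    obtain ⟨g, rfl⟩ := QuotientGroup.mk'_surjective A₀ gb
    obtain ⟨t, ht, hte⟩ := hgb
    have hT : g * a * g⁻¹ ∈ (T : Subgroup X) := by
      have h1 : t⁻¹ * (g * a * g⁻¹) ∈ A₀ := by
        rw [← QuotientGroup.ker_mk' A₀, MonoidHom.mem_ker]
        simp only [π] at hte ⊢
        simp only [map_mul, map_inv, hte]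
        group
      rw [show g * a * g⁻¹ = t * (t⁻¹ * (g * a * g⁻¹)) by group]
      exact mul_mem ht (hA.1 (mem_inf.mp h1).1)
    have hbA := hA.2 a ha g hT
    obtain ⟨h, hh, x, hx, rfl⟩ : ∃ h ∈ H, ∃ x ∈ A, h * x = g := by
      have hg : g ∈ (H ⊔ A : Subgroup X) := hgen ▸ mem_top g
      rw [← SetLike.mem_coe, Subgroup.normal_mul] at hg
      exact Set.mem_mul.mp hg
    set y := x * a * x⁻¹
    have hyA : y ∈ A := A.mul_mem (A.mul_mem hx ha) (A.inv_mem hx)
    have e : h * x * a * (h * x)⁻¹ = h * y * h⁻¹ := by simp only [y]; group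
    rw [e] at hbA
    have h1 : h * y * h⁻¹ * y⁻¹ ∈ A ⊓ H := mem_inf.mpr ⟨A.mul_mem hbA (A.inv_mem hyA), by
      rw [show h * y * h⁻¹ * y⁻¹ = h * (y * h⁻¹ * y⁻¹) by group]
      exact H.mul_mem hh ((inferInstance : H.Normal).conj_mem _ (H.inv_mem hh) y)⟩
    rw [hdisj, mem_bot, mul_inv_eq_one] at h1
    rw [← map_inv, ← map_mul, ← map_mul, e, h1]
    exact ((QuotientGroup.eq_iff_div_mem (x := a) (y := y)).mpr (by
      rw [div_eq_mul_inv, show a * y⁻¹ = a * (a⁻¹ * (x * a * x⁻¹))⁻¹ * a⁻¹ by simp only [y]; group]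
      exact (inferInstance : A₀.Normal).conj_mem _ (A₀.inv_mem (hcomm x hx)) a)).symm
  obtain ⟨k, hk⟩ := IsPGroup.iff_card.mp hAp
  have hord : orderOf (π a) ∣ 2 ^ k :=
    (orderOf_map_dvd π a).trans (by rw [← hk, ← Subgroup.orderOf_mk a ha]; exact orderOf_dvd_natCard _)
  -- the odd core of the quotient is trivial
  have hcore : Cfsg.pPrimeCore 2 (X ⧸ A₀) = ⊥ := by
    set O := Cfsg.pPrimeCore 2 (X ⧸ A₀)
    have hOc := Cfsg.Lib.Components.coprime_card_pPrimeCore (G := X ⧸ A₀) 2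
    set M := O.comap π
    have hMmap : M.map π = O :=
      Subgroup.map_comap_eq_self_of_surjective (QuotientGroup.mk'_surjective A₀) O
    -- project to `A`
    have hMH : M ≤ H ⊔ A₀ := by
      intro m hm
      obtain ⟨h, hh, x, hx, rfl⟩ : ∃ h ∈ H, ∃ x ∈ A, h * x = m := by
        have hg : m ∈ (H ⊔ A : Subgroup X) := hgen ▸ mem_top m
        rw [← SetLike.mem_coe, Subgroup.normal_mul] at hg
        exact Set.mem_mul.mp hg
      have h1 : (π (h * x)) ^ Nat.card O = 1 := by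
        have := pow_card_eq_one' (G := O) (x := ⟨_, hm⟩)
        exact congrArg Subtype.val this
      rw [← map_pow] at h1
      have h2 : (h * x) ^ Nat.card O ∈ H ⊔ A₀ := mem_sup_right ((QuotientGroup.eq_one_iff _).mp h1)
      set ρ := QuotientGroup.mk' (H ⊔ A₀)
      have hhρ : ρ h = 1 := (QuotientGroup.eq_one_iff h).mpr (mem_sup_left hh)
      have h3 : ρ x ^ Nat.card O = 1 := by
        have := (QuotientGroup.eq_one_iff _).mpr h2
        rw [← map_pow]
        calc ρ (x ^ Nat.card O) = ρ ((h * x) ^ Nat.card O) := by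
              rw [map_pow, map_pow, map_mul, hhρ, one_mul]
          _ = 1 := this
      obtain ⟨j, hj⟩ := hAp ⟨x, hx⟩
      have h4 : ρ x = 1 := orderOf_eq_one_iff.mp (Nat.eq_one_of_dvd_coprimes (hOc.pow_right j)
        (orderOf_dvd_of_pow_eq_one h3) (orderOf_dvd_of_pow_eq_one (by
          rw [← map_pow, show x ^ 2 ^ j = 1 from congrArg Subtype.val hj, map_one])))
      exact mul_mem (mem_sup_left hh) ((QuotientGroup.eq_one_iff x).mp h4)
    set W := M.subgroupOf H
    have hinj : Function.Injective (π.comp H.subtype) := by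
      rw [injective_iff_map_eq_one]
      intro h hh
      have h1 : (h : X) ∈ A ⊓ H := mem_inf.mpr ⟨(mem_inf.mp ((QuotientGroup.eq_one_iff _).mp hh)).1, h.2⟩
      rw [hdisj, mem_bot] at h1
      exact Subtype.ext h1
    have hWmap : W.map (π.comp H.subtype) = O := by
      refine le_antisymm ?_ fun o ho => ?_
      · rintro _ ⟨w, hw, rfl⟩
        exact hw
      · obtain ⟨m, rfl⟩ := QuotientGroup.mk'_surjective A₀ o
        obtain ⟨h, hh, b, hb, rfl⟩ : ∃ h ∈ H, ∃ b ∈ A₀, h * b = m := by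
          have hg : m ∈ (H ⊔ A₀ : Subgroup X) := hMH ho
          rw [← SetLike.mem_coe, Subgroup.normal_mul] at hg
          exact Set.mem_mul.mp hg
        have hb1 : π b = 1 := (QuotientGroup.eq_one_iff b).mpr hb
        refine ⟨⟨h, hh⟩, ?_, by show π h = π (h * b); rw [map_mul, hb1, mul_one]⟩
        show π h ∈ O
        rwa [show π h = π (h * b) by rw [map_mul, hb1, mul_one]]
    have hW : Nat.card W = Nat.card O := by
      rw [← hWmap, Subgroup.card_map_of_injective hinj]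
    haveI : M.Normal := inferInstance
    have hWbot : W = ⊥ := le_bot_iff.mp (hO ▸ Cfsg.Lib.Components.le_pPrimeCore (hW ▸ hOc))
    rw [← hWmap, hWbot, Subgroup.map_bot]
  have hfix : ∀ h ∈ H, h * a * h⁻¹ * a⁻¹ = 1 := by
    intro h hh
    have h1 := central_of_isolated2 k (π a) hord hI (π h)
    rw [hcore, mem_bot, ← map_inv, ← map_inv, ← map_mul, ← map_mul, ← map_mul] at h1
    have h2 : h * a * h⁻¹ * a⁻¹ ∈ A ⊓ H := mem_inf.mpr
      ⟨(mem_inf.mp ((QuotientGroup.eq_one_iff _).mp h1)).1, by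
        rw [show h * a * h⁻¹ * a⁻¹ = h * (a * h⁻¹ * a⁻¹) by group]
        exact H.mul_mem hh ((inferInstance : H.Normal).conj_mem _ (H.inv_mem hh) a)⟩
    rwa [hdisj, mem_bot] at h2
  refine haA₀ (mem_inf.mpr ⟨ha, mem_centralizer_iff.mpr fun h hh => ?_⟩)
  have := hfix h hh
  rwa [mul_inv_eq_one, mul_inv_eq_iff_eq_mul] at this

/-- A strongly closed 2-subgroup acting on a core-free subgroup meeting it trivially centralizes it. -/
theorem centralizes_of_stronglyClosed (S : Sylow 2 G) (A : Subgroup G)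
    (hA : Cfsg.IsStronglyClosed A (S : Subgroup G)) (H : Subgroup G)
    (hAH : A ≤ normalizer (H : Set G)) (hO : Cfsg.oddCore H = ⊥) (hdisj : A ⊓ H = ⊥) :
    A ≤ centralizer (H : Set G) := by
  haveI : Fact (Nat.Prime 2) := ⟨Nat.prime_two⟩
  set X := H ⊔ A with hX
  have hAX : A ≤ X := le_sup_right
  have hHX : H ≤ X := le_sup_left
  haveI : (H.subgroupOf X).Normal :=
    normal_subgroupOf_of_le_normalizer (sup_le le_normalizer hAH)
  have hAp : IsPGroup 2 A := S.isPGroup'.of_injective _ (inclusion_injective hA.1)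
  obtain ⟨T, hT⟩ := (hAp.of_injective (subgroupOfEquivOfLe hAX).toMonoidHom
    (subgroupOfEquivOfLe hAX).injective).exists_le_sylow
  obtain ⟨g, -, hg⟩ := exists_conj_mem_sylow S le_top (T.isPGroup'.map X.subtype) le_top
  have hgA : g ∈ normalizer (A : Set G) := mem_normalizer_of_maps fun a ha =>
    hA.2 a ha g (hg a ⟨⟨a, hAX ha⟩, hT ha, rfl⟩)
  have hAc : Cfsg.IsStronglyClosed (A.subgroupOf X) (T : Subgroup X) := by
    refine ⟨hT, fun x hx w hw => ?_⟩
    have h1 : g * ((w : G) * (x : G) * (w : G)⁻¹) * g⁻¹ ∈ (S : Subgroup G) :=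
      hg _ ⟨_, hw, rfl⟩
    have h2 := hA.2 _ (mem_subgroupOf.mp hx) (g * w) (by
      rw [show g * (w : G) * (x : G) * (g * w)⁻¹ = g * (w * x * (w : G)⁻¹) * g⁻¹ by group]; exact h1)
    rw [show g * (w : G) * (x : G) * (g * w)⁻¹ = g * (w * x * (w : G)⁻¹) * g⁻¹ by group] at h2
    exact mem_subgroupOf.mpr ((mem_normalizer_iff.mp hgA _).mpr h2)
  have hgen : H.subgroupOf X ⊔ A.subgroupOf X = ⊤ := by
    rw [← subgroupOf_sup hHX hAX, subgroupOf_eq_top]
  have hd : A.subgroupOf X ⊓ H.subgroupOf X = ⊥ := by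
    rw [eq_bot_iff]
    intro x hx
    have h1 : (x : G) ∈ A ⊓ H := ⟨hx.1, hx.2⟩
    rw [hdisj, mem_bot] at h1
    exact mem_bot.mpr (Subtype.ext h1)
  have hO' : Cfsg.oddCore (H.subgroupOf X) = ⊥ := by
    set e := subgroupOfEquivOfLe hHX
    set W := Cfsg.oddCore (H.subgroupOf X)
    haveI : W.Normal := inferInstanceAs (Cfsg.pPrimeCore 2 (H.subgroupOf X)).Normal
    have hn : (W.map e.toMonoidHom).Normal := Subgroup.Normal.map inferInstance _ e.surjective
    have h1 : W.map e.toMonoidHom = ⊥ := le_bot_iff.mp (hO ▸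
      Cfsg.Lib.Components.le_pPrimeCore (hn := hn) (by
        rw [Subgroup.card_map_of_injective (f := e.toMonoidHom) e.injective]
        exact Cfsg.Lib.Components.coprime_card_pPrimeCore 2))
    rwa [Subgroup.map_eq_bot_iff_of_injective W (f := e.toMonoidHom) e.injective] at h1
  have h := centralizes_of_complement (H.subgroupOf X) (A.subgroupOf X) hgen hd T hAc
    (hAp.of_injective (subgroupOfEquivOfLe hAX).toMonoidHom (subgroupOfEquivOfLe hAX).injective) hO'
  refine fun a ha => mem_centralizer_iff.mpr fun x hx => ?_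
  exact congrArg Subtype.val (mem_centralizer_iff.mp
    (h (show (⟨a, hAX ha⟩ : X) ∈ A.subgroupOf X from ha)) ⟨x, hHX hx⟩ hx)

end Cfsg.Lib.TwoFusion
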