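/-
A 2-group with a self-centralising central product of two quaternion groups of order eight has an
elementary abelian subgroup of order eight which is its own centraliser.
-/
import Cfsg.Agent.TwoFusion.EightMain
import Mathlib.GroupTheory.SpecificGroups.Quaternion

set_option autoImplicit false
set_option linter.style.haveILetI false
set_option linter.unusedSectionVars false

namespace Cfsg.Lib.SelfCentQuat

open Subgroup

abbrev Q8 := QuaternionGroup 2

/-- the automorphism of order three permuting the three classes of elements of order four -/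
def rot : Q8 → Q8
  | .a i => if i = 1 then .xa 0 else if i = 3 then .xa 2 else .a i
  | .xa i => if i = 0 then .xa 3 else if i = 2 then .xa 1 else if i = 3 then .a 1 else .a 3

def sgn : Bool → Q8 := fun u => cond u (.a 2) (.a 0)

def first : Bool → Bool → Q8 := fun s t => cond s (cond t (.xa 3) (.a 1)) (cond t (.xa 0) (.a 0))

def par (t : Fin 3) (c : Bool × Bool × Bool) : Q8 × Q8 :=
  (first c.1 c.2.1 * sgn c.2.2, rot^[t.val] (first c.1 c.2.1))

def kk : Q8 × Q8 := (.a 2, .a 2)
def zz : Q8 × Q8 := (.a 2, .a 0)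

/-- equality modulo the kernel of the central product -/
def Equiv' (p q : Q8 × Q8) : Prop := p = q ∨ p = q * kk

instance (p q : Q8 × Q8) : Decidable (Equiv' p q) := inferInstanceAs (Decidable (_ ∨ _))

theorem par_one (t : Fin 3) : ∃ c, Equiv' 1 (par t c) := by revert t; decide +kernel
theorem par_zz (t : Fin 3) : ∃ c, Equiv' zz (par t c) := by revert t; decide +kernel
theorem par_sq : ∀ t c, Equiv' (par t c * par t c) 1 := by decide +kernel
theorem par_mul : ∀ t c d, ∃ e, Equiv' (par t c * par t d) (par t e) := by decide +kernel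
theorem par_inj : ∀ t c d, Equiv' (par t c) (par t d) → c = d := by decide +kernel
theorem par_cover : ∀ p : Q8 × Q8, Equiv' (p * p) 1 → ∃ t c, Equiv' p (par t c) := by decide +kernel
theorem par_inter : ∀ i j c d, i ≠ j → Equiv' (par i c) (par j d) →
    Equiv' (par i c) 1 ∨ Equiv' (par i c) zz := by decide +kernel
theorem par_comm : ∀ (p : Q8 × Q8) t c,
    Equiv' (p * par t c) (par t c * p) ∨ Equiv' (p * par t c) (zz * par t c * p) := by decide +kernel
theorem par_self : ∀ t (p : Q8 × Q8), (∀ c, Equiv' (p * par t c) (par t c * p)) →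
    ∃ c, Equiv' p (par t c) := by decide +kernel
theorem par_sup : ∀ i j, i ≠ j → ∀ p : Q8 × Q8, ∃ c d, Equiv' p (par i c * par j d) := by decide +kernel
theorem par_char : ∀ i j, i ≠ j → ∀ s u : Bool, ∃ c,
    Equiv' (par i c * par j (true, false, false)) ((sgn s, .a 0) * par j (true, false, false) * par i c) ∧
      Equiv' (par i c * par j (false, true, false)) ((sgn u, .a 0) * par j (false, true, false) * par i c) := by
  decide +kernel
theorem par_gen : ∀ j c, ∃ s t u : Bool, Equiv' (par j c)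
    (cond s (par j (true, false, false)) 1 * cond t (par j (false, true, false)) 1 * cond u zz 1) := by
  decide +kernel
theorem centre_eq : ∀ a : Q8, (∀ b, a * b = b * a) → a = .a 0 ∨ a = .a 2 := by decide +kernel

universe w

variable {S : Type w} [Group S] [Finite S]

/-- the hypotheses on a central product -/
structure Data (f : Q8 × Q8 →* S) : Prop where
  isP : IsPGroup 2 S
  ker : ∀ p q, f p = f q ↔ Equiv' p q
  cent : ∀ g : S, (∀ p, g * f p = f p * g) → ∃ p, f p = g

variable {f : Q8 × Q8 →* S}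

def four (D : Data f) (t : Fin 3) : Subgroup S where
  carrier := Set.range fun c => f (par t c)
  one_mem' := by
    obtain ⟨c, hc⟩ := par_one t
    exact ⟨c, show f _ = 1 by rw [← (D.ker _ _).2 hc, map_one]⟩
  mul_mem' := by
    rintro _ _ ⟨c, rfl⟩ ⟨d, rfl⟩
    obtain ⟨e, he⟩ := par_mul t c d
    exact ⟨e, show f _ = f _ * f _ by rw [← (D.ker _ _).2 he, map_mul]⟩
  inv_mem' := by
    rintro _ ⟨c, rfl⟩
    refine ⟨c, ?_⟩
    have h := (D.ker _ _).2 (par_sq t c)
    rw [map_mul, map_one] at h
    exact (inv_eq_of_mul_eq_one_right h).symm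

variable (D : Data f)

theorem mem_four {t : Fin 3} {x : S} : x ∈ four D t ↔ ∃ c, f (par t c) = x := Iff.rfl

theorem four_sq {t : Fin 3} {x : S} (hx : x ∈ four D t) : x * x = 1 := by
  obtain ⟨c, rfl⟩ := hx
  show f _ * f _ = 1
  rw [← map_mul, (D.ker _ _).2 (par_sq t c), map_one]

theorem four_le_range (t : Fin 3) : four D t ≤ f.range := by
  rintro _ ⟨c, rfl⟩; exact ⟨_, rfl⟩

theorem zz_mem (t : Fin 3) : f zz ∈ four D t := by
  obtain ⟨c, hc⟩ := par_zz t
  exact ⟨c, ((D.ker _ _).2 hc).symm⟩

theorem card_four (t : Fin 3) : Nat.card (four D t) = 8 := by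
  rw [← Nat.card_congr (Equiv.ofBijective
    (fun c => (⟨f (par t c), c, rfl⟩ : four D t))
    ⟨fun c d h => par_inj t c d ((D.ker _ _).1 (congrArg Subtype.val h)),
      by rintro ⟨_, c, rfl⟩; exact ⟨c, rfl⟩⟩)]
  simp [Nat.card_prod]

theorem inter {i j : Fin 3} (h : i ≠ j) {x : S} (hi : x ∈ four D i) (hj : x ∈ four D j) :
    x = 1 ∨ x = f zz := by
  obtain ⟨c, rfl⟩ := hi
  obtain ⟨d, hd⟩ := hj
  rcases par_inter i j c d h ((D.ker _ _).1 hd.symm) with h1 | h1
  · left; show f _ = 1; rw [(D.ker _ _).2 h1, map_one]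
  · right; exact (D.ker _ _).2 h1

theorem four_ne {i j : Fin 3} (h : i ≠ j) : four D i ≠ four D j := by
  intro he
  have hle : four D i ≤ zpowers (f zz) := fun x hx => by
    rcases inter D h hx (he ▸ hx) with rfl | rfl
    · exact one_mem _
    · exact mem_zpowers _
  have h1 := Subgroup.card_le_of_le hle
  have h2 : orderOf (f zz) ≤ 2 := by
    refine Nat.le_of_dvd two_pos (orderOf_dvd_of_pow_eq_one ?_)
    rw [pow_two]; exact four_sq D (zz_mem D i)
  rw [card_four, Nat.card_zpowers] at h1
  omega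

theorem comm_rule {t : Fin 3} {x a : S} (hx : x ∈ f.range) (ha : a ∈ four D t) :
    x * a * x⁻¹ = a ∨ x * a * x⁻¹ = f zz * a := by
  obtain ⟨p, rfl⟩ := hx
  obtain ⟨c, rfl⟩ := ha
  rcases par_comm p t c with h | h <;>
    have h1 := (D.ker _ _).2 h <;> simp only [map_mul] at h1
  · left; exact mul_inv_eq_iff_eq_mul.2 h1
  · right; exact mul_inv_eq_iff_eq_mul.2 h1

theorem self_four {t : Fin 3} {x : S} (hx : x ∈ f.range) (h : ∀ a ∈ four D t, x * a = a * x) :
    x ∈ four D t := by
  obtain ⟨p, rfl⟩ := hx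
  obtain ⟨c, hc⟩ := par_self t p fun c => (D.ker _ _).1 (by
    rw [map_mul, map_mul]; exact h _ ⟨c, rfl⟩)
  exact ⟨c, ((D.ker _ _).2 hc).symm⟩

/-- an element centralising one and normalising another lies in the central product -/
theorem mem_range_of_fix {i j : Fin 3} (hij : i ≠ j) {g : S}
    (hN : ∀ x ∈ f.range, g * x * g⁻¹ ∈ f.range) (hi : ∀ a ∈ four D i, g * a = a * g)
    (hj : ∀ x ∈ four D j, g * x * g⁻¹ ∈ four D j) : g ∈ f.range := by
  have hzg : g * f zz = f zz * g := hi _ (zz_mem D i)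
  have hmove : ∀ x ∈ four D j, ∃ s : Bool, g * x * g⁻¹ = f (sgn s, .a 0) * x := by
    intro x hx
    have hxr := four_le_range D j hx
    have h1 : g * x * g⁻¹ * x⁻¹ ∈ four D i := by
      refine self_four D (mul_mem (hN x hxr) (inv_mem hxr)) fun a ha => ?_
      have h2 : ∀ b, x⁻¹ * a * x = b → g * b = b * g → (g * x * g⁻¹ * x⁻¹) * a =
          a * (g * x * g⁻¹ * x⁻¹) := by
        intro b hb hgb
        have hga : g * a = a * g := hi a ha
        calc g * x * g⁻¹ * x⁻¹ * a = g * x * g⁻¹ * b * x⁻¹ := by rw [← hb]; group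
          _ = g * x * b * g⁻¹ * x⁻¹ := by
            rw [show g * x * g⁻¹ * b = g * x * (g⁻¹ * b) by group,
              show g⁻¹ * b = b * g⁻¹ by rw [eq_mul_inv_iff_mul_eq, mul_assoc, ← hgb]; group]
            group
          _ = g * a * x * g⁻¹ * x⁻¹ := by rw [← hb]; group
          _ = a * (g * x * g⁻¹ * x⁻¹) := by rw [hga]; group
      rcases comm_rule D (inv_mem hxr) ha with h | h <;> rw [inv_inv] at h
      · exact h2 a h (hi a ha)
      · exact h2 _ h (by rw [← mul_assoc, hzg, mul_assoc, hi a ha, mul_assoc])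
    rcases inter D hij h1 (mul_mem (hj x hx) (inv_mem hx)) with h | h
    · exact ⟨false, by
        rw [show ((sgn false, .a 0) : Q8 × Q8) = 1 from rfl, map_one, one_mul]
        exact mul_inv_eq_one.1 h⟩
    · exact ⟨true, by
        rw [show ((sgn true, .a 0) : Q8 × Q8) = zz from rfl]
        exact mul_inv_eq_iff_eq_mul.1 h⟩
  obtain ⟨s, hs⟩ := hmove _ ⟨(true, false, false), rfl⟩
  obtain ⟨u, hu⟩ := hmove _ ⟨(false, true, false), rfl⟩
  obtain ⟨c, hc1, hc2⟩ := par_char i j hij s u
  have e1 := (D.ker _ _).2 hc1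
  have e2 := (D.ker _ _).2 hc2
  simp only [map_mul] at e1 e2
  set q := f (par i c) with hq
  set h := q⁻¹ * g with hh
  have hqi : q ∈ four D i := ⟨c, rfl⟩
  have hfix : ∀ x, g * x * g⁻¹ = q * x * q⁻¹ → h * x = x * h := fun x hx => by
    rw [hh, mul_assoc, mul_inv_eq_iff_eq_mul.1 hx]; group
  have hb1 := hfix _ (hs.trans (eq_mul_inv_iff_mul_eq.2 e1.symm))
  have hb2 := hfix _ (hu.trans (eq_mul_inv_iff_mul_eq.2 e2.symm))
  have hci : ∀ a ∈ four D i, h * a = a * h := fun a ha => by
    have h1 : q * a = a * q := Cfsg.Lib.SelfCentEight.comm_of_sq_one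
      (fun y hy => four_sq D hy) hqi ha
    have h2 : q⁻¹ * a = a * q⁻¹ := by rw [eq_mul_inv_iff_mul_eq, mul_assoc, ← h1]; group
    rw [hh, mul_assoc, hi a ha, ← mul_assoc, h2, mul_assoc]
  have hz : h * f zz = f zz * h := hci _ (zz_mem D i)
  have hcj : ∀ a ∈ four D j, h * a = a * h := by
    rintro _ ⟨d, rfl⟩
    obtain ⟨s', t', u', hd⟩ := par_gen j d
    show h * f (par j d) = f (par j d) * h
    rw [(D.ker _ _).2 hd, map_mul, map_mul]
    have k1 : Commute h (f (cond s' (par j (true, false, false)) 1)) := by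
      cases s' <;> simp only [cond_true, cond_false, map_one]
      exacts [Commute.one_right h, hb1]
    have k2 : Commute h (f (cond t' (par j (false, true, false)) 1)) := by
      cases t' <;> simp only [cond_true, cond_false, map_one]
      exacts [Commute.one_right h, hb2]
    have k3 : Commute h (f (cond u' zz 1)) := by
      cases u' <;> simp only [cond_true, cond_false, map_one]
      exacts [Commute.one_right h, hz]
    exact (k1.mul_right k2).mul_right k3
  obtain ⟨p, hp⟩ := D.cent h fun p => by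
    obtain ⟨c', d', hp⟩ := par_sup i j hij p
    rw [(D.ker _ _).2 hp, map_mul]
    exact (Commute.mul_right (hci _ ⟨c', rfl⟩) (hcj _ ⟨d', rfl⟩) : Commute _ _)
  have : g = q * h := by rw [hh, mul_inv_cancel_left]
  rw [this, ← hp]
  exact mul_mem (four_le_range D i hqi) ⟨p, rfl⟩

theorem fin_three : ∀ i j k t : Fin 3, i ≠ j → i ≠ k → j ≠ k → t = i ∨ t = j ∨ t = k := by decide

/-- an element outside centralising one of the three interchanges the other two -/
theorem swap {i j k : Fin 3} (hij : i ≠ j) (hik : i ≠ k) (hjk : j ≠ k) {g : S}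
    (hN : ∀ x ∈ f.range, g * x * g⁻¹ ∈ f.range) (hi : ∀ a ∈ four D i, g * a = a * g)
    (hg : g ∉ f.range) : (four D j).map (MulAut.conj g).toMonoidHom = four D k := by
  have hall : ∀ t : Fin 3, t = i ∨ t = j ∨ t = k := fun t => fin_three i j k t hij hik hjk
  have hjk' : ∀ x ∈ four D j, g * x * g⁻¹ ∈ four D j ∨ g * x * g⁻¹ ∈ four D k := by
    intro x hx
    have h2 : g * x * g⁻¹ * (g * x * g⁻¹) = 1 := by
      rw [show g * x * g⁻¹ * (g * x * g⁻¹) = g * (x * x) * g⁻¹ by group, four_sq D hx]; group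
    obtain ⟨p, hp⟩ := hN x (four_le_range D j hx)
    obtain ⟨t, c, hc⟩ := par_cover p ((D.ker _ _).1 (by rw [map_mul, map_one, hp, h2]))
    have h3 : g * x * g⁻¹ ∈ four D t := ⟨c, by rw [← hp]; exact ((D.ker _ _).2 hc).symm⟩
    rcases hall t with rfl | rfl | rfl
    · left
      have h4 : g * (g * x * g⁻¹) * g⁻¹ = g * x * g⁻¹ := mul_inv_eq_iff_eq_mul.2 (hi _ h3)
      have h5 : g * x * g⁻¹ = x := (MulAut.conj g).injective h4
      rw [h5]; exact hx
    · exact Or.inl h3
    · exact Or.inr h3
  have hle : ∀ x ∈ four D j, g * x * g⁻¹ ∈ four D k := by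
    by_contra hc
    push Not at hc
    obtain ⟨y, hy, hyk⟩ := hc
    have hyj := (hjk' y hy).resolve_right hyk
    refine hg (mem_range_of_fix D hij hN hi fun x hx => ?_)
    rcases hjk' x hx with h | h
    · exact h
    rcases hjk' (x * y) (mul_mem hx hy) with h1 | h1
    · have h2 := mul_mem h1 (inv_mem hyj)
      rwa [show g * (x * y) * g⁻¹ * (g * y * g⁻¹)⁻¹ = g * x * g⁻¹ by group] at h2
    · exfalso
      have h2 := mul_mem (inv_mem h) h1
      rw [show (g * x * g⁻¹)⁻¹ * (g * (x * y) * g⁻¹) = g * y * g⁻¹ by group] at h2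
      exact hyk h2
  refine Subgroup.eq_of_le_of_card_ge ?_ (le_of_eq ?_)
  · rintro _ ⟨x, hx, rfl⟩; exact hle x hx
  · rw [card_four, ← Nat.card_congr ((four D j).equivMapOfInjective _ (MulAut.conj g).injective).toEquiv, card_four]

theorem exists_self_centralizing : ∃ t, centralizer (four D t : Set S) ≤ four D t := by
  classical
  haveI := Fact.mk Nat.prime_two
  by_contra hc
  push Not at hc
  have key : ∀ i, ∃ g : S, g ∉ f.range ∧ (∀ a ∈ four D i, g * a = a * g) ∧
      ∀ x ∈ f.range, g * x * g⁻¹ ∈ f.range := by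
    intro i
    set Q := f.range with hQ
    set C := centralizer (four D i : Set S) with hC
    have hnorm : Q ≤ normalizer (C : Set S) := by
      have h1 : ∀ x ∈ Q, ∀ c ∈ C, x * c * x⁻¹ ∈ C := by
        intro x hx c hc
        refine mem_centralizer_iff.2 fun a ha => ?_
        have h2 : x⁻¹ * a * x ∈ four D i := by
          rcases comm_rule D (inv_mem hx) ha with h | h <;> rw [inv_inv] at h <;> rw [h]
          exacts [ha, mul_mem (zz_mem D i) ha]
        have h3 := mem_centralizer_iff.1 hc _ h2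
        calc a * (x * c * x⁻¹) = x * (x⁻¹ * a * x * c) * x⁻¹ := by group
          _ = x * (c * (x⁻¹ * a * x)) * x⁻¹ := by rw [h3]
          _ = x * c * x⁻¹ * a := by group
      intro x hx
      refine mem_normalizer_iff.2 fun c => ⟨h1 x hx c, fun h => ?_⟩
      have := h1 x⁻¹ (inv_mem hx) _ h
      simpa [mul_assoc] using this
    set T := Q ⊔ C with hT
    have hlt : Q.subgroupOf T < ⊤ := by
      refine lt_top_iff_ne_top.2 fun he => hc i ?_
      have hTQ : T ≤ Q := subgroupOf_eq_top.1 he
      intro g hg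
      exact self_four D (hTQ (mem_sup_right hg)) fun a ha => (mem_centralizer_iff.1 hg a ha).symm
    haveI : Group.IsNilpotent T := (D.isP.to_subgroup T).isNilpotent
    obtain ⟨y, hy, hyQ⟩ := SetLike.exists_of_lt (Group.normalizerCondition_of_isNilpotent _ hlt)
    have hyn : ∀ x ∈ Q, (y : S) * x * (y : S)⁻¹ ∈ Q := fun x hx =>
      (mem_normalizer_iff.1 hy ⟨x, mem_sup_left hx⟩).1 hx
    have hyT : (y : S) ∈ ((Q ⊔ C : Subgroup S) : Set S) := y.2
    rw [Subgroup.coe_mul_of_left_le_normalizer_right Q C hnorm] at hyT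
    obtain ⟨q, hq, c, hc', hqc⟩ := hyT
    refine ⟨c, fun h => hyQ (show (y : S) ∈ Q by rw [← hqc]; exact mul_mem hq h),
      fun a ha => (mem_centralizer_iff.1 hc' a ha).symm, fun x hx => ?_⟩
    have h1 := mul_mem (mul_mem (inv_mem hq) (hyn x hx)) hq
    rwa [← hqc, show q⁻¹ * (q * c * x * (q * c)⁻¹) * q = c * x * c⁻¹ by group] at h1
  obtain ⟨g₀, hg0, hc0, hn0⟩ := key 0
  obtain ⟨g₁, hg1, hc1, hn1⟩ := key 1
  have hfix : ∀ (g : S) i, (∀ a ∈ four D i, g * a = a * g) →
      (four D i).map (MulAut.conj g).toMonoidHom = four D i := by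
    intro g i h
    refine Subgroup.eq_of_le_of_card_ge ?_ (le_of_eq ?_)
    · rintro _ ⟨x, hx, rfl⟩
      show g * x * g⁻¹ ∈ _
      rw [mul_inv_eq_iff_eq_mul.2 (h x hx)]; exact hx
    · rw [← Nat.card_congr ((four D i).equivMapOfInjective _ (MulAut.conj g).injective).toEquiv]
  have hcomp : ∀ (g h : S) (H : Subgroup S),
      H.map (MulAut.conj (g * h)).toMonoidHom =
        (H.map (MulAut.conj h).toMonoidHom).map (MulAut.conj g).toMonoidHom := by
    intro g h H
    rw [Subgroup.map_map]
    congr 1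
    ext x
    simp [mul_assoc]
  set h := g₁ * g₀
  have e0 : (four D 0).map (MulAut.conj h).toMonoidHom = four D 2 := by
    rw [hcomp, hfix g₀ 0 hc0, swap D (i := 1) (j := 0) (k := 2) (by decide) (by decide) (by decide) hn1 hc1 hg1]
  have e1 : (four D 1).map (MulAut.conj h).toMonoidHom = four D 0 := by
    rw [hcomp, swap D (i := 0) (j := 1) (k := 2) (by decide) (by decide) (by decide) hn0 hc0 hg0,
      swap D (i := 1) (j := 2) (k := 0) (by decide) (by decide) (by decide) hn1 hc1 hg1]
  have e2 : (four D 2).map (MulAut.conj h).toMonoidHom = four D 1 := by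
    rw [hcomp, swap D (i := 0) (j := 2) (k := 1) (by decide) (by decide) (by decide) hn0 hc0 hg0,
      hfix g₁ 1 hc1]
  let cyc : ℕ → Fin 3 := fun n => if n % 3 = 0 then 0 else if n % 3 = 1 then 2 else 1
  have horbit : ∀ n, (four D 0).map (MulAut.conj (h ^ n)).toMonoidHom = four D (cyc n) := by
    intro n
    induction n with
    | zero =>
      rw [pow_zero, show cyc 0 = 0 from rfl]
      exact hfix 1 0 fun a _ => by simp
    | succ n ih =>
      rw [pow_succ', hcomp, ih]
      rcases (by omega : n % 3 = 0 ∨ n % 3 = 1 ∨ n % 3 = 2) with hm | hm | hm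
      · rw [show cyc n = 0 by simp [cyc, hm], show cyc (n + 1) = 2 by
          simp [cyc, show (n + 1) % 3 = 1 by omega]]
        exact e0
      · rw [show cyc n = 2 by simp [cyc, hm], show cyc (n + 1) = 1 by
          simp [cyc, show (n + 1) % 3 = 2 by omega]]
        exact e2
      · rw [show cyc n = 1 by simp [cyc, hm], show cyc (n + 1) = 0 by
          simp [cyc, show (n + 1) % 3 = 0 by omega]]
        exact e1
  obtain ⟨m, hm⟩ := D.isP h
  have h1 := horbit (2 ^ m)
  rw [hm] at h1
  have h2 : (four D 0).map (MulAut.conj (1 : S)).toMonoidHom = four D 0 :=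
    hfix 1 0 fun a _ => by simp
  rw [h2] at h1
  have h3 : ¬ 3 ∣ 2 ^ m := fun hd => by
    have := Nat.prime_three.dvd_of_dvd_pow hd
    omega
  have h4 : cyc (2 ^ m) ≠ 0 := by
    simp only [cyc]
    split_ifs with ha hb
    · exact absurd (Nat.dvd_of_mod_eq_zero ha) h3
    · decide
    · decide
  exact four_ne D (Ne.symm h4) h1

theorem sectional_quaternion_pair (hS : IsPGroup 2 S) (Q Q₁ Q₂ : Subgroup S)
    (e₁ : Q₁ ≃* Q8) (e₂ : Q₂ ≃* Q8)
    (hcomm : ∀ a ∈ Q₁, ∀ b ∈ Q₂, a * b = b * a) (hQ : Q₁ ⊔ Q₂ = Q) (hQ32 : Nat.card Q = 32)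
    (hC : centralizer (Q : Set S) ≤ Q) : Cfsg.SectionalPRankLE 2 4 S := by
  classical
  set f : Q8 × Q8 →* S := MonoidHom.noncommCoprod (Q₁.subtype.comp e₁.symm.toMonoidHom)
    (Q₂.subtype.comp e₂.symm.toMonoidHom) (fun a b => hcomm _ (e₁.symm a).2 _ (e₂.symm b).2) with hf
  have happ : ∀ p, f p = (e₁.symm p.1 : S) * (e₂.symm p.2 : S) := fun p => rfl
  have hrange : f.range = Q := by
    refine le_antisymm ?_ (hQ ▸ sup_le ?_ ?_)
    · rintro _ ⟨p, rfl⟩
      rw [happ, ← hQ]
      exact mul_mem (mem_sup_left (e₁.symm p.1).2) (mem_sup_right (e₂.symm p.2).2)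
    · intro x hx
      exact ⟨(e₁ ⟨x, hx⟩, 1), by rw [happ]; simp⟩
    · intro x hx
      exact ⟨(1, e₂ ⟨x, hx⟩), by rw [happ]; simp⟩
  have hker : Nat.card f.ker = 2 := by
    have h1 := Subgroup.card_mul_index f.ker
    rw [Subgroup.index_ker, hrange, hQ32, Nat.card_prod] at h1
    have h2 : Nat.card Q8 = 8 := by rw [Nat.card_eq_fintype_card]; rfl
    rw [h2] at h1
    omega
  have hkz : ∀ p ∈ f.ker, p = 1 ∨ p = kk := by
    intro p hp
    rw [MonoidHom.mem_ker, happ] at hp
    have hone : (1 : Q8) = .a 0 := rfl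
    have h1 : (e₁.symm p.1 : S) = (e₂.symm p.2 : S)⁻¹ := eq_inv_of_mul_eq_one_left hp
    have h2 : (e₂.symm p.2 : S) = (e₁.symm p.1 : S)⁻¹ := eq_inv_of_mul_eq_one_right hp
    have ha : ∀ b, p.1 * b = b * p.1 := fun b => e₁.symm.injective (Subtype.ext (by
      rw [map_mul, map_mul, Subgroup.coe_mul, Subgroup.coe_mul]
      have := hcomm _ (e₁.symm b).2 _ (inv_mem (e₂.symm p.2).2)
      rw [h1]; exact this.symm))
    have hb : ∀ b, p.2 * b = b * p.2 := fun b => e₂.symm.injective (Subtype.ext (by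
      rw [map_mul, map_mul, Subgroup.coe_mul, Subgroup.coe_mul]
      have := hcomm _ (inv_mem (e₁.symm p.1).2) _ (e₂.symm b).2
      rw [h2]; exact this))
    rcases centre_eq _ ha with h | h <;> rcases centre_eq _ hb with h' | h'
    · left; exact Prod.ext h h'
    · exfalso
      rw [h, ← hone, map_one, OneMemClass.coe_one, inv_one] at h2
      have : e₂.symm p.2 = 1 := Subtype.ext h2
      rw [MulEquiv.map_eq_one_iff, h', hone] at this
      exact absurd this (by decide)
    · exfalso
      rw [h', ← hone, map_one, OneMemClass.coe_one, inv_one] at h1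
      have : e₁.symm p.1 = 1 := Subtype.ext h1
      rw [MulEquiv.map_eq_one_iff, h, hone] at this
      exact absurd this (by decide)
    · right; exact Prod.ext h h'
  have hkk : kk ∈ f.ker := by
    by_contra hk
    have hbot : f.ker = ⊥ := eq_bot_iff.2 fun p hp => by
      rcases hkz p hp with rfl | rfl
      · exact one_mem _
      · exact absurd hp hk
    rw [hbot, card_bot] at hker
    omega
  have D : Data f :=
    { isP := hS
      ker := fun p q => by
        rw [MonoidHom.eq_iff]
        constructor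
        · intro h
          rcases hkz _ h with h1 | h1
          · exact Or.inl (inv_mul_eq_one.1 h1).symm
          · exact Or.inr (inv_mul_eq_iff_eq_mul.1 h1)
        · rintro (rfl | rfl)
          · simp
          · rw [inv_mul_cancel_left]; exact hkk
      cent := fun g hg => by
        have : g ∈ f.range := by
          rw [hrange]
          refine hC (mem_centralizer_iff.2 fun x hx => ?_)
          rw [← hrange] at hx
          obtain ⟨p, rfl⟩ := hx
          exact (hg p).symm
        exact this }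
  obtain ⟨t, ht⟩ := exists_self_centralizing D
  exact Cfsg.Lib.SelfCentEight.sectional_of_bound hS
    (Cfsg.Lib.SelfCentEight.bound_main hS (four D t) (card_four D t) (fun x hx => four_sq D hx)
      fun g hg => ht (mem_centralizer_iff.2 fun x hx => (hg x hx).symm))

end Cfsg.Lib.SelfCentQuat
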