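import Cfsg.Agent.TwoFusion.TransferApps
import Cfsg.Agent.InvolCalc.ZStarApps

/-!
Abelian Sylow 2-subgroups and groups without subgroups of index 2.
-/

set_option autoImplicit false

namespace Cfsg.Lib.TwoFusion

open Subgroup

variable {G : Type*} [Group G] [Finite G]

/-- With abelian `S` and no subgroup of index 2, `N(S)` fixes only `1` in `S`. -/
theorem eq_one_of_normalizer_fixed (hG : ∀ H : Subgroup G, H.index ≠ 2) (S : Sylow 2 G)
    (hS : IsMulCommutative (S : Subgroup G)) {y : G} (hy : y ∈ (S : Subgroup G))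
    (hfix : ∀ n ∈ normalizer ((S : Subgroup G) : Set G), n * y * n⁻¹ = y) : y = 1 := by
  haveI : Fact (Nat.Prime 2) := ⟨Nat.prime_two⟩
  by_contra hne
  haveI := hS
  letI : CommGroup (S : Subgroup G) :=
    { (inferInstance : Group (S : Subgroup G)) with mul_comm := fun a b => mul_comm' a b }
  have h0 := transfer_eq_pow_of_image (MonoidHom.id (S : Subgroup G)) ⟨y, hy⟩ fun k a h => by
    obtain ⟨n, hn, he⟩ := Sylow.conj_eq_normalizer_conj_of_mem S (y ^ k) a (pow_mem hy k) h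
    refine Subtype.ext ?_
    show a⁻¹ * y ^ k * a = ((⟨y, hy⟩ : (S : Subgroup G)) ^ k : (S : Subgroup G)).val
    rw [he, SubgroupClass.coe_pow]
    have := hfix n⁻¹ (Subgroup.inv_mem _ hn)
    rw [inv_inv] at this
    calc n⁻¹ * y ^ k * n = (n⁻¹ * y * n⁻¹⁻¹) ^ k := by rw [conj_pow, inv_inv]
      _ = y ^ k := by rw [inv_inv, this]
  set τ := MonoidHom.transfer (MonoidHom.id (S : Subgroup G))
  have hτ : τ y ≠ 1 := by
    intro h
    rw [h] at h0
    obtain ⟨j, hj⟩ := S.isPGroup' ⟨y, hy⟩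
    have h1 := Nat.eq_one_of_dvd_coprimes
      ((Nat.prime_two.coprime_iff_not_dvd.mpr S.not_dvd_index).pow_left j)
      (orderOf_dvd_of_pow_eq_one hj) (orderOf_dvd_of_pow_eq_one h0.symm)
    exact hne (congrArg Subtype.val (orderOf_eq_one_iff.mp h1))
  obtain ⟨m, hm⟩ := IsPGroup.iff_card.mp (S.isPGroup'.to_subgroup τ.range)
  obtain _ | m := m
  · have : τ.range = ⊥ := Subgroup.eq_bot_of_card_eq _ (by rw [hm, pow_zero])
    exact hτ (Subgroup.mem_bot.mp (this ▸ (⟨y, rfl⟩ : τ y ∈ τ.range)))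
  obtain ⟨M, hM⟩ := Sylow.exists_subgroup_card_pow_prime (G := τ.range) 2
    (show 2 ^ m ∣ Nat.card τ.range from hm ▸ pow_dvd_pow 2 m.le_succ)
  refine hG (M.comap τ.rangeRestrict) ?_
  rw [Subgroup.index_comap_of_surjective _ τ.rangeRestrict_surjective]
  have h2 := M.card_mul_index
  rw [hM, hm, pow_succ] at h2
  exact Nat.eq_of_mul_eq_mul_left (pow_pos two_pos m) h2

/-- Every involution of `S` is `N(S)`-conjugate into a subgroup of corank one. -/
theorem exists_conj_into_corank_one (hG : ∀ H : Subgroup G, H.index ≠ 2) (S : Sylow 2 G)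
    (hS : IsMulCommutative (S : Subgroup G)) (r : ℕ) (hr1 : 1 ≤ r)
    (hSr : Cfsg.PRankLE 2 r (S : Subgroup G) ∧ ¬ Cfsg.PRankLE 2 (r - 1) (S : Subgroup G))
    (R : Subgroup G) (hRS : R ≤ S)
    (hRr : Cfsg.PRankLE 2 (r - 1) R ∧ (r = 1 ∨ ¬ Cfsg.PRankLE 2 (r - 2) R)) (t : G)
    (ht : orderOf t = 2) (htS : t ∈ S) :
    ∃ n ∈ normalizer ((S : Subgroup G) : Set G), n * t * n⁻¹ ∈ R := by
  classical
  haveI : Fact (Nat.Prime 2) := ⟨Nat.prime_two⟩
  haveI := hS
  by_contra hno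
  push Not at hno
  have hcomm : ∀ a ∈ (S : Subgroup G), ∀ b ∈ (S : Subgroup G), a * b = b * a := fun a ha b hb =>
    congrArg Subtype.val (mul_comm' (⟨a, ha⟩ : (S : Subgroup G)) ⟨b, hb⟩)
  let V : Subgroup G :=
    { carrier := {x | x ∈ (S : Subgroup G) ∧ x * x = 1}
      one_mem' := ⟨Subgroup.one_mem _, one_mul 1⟩
      mul_mem' := fun {a b} ha hb => ⟨Subgroup.mul_mem _ ha.1 hb.1, by
        calc a * b * (a * b) = a * (b * a) * b := by group
          _ = a * (a * b) * b := by rw [hcomm b hb.1 a ha.1]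
          _ = a * a * (b * b) := by group
          _ = 1 := by rw [ha.2, hb.2, one_mul]⟩
      inv_mem' := fun {a} ha => ⟨Subgroup.inv_mem _ ha.1, by
        rw [← mul_inv_rev, ha.2, inv_one]⟩ }
  have hVS : V ≤ (S : Subgroup G) := fun _ h => h.1
  set W := V ⊓ R
  have hcardle : ∀ {Q U : Subgroup G} {k : ℕ}, Cfsg.PRankLE 2 k Q → U ≤ V → U ≤ Q →
      Nat.card U ≤ 2 ^ k := by
    intro Q U k h hUV hUQ
    rw [← Nat.card_congr (subgroupOfEquivOfLe hUQ).toEquiv]
    refine h _ ⟨⟨fun a b => Subtype.ext (Subtype.ext ?_)⟩⟩ fun a ha => ?_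
    · exact hcomm _ (hVS (hUV a.2)) _ (hVS (hUV b.2))
    · exact Subtype.ext (by rw [SubgroupClass.coe_pow, pow_two]; exact (hUV ha).2)
  have hbig : ∀ {Q : Subgroup G} {k : ℕ}, Q ≤ (S : Subgroup G) → ¬ Cfsg.PRankLE 2 k Q →
      2 ^ k < Nat.card (V ⊓ Q : Subgroup G) := by
    intro Q k hQ h
    simp only [Cfsg.PRankLE, not_forall] at h
    obtain ⟨A, -, hA2, hAc⟩ := h
    refine lt_of_lt_of_le (not_le.mp hAc) ?_
    rw [← Subgroup.card_map_of_injective Q.subtype_injective]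
    refine Subgroup.card_le_of_le ?_
    rintro _ ⟨a, ha, rfl⟩
    exact ⟨⟨hQ a.2, by rw [← pow_two]; exact congrArg Subtype.val (hA2 a ha)⟩, a.2⟩
  obtain ⟨v, hv⟩ := IsPGroup.iff_card.mp (S.isPGroup'.of_injective _ (inclusion_injective hVS))
  obtain ⟨w, hw⟩ := IsPGroup.iff_card.mp (S.isPGroup'.of_injective _
    (inclusion_injective ((inf_le_left : W ≤ V).trans hVS)))
  have hv1 : v = r := by
    have h1 := hcardle hSr.1 le_rfl hVS
    rw [hv] at h1
    have h2 := hbig le_rfl hSr.2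
    rw [inf_eq_left.mpr hVS, hv] at h2
    have := (Nat.pow_le_pow_iff_right one_lt_two).mp h1
    have := (Nat.pow_lt_pow_iff_right one_lt_two).mp h2
    omega
  have hw1 : w = r - 1 := by
    have h1 := hcardle hRr.1 (inf_le_left : W ≤ V) inf_le_right
    rw [hw] at h1
    have := (Nat.pow_le_pow_iff_right one_lt_two).mp h1
    rcases hRr.2 with hr | hr
    · omega
    · have h2 := hbig hRS hr
      rw [show V ⊓ R = W from rfl, hw] at h2
      have := (Nat.pow_lt_pow_iff_right one_lt_two).mp h2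
      omega
  have hidx : W.relIndex V = 2 := by
    have h := Subgroup.relIndex_mul_relIndex ⊥ W V bot_le inf_le_left
    rw [relIndex_bot_left, relIndex_bot_left, hw, hv, hw1, hv1] at h
    refine Nat.eq_of_mul_eq_mul_left (pow_pos two_pos (r - 1)) (h.trans ?_)
    rw [← pow_succ, Nat.sub_add_cancel hr1]
  set N := normalizer ((S : Subgroup G) : Set G)
  have hNV : ∀ n : N, ∀ x ∈ V, (n : G) * x * (n : G)⁻¹ ∈ V := fun n x hx =>
    ⟨(mem_normalizer_iff.mp n.2 x).mp hx.1, by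
      rw [show (n : G) * x * (n : G)⁻¹ * ((n : G) * x * (n : G)⁻¹) =
        (n : G) * (x * x) * (n : G)⁻¹ by group, hx.2, mul_one, mul_inv_cancel]⟩
  have htV : t ∈ V := ⟨htS, by rw [← pow_two, ← ht, pow_orderOf_eq_one]⟩
  -- the orbit of `t`
  let act : MulAction N V :=
    { smul := fun n x => ⟨(n : G) * x * (n : G)⁻¹, hNV n x x.2⟩
      one_smul := fun x => Subtype.ext
        (show ((1 : N) : G) * (x : G) * ((1 : N) : G)⁻¹ = x by simp)
      mul_smul := fun a b x => Subtype.ext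
        (show (((a * b : N) : N) : G) * (x : G) * (((a * b : N) : N) : G)⁻¹ =
          (a : G) * ((b : G) * x * (b : G)⁻¹) * (a : G)⁻¹ by simp [mul_assoc]) }
  letI := act
  have hsmul : ∀ (n : N) (x : V), ((n • x : V) : G) = (n : G) * x * (n : G)⁻¹ := fun _ _ => rfl
  haveI := Fintype.ofFinite (MulAction.orbit N (⟨t, htV⟩ : V))
  have hodd : Odd (Fintype.card (MulAction.orbit N (⟨t, htV⟩ : V))) := by
    rw [← Nat.card_eq_fintype_card,
      Nat.card_congr (MulAction.orbitEquivQuotientStabilizer N (⟨t, htV⟩ : V)), ← Subgroup.index]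
    rw [← Nat.not_even_iff_odd]
    intro he
    refine S.not_dvd_index ((he.two_dvd).trans ?_)
    have hle : ((S : Subgroup G).subgroupOf N) ≤ MulAction.stabilizer N (⟨t, htV⟩ : V) :=
      fun n hn => Subtype.ext (show (n : G) * t * (n : G)⁻¹ = t by
        rw [hcomm (n : G) hn t htS, mul_inv_cancel_right])
    refine (Subgroup.index_dvd_of_le hle).trans ?_
    show (S : Subgroup G).relIndex N ∣ _
    exact Subgroup.relIndex_dvd_index_of_le le_normalizer
  letI : CommGroup V :=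
    { (inferInstance : Group V) with
      mul_comm := fun a b => Subtype.ext (hcomm _ (hVS a.2) _ (hVS b.2)) }
  set y : V := ∏ x : MulAction.orbit N (⟨t, htV⟩ : V), (x : V) with hy
  have hyfix : ∀ n ∈ N, n * (y : G) * n⁻¹ = y := by
    intro n hn
    let c : V →* V :=
      MonoidHom.mk' (fun x => (⟨n, hn⟩ : N) • x) fun a b => Subtype.ext (by
        simp only [hsmul, Subgroup.coe_mul]; group)
    have h1 : c y = y := by
      rw [hy, map_prod]
      exact Fintype.prod_equiv (MulAction.toPerm (⟨n, hn⟩ : N)) _ _ fun x => rfl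
    exact congrArg Subtype.val h1
  have hy1 := eq_one_of_normalizer_fixed hG S hS (hVS y.2) hyfix
  set π := QuotientGroup.mk' (W.subgroupOf V)
  have hq : Nat.card (V ⧸ W.subgroupOf V) = 2 := hidx
  have hne : ∀ x : MulAction.orbit N (⟨t, htV⟩ : V), π (x : V) ≠ 1 := by
    rintro ⟨x, n, rfl⟩ h
    exact hno n n.2 (Subgroup.mem_inf.mp (mem_subgroupOf.mp ((QuotientGroup.eq_one_iff _).mp h))).2
  obtain ⟨q, hq1, hq2⟩ : ∃ q : V ⧸ W.subgroupOf V, q ≠ 1 ∧ ∀ a, a ≠ 1 → a = q := by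
    obtain ⟨q, hq, huniq⟩ := (Nat.card_eq_two_iff' (1 : V ⧸ W.subgroupOf V)).mp hq
    exact ⟨q, hq, fun a ha => huniq a ha⟩
  have h1 : π y = q ^ Fintype.card (MulAction.orbit N (⟨t, htV⟩ : V)) := by
    rw [hy, map_prod, ← Finset.card_univ, ← Finset.prod_const]
    exact Finset.prod_congr rfl fun x _ => hq2 _ (hne x)
  have hy0 : y = 1 := Subtype.ext hy1
  rw [hy0, map_one] at h1
  have h2 : orderOf q ∣ 2 := hq ▸ orderOf_dvd_natCard q
  exact hq1 (orderOf_eq_one_iff.mp (Nat.eq_one_of_dvd_coprimes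
    (Nat.coprime_two_right.mpr hodd).symm h2 (orderOf_dvd_of_pow_eq_one h1.symm)))

end Cfsg.Lib.TwoFusion
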